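import Mathlib
import Cfsg.Agent.H10.SmallIso

/-!
Pairs of elements of `SL₂(F)` are determined up to conjugacy by three traces; the icosahedral
subgroup.
-/

set_option autoImplicit false

namespace Cfsg.Agent.H10

open MulAction Matrix Projectivization
open scoped MatrixGroups LinearAlgebra.Projectivization

variable {F : Type*} [Field F]

theorem sl2_mul_self (x : SL(2, F)) : x.1 * x.1 = x.1.trace • x.1 - 1 := by
  rw [← sl2_sq, sq, Matrix.SpecialLinearGroup.coe_mul]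

theorem mat2_mul_comm (x y : Matrix (Fin 2) (Fin 2) F) :
    y * x = -(x * y) + x.trace • y + y.trace • x + ((x * y).trace - x.trace * y.trace) • 1 := by
  ext i j
  fin_cases i <;> fin_cases j <;> simp [Matrix.mul_apply, Fin.sum_univ_two, trace_fin_two] <;> ring

theorem sl2_det_comm (x y : SL(2, F)) : (x.1 * y.1 - y.1 * x.1).det =
    4 - x.1.trace ^ 2 - y.1.trace ^ 2 - (x.1 * y.1).trace ^ 2 +
      x.1.trace * y.1.trace * (x.1 * y.1).trace := by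
  have hx := x.2
  have hy := y.2
  rw [det_fin_two] at hx hy
  simp only [det_fin_two, trace_fin_two, Matrix.sub_apply, Matrix.mul_apply, Fin.sum_univ_two]
  linear_combination (4 * (y.1 0 0 * y.1 1 1 - y.1 0 1 * y.1 1 0) - (y.1 0 0 + y.1 1 1) ^ 2) * hx +
    (4 - (x.1 0 0 + x.1 1 1) ^ 2) * hy

/-- Coordinates with respect to `1, x, y, x y`. -/
def pairComb (x y : Matrix (Fin 2) (Fin 2) F) : (Fin 4 → F) →ₗ[F] Matrix (Fin 2) (Fin 2) F where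
  toFun c := c 0 • 1 + c 1 • x + c 2 • y + c 3 • (x * y)
  map_add' c d := by simp only [Pi.add_apply, add_smul]; abel
  map_smul' a c := by simp only [Pi.smul_apply, smul_eq_mul, RingHom.id_apply, smul_add, mul_smul]

theorem pairComb_apply (x y : Matrix (Fin 2) (Fin 2) F) (c : Fin 4 → F) :
    pairComb x y c = c 0 • 1 + c 1 • x + c 2 • y + c 3 • (x * y) := rfl

theorem mul_pairComb_left (x y : SL(2, F)) (c : Fin 4 → F) : x.1 * pairComb x.1 y.1 c =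
    pairComb x.1 y.1 ![-c 1, c 0 + x.1.trace * c 1, -c 3, c 2 + x.1.trace * c 3] := by
  simp only [pairComb_apply, Matrix.mul_add, Matrix.mul_smul, ← Matrix.mul_assoc, sl2_mul_self,
    Matrix.sub_mul, Matrix.smul_mul, Matrix.one_mul, Matrix.mul_one]
  simp only [cons_val_zero, cons_val_one, cons_val]
  module

theorem mul_pairComb_right (x y : SL(2, F)) (c : Fin 4 → F) : y.1 * pairComb x.1 y.1 c =
    pairComb x.1 y.1 ![((x.1 * y.1).trace - x.1.trace * y.1.trace) * c 1 - c 2 - x.1.trace * c 3,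
      y.1.trace * c 1 + c 3,
      c 0 + x.1.trace * c 1 + y.1.trace * c 2 + (x.1 * y.1).trace * c 3, -c 1] := by
  simp only [pairComb_apply, Matrix.mul_add, Matrix.mul_smul, ← Matrix.mul_assoc, sl2_mul_self,
    Matrix.mul_one]
  rw [mat2_mul_comm x.1 y.1]
  simp only [Matrix.add_mul, Matrix.neg_mul, Matrix.smul_mul, Matrix.mul_assoc, sl2_mul_self,
    Matrix.mul_sub, Matrix.mul_smul, Matrix.one_mul, Matrix.mul_one]
  simp only [cons_val_zero, cons_val_one, cons_val]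
  module

theorem pairComb_bijective {x y : Matrix (Fin 2) (Fin 2) F} (h : (x * y - y * x).det ≠ 0) :
    Function.Bijective (pairComb x y) := by
  have hinj : Function.Injective (pairComb x y) := by
    rw [injective_iff_map_eq_zero]
    intro c hc
    rw [pairComb_apply] at hc
    have hu : IsUnit (x * y - y * x) := (isUnit_iff_isUnit_det _).2 h.isUnit
    have h0 : x * y - y * x ≠ 0 := hu.ne_zero
    have h1 : (c 2 • 1 + c 3 • x) * (x * y - y * x) = 0 := by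
      have := congrArg (fun m => x * m - m * x) hc
      simp only [Matrix.mul_add, Matrix.add_mul, Matrix.mul_smul, Matrix.smul_mul, Matrix.mul_one,
        Matrix.one_mul, Matrix.mul_zero, Matrix.zero_mul, sub_zero, Matrix.mul_assoc,
        Matrix.mul_sub] at this ⊢
      rw [← this]; module
    rw [hu.mul_left_eq_zero] at h1
    have key : ∀ a b : F, a • (1 : Matrix (Fin 2) (Fin 2) F) + b • x = 0 → a = 0 ∧ b = 0 := by
      intro a b hab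
      have h2 : b • (x * y - y * x) = 0 := by
        have := congrArg (fun m => m * y - y * m) hab
        simp only [Matrix.mul_add, Matrix.add_mul, Matrix.mul_smul, Matrix.smul_mul, Matrix.mul_one,
          Matrix.one_mul, Matrix.mul_zero, Matrix.zero_mul, sub_zero] at this
        rw [← this]; module
      have h3 := (smul_eq_zero.1 h2).resolve_right h0
      rw [h3, zero_smul, add_zero] at hab
      exact ⟨(smul_eq_zero.1 hab).resolve_right one_ne_zero, h3⟩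
    obtain ⟨h2, h3⟩ := key _ _ h1
    rw [h2, h3, zero_smul, zero_smul, add_zero, add_zero] at hc
    obtain ⟨h4, h5⟩ := key _ _ hc
    ext i
    fin_cases i <;> assumption
  exact ⟨hinj, (LinearMap.injective_iff_surjective_of_finrank_eq_finrank (by
    simp [Module.finrank_matrix])).1 hinj⟩

/-- Rigidity of irreducible pairs in `SL₂`. -/
theorem exists_conj_of_traces {x y x' y' : SL(2, F)} (h1 : x.1.trace = x'.1.trace)
    (h2 : y.1.trace = y'.1.trace) (h3 : (x.1 * y.1).trace = (x'.1 * y'.1).trace)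
    (hd : (x.1 * y.1 - y.1 * x.1).det ≠ 0) :
    ∃ g : GL (Fin 2) F, conjSL g x = x' ∧ conjSL g y = y' := by
  let E := LinearEquiv.ofBijective _ (pairComb_bijective hd)
  let φ := (pairComb x'.1 y'.1).comp E.symm.toLinearMap
  have hφ : ∀ c, φ (pairComb x.1 y.1 c) = pairComb x'.1 y'.1 c := fun c =>
    congrArg (pairComb x'.1 y'.1) (E.symm_apply_apply c)
  have hx : ∀ m, φ (x.1 * m) = x'.1 * φ m := fun m => by
    obtain ⟨c, rfl⟩ := (pairComb_bijective hd).2 m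
    rw [mul_pairComb_left, hφ, hφ, mul_pairComb_left, h1]
  have hy : ∀ m, φ (y.1 * m) = y'.1 * φ m := fun m => by
    obtain ⟨c, rfl⟩ := (pairComb_bijective hd).2 m
    rw [mul_pairComb_right, hφ, hφ, mul_pairComb_right, h1, h2, h3]
  let g : Fin 2 → Fin 2 → Matrix (Fin 2) (Fin 2) F := fun k l => of fun i j => φ (single j k 1) i l
  have hg : ∀ k l (a a' : Matrix (Fin 2) (Fin 2) F), (∀ m, φ (a * m) = a' * φ m) →
      g k l * a = a' * g k l := fun k l a a' ha => by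
    ext i j
    have e1 : a * single j k 1 = a 0 j • single 0 k 1 + a 1 j • single 1 k 1 := by
      ext r s
      fin_cases r <;> fin_cases j <;> fin_cases k <;> fin_cases s <;>
        simp [Matrix.mul_apply, Fin.sum_univ_two]
    have e2 := congrFun (congrFun (ha (single j k 1)) i) l
    rw [e1, map_add, map_smul, map_smul] at e2
    simp only [Matrix.add_apply, Matrix.smul_apply, smul_eq_mul, Matrix.mul_apply,
      Fin.sum_univ_two] at e2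
    simp only [g, Matrix.mul_apply, Fin.sum_univ_two, of_apply]
    rw [← e2]; ring
  obtain ⟨k, l, hkl⟩ : ∃ k l, g k l ≠ 0 := by
    by_contra hc
    push Not at hc
    have e1 : ∀ j k, φ (single j k 1) = 0 := fun j k => by
      ext i l
      exact congrFun (congrFun (hc k l) i) j
    have e2 := hφ ![1, 0, 0, 0]
    simp only [pairComb_apply, cons_val_zero, cons_val_one, cons_val, one_smul, zero_smul,
      add_zero] at e2
    have e3 : (1 : Matrix (Fin 2) (Fin 2) F) = single 0 0 1 + single 1 1 1 := by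
      ext i j; fin_cases i <;> fin_cases j <;> simp
    rw [e3, map_add, e1, e1, add_zero, ← e3] at e2
    exact zero_ne_one e2
  have hx' := hg k l _ _ hx
  have hy' := hg k l _ _ hy
  have hdet : (g k l).det ≠ 0 := fun h0 => by
    obtain ⟨v, hv, hgv⟩ := exists_mulVec_eq_zero_iff.2 h0
    have e1 : ∀ m : Matrix (Fin 2) (Fin 2) F, g k l *ᵥ (m *ᵥ v) = 0 := fun m => by
      obtain ⟨c, rfl⟩ := (pairComb_bijective hd).2 m
      rw [mulVec_mulVec, pairComb_apply]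
      simp only [Matrix.mul_add, Matrix.mul_smul, Matrix.mul_one, ← Matrix.mul_assoc, hx']
      simp only [Matrix.mul_assoc, hy', add_mulVec, smul_mulVec, ← mulVec_mulVec, hgv, mulVec_zero,
        smul_zero, add_zero]
    obtain ⟨r, hr⟩ := Function.ne_iff.1 hv
    replace hr : v r ≠ 0 := hr
    apply hkl
    ext i j
    have e2 := congrFun (e1 (single j r 1)) i
    rw [single_mulVec] at e2
    fin_cases j <;> simpa [mulVec, dotProduct, Fin.sum_univ_two, hr] using e2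
  refine ⟨GeneralLinearGroup.mkOfDetNeZero _ hdet, Subtype.ext ?_, Subtype.ext ?_⟩
  · exact (Units.mul_inv_eq_iff_eq_mul _).2 hx'
  · exact (Units.mul_inv_eq_iff_eq_mul _).2 hy'

/-- Coordinates of the 120 elements of the binary icosahedral group. -/
def ico120 : List (ℤ × ℤ × ℤ × ℤ × ℤ × ℤ × ℤ × ℤ) :=
  [(-1, -1, -1, 0, 0, 0, 1, 1), (-1, -1, -1, 0, 1, 0, 1, 1), (-1, -1, 0, -1, 0, 0, 0, 2),
   (-1, -1, 0, -1, 0, 0, 1, 1), (-1, -1, 0, 0, 0, 1, 0, 1), (-1, -1, 0, 0, 0, 1, 1, 1),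
   (-1, -1, 0, 0, 1, 0, 0, 1), (-1, -1, 0, 0, 1, 0, 1, 1), (-1, -1, 0, 1, 1, 1, 0, 1),
   (-1, -1, 0, 1, 1, 1, 1, 0), (-1, -1, 1, 0, 0, 1, 0, 1), (-1, -1, 1, 0, 1, 1, 0, 1),
   (-1, 0, -1, -1, 0, -1, 0, 1), (-1, 0, -1, -1, 0, -1, 1, 1), (-1, 0, 0, -1, 0, -1, 0, 1),
   (-1, 0, 0, -1, 0, 0, 0, 1), (-1, 0, 0, 0, 0, 0, 0, 0), (-1, 0, 0, 0, 0, 0, 0, 1),
   (-1, 0, 0, 0, 1, 0, 0, 0), (-1, 0, 0, 0, 1, 0, 0, 1), (-1, 0, 0, 1, 1, 0, 0, 0),
   (-1, 0, 0, 1, 1, 1, 0, 0), (-1, 0, 1, 1, 1, 1, -1, 0), (-1, 0, 1, 1, 1, 1, 0, 0),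
   (0, -2, 0, 0, 0, 1, 1, 1), (0, -1, -1, -1, -1, 0, 1, 1), (0, -1, -1, -1, 0, -1, 1, 1),
   (0, -1, -1, 0, 0, 0, 1, 0), (0, -1, -1, 0, 0, 0, 1, 1), (0, -1, 0, -1, -1, 0, 0, 1),
   (0, -1, 0, -1, -1, 0, 1, 1), (0, -1, 0, -1, 0, 0, 0, 1), (0, -1, 0, -1, 0, 0, 1, 1),
   (0, -1, 0, 0, 0, 0, 0, 1), (0, -1, 0, 0, 0, 0, 1, 0), (0, -1, 0, 0, 0, 1, 0, 1),
   (0, -1, 0, 0, 0, 1, 1, 0), (0, -1, 0, 1, 0, 1, 0, 0), (0, -1, 0, 1, 0, 1, 1, 0),
   (0, -1, 0, 1, 1, 1, 0, 0), (0, -1, 0, 1, 1, 1, 1, 0), (0, -1, 1, 0, 0, 1, 0, 0),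
   (0, -1, 1, 0, 0, 1, 0, 1), (0, -1, 1, 1, 0, 2, 0, 0), (0, -1, 1, 1, 1, 1, 0, 0),
   (0, 0, -1, -1, -1, -1, 0, 1), (0, 0, -1, -1, -1, -1, 1, 0), (0, 0, -1, -1, 0, -1, 0, 1),
   (0, 0, -1, -1, 0, -1, 1, 0), (0, 0, -1, 0, 0, -1, 0, 0), (0, 0, -1, 0, 0, -1, 1, 0),
   (0, 0, -1, 0, 0, 0, 0, 0), (0, 0, -1, 0, 0, 0, 1, 0), (0, 0, 0, -2, -1, -1, 0, 1),
   (0, 0, 0, -1, -1, 0, 0, 0), (0, 0, 0, -1, -1, 0, 0, 1), (0, 0, 0, -1, 0, -1, 0, 0),
   (0, 0, 0, -1, 0, -1, 0, 1), (0, 0, 0, 0, -1, 0, 0, 0), (0, 0, 0, 0, 0, 0, -1, 0),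
   (0, 0, 0, 0, 0, 0, 1, 0), (0, 0, 0, 0, 1, 0, 0, 0), (0, 0, 0, 1, 0, 1, 0, -1),
   (0, 0, 0, 1, 0, 1, 0, 0), (0, 0, 0, 1, 1, 0, 0, -1), (0, 0, 0, 1, 1, 0, 0, 0),
   (0, 0, 0, 2, 1, 1, 0, -1), (0, 0, 1, 0, 0, 0, -1, 0), (0, 0, 1, 0, 0, 0, 0, 0),
   (0, 0, 1, 0, 0, 1, -1, 0), (0, 0, 1, 0, 0, 1, 0, 0), (0, 0, 1, 1, 0, 1, -1, 0),
   (0, 0, 1, 1, 0, 1, 0, -1), (0, 0, 1, 1, 1, 1, -1, 0), (0, 0, 1, 1, 1, 1, 0, -1),
   (0, 1, -1, -1, -1, -1, 0, 0), (0, 1, -1, -1, 0, -2, 0, 0), (0, 1, -1, 0, 0, -1, 0, -1),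
   (0, 1, -1, 0, 0, -1, 0, 0), (0, 1, 0, -1, -1, -1, -1, 0), (0, 1, 0, -1, -1, -1, 0, 0),
   (0, 1, 0, -1, 0, -1, -1, 0), (0, 1, 0, -1, 0, -1, 0, 0), (0, 1, 0, 0, 0, -1, -1, 0),
   (0, 1, 0, 0, 0, -1, 0, -1), (0, 1, 0, 0, 0, 0, -1, 0), (0, 1, 0, 0, 0, 0, 0, -1),
   (0, 1, 0, 1, 0, 0, -1, -1), (0, 1, 0, 1, 0, 0, 0, -1), (0, 1, 0, 1, 1, 0, -1, -1),
   (0, 1, 0, 1, 1, 0, 0, -1), (0, 1, 1, 0, 0, 0, -1, -1), (0, 1, 1, 0, 0, 0, -1, 0),
   (0, 1, 1, 1, 0, 1, -1, -1), (0, 1, 1, 1, 1, 0, -1, -1), (0, 2, 0, 0, 0, -1, -1, -1),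
   (1, 0, -1, -1, -1, -1, 0, 0), (1, 0, -1, -1, -1, -1, 1, 0), (1, 0, 0, -1, -1, -1, 0, 0),
   (1, 0, 0, -1, -1, 0, 0, 0), (1, 0, 0, 0, -1, 0, 0, -1), (1, 0, 0, 0, -1, 0, 0, 0),
   (1, 0, 0, 0, 0, 0, 0, -1), (1, 0, 0, 0, 0, 0, 0, 0), (1, 0, 0, 1, 0, 0, 0, -1),
   (1, 0, 0, 1, 0, 1, 0, -1), (1, 0, 1, 1, 0, 1, -1, -1), (1, 0, 1, 1, 0, 1, 0, -1),
   (1, 1, -1, 0, -1, -1, 0, -1), (1, 1, -1, 0, 0, -1, 0, -1), (1, 1, 0, -1, -1, -1, -1, 0),
   (1, 1, 0, -1, -1, -1, 0, -1), (1, 1, 0, 0, -1, 0, -1, -1), (1, 1, 0, 0, -1, 0, 0, -1),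
   (1, 1, 0, 0, 0, -1, -1, -1), (1, 1, 0, 0, 0, -1, 0, -1), (1, 1, 0, 1, 0, 0, -1, -1),
   (1, 1, 0, 1, 0, 0, 0, -2), (1, 1, 1, 0, -1, 0, -1, -1), (1, 1, 1, 0, 0, 0, -1, -1)]

theorem ico120_closed : ∀ v ∈ ico120,
    (-v.2.2.1, -v.2.2.2.1, v.1, v.2.1, -v.2.2.2.2.2.2.1, -v.2.2.2.2.2.2.2, v.2.2.2.2.1,
      v.2.2.2.2.2.1) ∈ ico120 ∧
    (v.2.2.2.1 - v.2.2.2.2.1, v.2.2.1 + v.2.2.2.1 - v.2.2.2.2.2.1, v.2.2.1 + v.2.2.2.2.2.2.1,
      v.2.2.2.1 + v.2.2.2.2.2.2.2, v.1 + v.2.2.2.2.1 + v.2.2.2.2.2.2.2,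
      v.2.1 + v.2.2.2.2.2.1 + v.2.2.2.2.2.2.1 + v.2.2.2.2.2.2.2, -v.2.2.1, -v.2.2.2.1) ∈ ico120 := by
  decide +kernel

theorem card_closure_ico_le [Finite F] {x y : SL(2, F)} (h1 : x.1.trace = 0) (h2 : y.1.trace = 1)
    (h3 : (x.1 * y.1).trace ^ 2 = (x.1 * y.1).trace + 1) :
    Nat.card (Subgroup.closure ({x, y} : Set SL(2, F))) ≤ 120 := by
  classical
  set τ := (x.1 * y.1).trace with hτ
  let ψ : ℤ × ℤ × ℤ × ℤ × ℤ × ℤ × ℤ × ℤ → Matrix (Fin 2) (Fin 2) F := fun v =>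
    pairComb x.1 y.1 ![v.1 + v.2.1 * τ, v.2.2.1 + v.2.2.2.1 * τ, v.2.2.2.2.1 + v.2.2.2.2.2.1 * τ,
      v.2.2.2.2.2.2.1 + v.2.2.2.2.2.2.2 * τ]
  have key : ∀ g ∈ Submonoid.closure ({x, y} : Set SL(2, F)), ∃ v ∈ ico120, g.1 = ψ v := by
    intro g hg
    induction hg using Submonoid.closure_induction_left with
    | one => exact ⟨(1, 0, 0, 0, 0, 0, 0, 0), by decide, by simp [ψ, pairComb_apply]⟩
    | mul_left a ha b _ hb =>
      obtain ⟨v, hv, e⟩ := hb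
      rcases ha with rfl | rfl
      · refine ⟨_, (ico120_closed v hv).1, ?_⟩
        rw [Matrix.SpecialLinearGroup.coe_mul, e, mul_pairComb_left, h1]
        congr 1
        ext i
        fin_cases i <;> simp <;> ring
      · refine ⟨_, (ico120_closed v hv).2, ?_⟩
        rw [Matrix.SpecialLinearGroup.coe_mul, e, mul_pairComb_right, h1, h2, ← hτ]
        congr 1
        ext i
        fin_cases i <;> simp
        · linear_combination (v.2.2.2.1 : F) * h3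
        · ring
        · linear_combination (v.2.2.2.2.2.2.2 : F) * h3
        · ring
  have h4 : Nat.card (Subgroup.closure ({x, y} : Set SL(2, F))) ≤ (ico120.map ψ).toFinset.card := by
    rw [← Fintype.card_coe, ← Nat.card_eq_fintype_card]
    refine Nat.card_le_card_of_injective (fun g => ⟨g.1.1, ?_⟩) fun a b h =>
      Subtype.ext (Subtype.ext (Subtype.mk.inj h))
    obtain ⟨v, hv, e⟩ := key g.1 (by rw [← Subgroup.closure_toSubmonoid_of_finite]; exact g.2)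
    rw [List.mem_toFinset, e]
    exact List.mem_map_of_mem hv
  exact h4.trans ((List.toFinset_card_le _).trans (by rw [List.length_map]; rfl))

end Cfsg.Agent.H10
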