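import Mathlib
import Cfsg.Agent.H10.Transv

/-! Traces of products of conjugates in `SL_n`. -/

set_option autoImplicit false

namespace Cfsg.Agent.H10

open Matrix

variable {ι : Type*} [Fintype ι] [DecidableEq ι] {F : Type*} [Field F]

theorem ah_exists_dot {A : Matrix ι ι F} (hA : ¬ ∃ c : F, A = c • (1 : Matrix ι ι F)) :
    ∃ v χ : ι → F, χ ⬝ᵥ v = 0 ∧ χ ⬝ᵥ (A *ᵥ v) ≠ 0 := by
  by_contra hcon
  push Not at hcon
  apply hA
  have hoff : ∀ i j, i ≠ j → A j i = 0 := by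
    intro i j hij
    have := hcon (Pi.single i 1) (Pi.single j 1) (by simp [hij.symm])
    simpa using this
  rcases isEmpty_or_nonempty ι with hι | ⟨⟨i0⟩⟩
  · exact ⟨0, Subsingleton.elim _ _⟩
  refine ⟨A i0 i0, ?_⟩
  ext i j
  by_cases hij : i = j
  · subst hij
    by_cases h0 : i = i0
    · subst h0; simp
    · have := hcon (Pi.single i 1 + Pi.single i0 1) (Pi.single i 1 - Pi.single i0 1)
        (by simp [h0, Ne.symm h0, dotProduct_add, sub_dotProduct])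
      simp only [mulVec_add, sub_dotProduct, dotProduct_add, single_dotProduct, one_mul,
        mulVec_single_one, col_apply] at this
      rw [hoff i0 i (Ne.symm h0), hoff i i0 h0] at this
      simp only [Matrix.smul_apply, one_apply_eq, smul_eq_mul, mul_one]
      linear_combination this
  · simp [hoff j i (Ne.symm hij), one_apply_ne hij]

omit [DecidableEq ι] in
theorem ah_trace_vecMulVec (M : Matrix ι ι F) (v f : ι → F) :
    (M * vecMulVec v f).trace = f ⬝ᵥ (M *ᵥ v) := by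
  rw [mul_vecMulVec, trace_vecMulVec, dotProduct_comm]

theorem ah_trace (A B : Matrix ι ι F) (v f : ι → F) (t : F) (hA : f ⬝ᵥ (A *ᵥ v) = 0) :
    (A * ((1 + vecMulVec v (t • f)) * B * (1 + vecMulVec v (-(t • f))))).trace =
      (A * B).trace + t * (f ⬝ᵥ ((B * A) *ᵥ v) - f ⬝ᵥ ((A * B) *ᵥ v)) := by
  have e1 : A * ((1 + vecMulVec v (t • f)) * B * (1 + vecMulVec v (-(t • f)))) =
      A * B + A * vecMulVec v (t • f) * B + A * B * vecMulVec v (-(t • f)) +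
        A * vecMulVec v (t • f) * B * vecMulVec v (-(t • f)) := by
    noncomm_ring
  have e2 : (A * vecMulVec v (t • f) * B).trace = t * (f ⬝ᵥ ((B * A) *ᵥ v)) := by
    rw [trace_mul_comm, ← Matrix.mul_assoc, ah_trace_vecMulVec, smul_dotProduct, smul_eq_mul]
  have e3 : (A * B * vecMulVec v (-(t • f))).trace = -(t * (f ⬝ᵥ ((A * B) *ᵥ v))) := by
    rw [ah_trace_vecMulVec, neg_dotProduct, smul_dotProduct, smul_eq_mul]
  have e4 : (A * vecMulVec v (t • f) * B * vecMulVec v (-(t • f))).trace = 0 := by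
    rw [ah_trace_vecMulVec, ← mulVec_mulVec, ← mulVec_mulVec, vecMulVec_mulVec', mulVec_smul,
      dotProduct_smul, neg_dotProduct]
    simp [smul_dotProduct, hA]
  rw [e1, trace_add, trace_add, trace_add, e2, e3, e4]
  ring

/-- For non-scalar `A`, `B` in `SL_n`, `n ≥ 3`, the trace of `A * (g B g⁻¹)` takes every value. -/
theorem ah_exists_trace (h3 : 3 ≤ Fintype.card ι) (A B : SpecialLinearGroup ι F)
    (hA : ¬ ∃ c : F, A.1 = c • (1 : Matrix ι ι F)) (hB : ¬ ∃ c : F, B.1 = c • (1 : Matrix ι ι F))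
    (s : F) : ∃ g : SpecialLinearGroup ι F, (A * (g * B * g⁻¹)).1.trace = s := by
  obtain ⟨v, χ, hχ, hχA⟩ := ah_exists_dot hA
  obtain ⟨u, ψ, hψ, hψB⟩ := ah_exists_dot hB
  have hv : v ≠ 0 := by rintro rfl; simp at hχA
  have hu : u ≠ 0 := by rintro rfl; simp at hψB
  have hψ0 : ψ ≠ 0 := by rintro rfl; simp at hψB
  obtain ⟨φ, hφ0, hφ1, hφ2⟩ := exists_dot_eq_zero₂ h3 v (A.1 *ᵥ v)
  rw [dotProduct_comm] at hφ1 hφ2
  obtain ⟨g1, hg1⟩ := exists_sl_mulVec (by omega) hu hv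
  have hψ1 : (ψ ᵥ* (g1⁻¹).1) ⬝ᵥ v = 0 := by
    rw [← hg1, vecMul_dot_mulVec _ _ (sl_inv_mul_val g1), hψ]
  have hψ10 : ψ ᵥ* (g1⁻¹).1 ≠ 0 := by
    intro h
    apply hψ0
    have : ψ ᵥ* (g1⁻¹).1 ᵥ* g1.1 = ψ := by rw [vecMul_vecMul, sl_inv_mul_val, vecMul_one]
    rw [← this, h, zero_vecMul]
  obtain ⟨g2, hg2, hg2'⟩ := exists_sl_vecMul h3 hφ1 hψ1 hφ0 hψ10
  -- `B1 = (g2 g1) B (g2 g1)⁻¹` has `φ (B1 v) ≠ 0`
  have key : ∃ g : SpecialLinearGroup ι F, φ ⬝ᵥ ((g * B * g⁻¹).1 *ᵥ v) ≠ 0 := by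
    refine ⟨g2 * g1, ?_⟩
    have hinv : ((g2 * g1)⁻¹).1 *ᵥ v = u := by
      have : (g2 * g1).1 *ᵥ u = v := by rw [slv_mul, ← mulVec_mulVec, hg1, hg2]
      rw [← this, mulVec_mulVec, sl_inv_mul_val, one_mulVec]
    rw [slv_mul, slv_mul, ← mulVec_mulVec, hinv, ← mulVec_mulVec, slv_mul, ← mulVec_mulVec,
      dotProduct_mulVec, hg2', vecMul_dot_mulVec _ _ (sl_inv_mul_val g1)]
    exact hψB
  obtain ⟨g, hg⟩ := key
  have key2 : ∃ g : SpecialLinearGroup ι F,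
      φ ⬝ᵥ (((g * B * g⁻¹).1 * A.1) *ᵥ v) - φ ⬝ᵥ ((A.1 * (g * B * g⁻¹).1) *ᵥ v) ≠ 0 := by
    by_cases h0 : φ ⬝ᵥ (((g * B * g⁻¹).1 * A.1) *ᵥ v) - φ ⬝ᵥ ((A.1 * (g * B * g⁻¹).1) *ᵥ v) = 0
    · refine ⟨trv v χ hχ * g, ?_⟩
      have e : trv v χ hχ * g * B * (trv v χ hχ * g)⁻¹ =
          trv v χ hχ * (g * B * g⁻¹) * (trv v χ hχ)⁻¹ := by group
      rw [e]
      generalize g * B * g⁻¹ = C at hg h0
      rw [trv_inv, slv_mul, slv_mul]
      simp only [← mulVec_mulVec, trv_mulVec, mulVec_add, mulVec_smul, dotProduct_add,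
        dotProduct_smul, hφ1, hφ2, neg_dotProduct, hχ, smul_eq_mul, neg_zero, zero_smul,
        add_zero, mul_zero] at h0 ⊢
      intro h1
      have : (χ ⬝ᵥ A.1 *ᵥ v) * (φ ⬝ᵥ C.1 *ᵥ v) = 0 := by linear_combination h0 - h1
      rcases mul_eq_zero.1 this with h | h
      · exact hχA h
      · exact hg h
    · exact ⟨g, h0⟩
  obtain ⟨k, hk⟩ := key2
  set C := k * B * k⁻¹ with hC
  set t : F := (s - (A.1 * C.1).trace) / (φ ⬝ᵥ ((C.1 * A.1) *ᵥ v) - φ ⬝ᵥ ((A.1 * C.1) *ᵥ v))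
    with ht
  have htφ : (t • φ) ⬝ᵥ v = 0 := by rw [smul_dotProduct, hφ1, smul_zero]
  refine ⟨trv v (t • φ) htφ * k, ?_⟩
  have e : trv v (t • φ) htφ * k * B * (trv v (t • φ) htφ * k)⁻¹ =
      trv v (t • φ) htφ * C * (trv v (t • φ) htφ)⁻¹ := by rw [hC]; group
  rw [e, trv_inv, slv_mul, slv_mul, slv_mul, trv_val, trv_val, ah_trace _ _ _ _ _ hφ2, ht,
    div_mul_cancel₀ _ hk]
  ring

theorem ah_trace_conj {X Y : SpecialLinearGroup ι F} (h : IsConj (slQ ι F X) (slQ ι F Y)) :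
    X.1.trace = 0 ↔ Y.1.trace = 0 := by
  obtain ⟨c, hc⟩ := isConj_iff.1 h
  obtain ⟨g, rfl⟩ := slQ_surjective c
  rw [← map_inv, ← map_mul, ← map_mul] at hc
  have htr : (g * X * g⁻¹).1.trace = X.1.trace := by
    rw [slv_mul, slv_mul, trace_mul_comm, ← Matrix.mul_assoc, sl_inv_mul_val, Matrix.one_mul]
  obtain ⟨d, hd⟩ := slQ_eq_iff.1 hc
  obtain ⟨d', hd'⟩ := slQ_eq_iff.1 hc.symm
  constructor
  · intro h0
    rw [hd', trace_smul, htr, h0, smul_zero]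
  · intro h0
    rw [← htr, hd, trace_smul, h0, smul_zero]

theorem not_scalar_of_slQ_ne_one {A : SpecialLinearGroup ι F} (h : slQ ι F A ≠ 1) :
    ¬ ∃ c : F, A.1 = c • (1 : Matrix ι ι F) := by
  rintro ⟨c, hc⟩
  apply h
  rw [← map_one (slQ ι F)]
  exact slQ_eq_iff.2 ⟨c, hc⟩

end Cfsg.Agent.H10
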