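import Mathlib
import Cfsg.Agent.H10.AutSp4
import Cfsg.Prelude.Def_Solvable

/-! Field automorphisms of `PSp_{2m}(q)`; local balance in almost simple groups. -/

set_option autoImplicit false

namespace Cfsg.Agent.H10

open Matrix

section balance

variable {K : Type*} [Group K] {p : ℕ}

/-- A witness for the vanishing of `O_{p'}(C_A(x))` in all groups `A` between `Inn K` and
`Aut K`. -/
def Bal (p : ℕ) (x : MulAut K) : Prop :=
  ∃ L : Subgroup K, (∀ l ∈ L, x l = l) ∧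
    (∀ M ≤ L, (∀ l ∈ L, ∀ a ∈ M, l * a * l⁻¹ ∈ M) → M = ⊥ ∨ ∃ y ∈ M, orderOf y = p) ∧
    (∀ k, x k = k → ∀ l ∈ L, k * l * k⁻¹ ∈ L) ∧
    ∀ θ : MulAut K, (∀ l ∈ L, θ l = l) → ∃ k : ℕ, θ ^ p ^ k = 1

theorem Bal.conj {x : MulAut K} (h : Bal p x) (α : MulAut K) : Bal p (α * x * α⁻¹) := by
  obtain ⟨L, h1, h2, h3, h4⟩ := h
  refine ⟨L.map α.toMonoidHom, ?_, fun M hM hn => ?_, ?_, fun θ hθ => ?_⟩
  · rintro _ ⟨l, hl, rfl⟩
    simp [h1 l hl]
  · refine (h2 (M.comap α.toMonoidHom) (fun a ha => ?_) fun l hl a ha => ?_).imp (fun h => ?_)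
      fun ⟨y, hy, e⟩ => ⟨α y, hy, by rw [MulEquiv.orderOf_eq, e]⟩
    · obtain ⟨b, hb, e⟩ := hM ha
      exact α.injective e ▸ hb
    · simpa using hn _ ⟨l, hl, rfl⟩ _ ha
    · rw [← Subgroup.map_comap_eq_self_of_surjective (f := α.toMonoidHom) α.surjective M, h,
        Subgroup.map_bot]
  · rintro k hk _ ⟨l, hl, rfl⟩
    refine ⟨_, h3 (α⁻¹ k) (α.injective ?_) l hl, by simp⟩
    simpa using hk
  · obtain ⟨k, hk⟩ := h4 (α⁻¹ * θ * α⁻¹⁻¹) fun l hl => by
      have : θ (α l) = α l := hθ _ ⟨l, hl, rfl⟩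
      simp [this]
    exact ⟨k, by rwa [conj_pow, conj_eq_one_iff] at hk⟩

theorem conj_mem_centralizer_iff (hZ : Function.Injective (MulAut.conj : K →* _)) {x : MulAut K}
    {k : K} : MulAut.conj k ∈ Subgroup.centralizer {x} ↔ x k = k := by
  rw [Subgroup.mem_centralizer_singleton_iff, eq_comm, ← mul_inv_eq_iff_eq_mul,
    show x * MulAut.conj k * x⁻¹ = MulAut.conj (x k) from MulEquiv.ext fun y => by simp,
    hZ.eq_iff]

theorem Bal.core_eq_bot [Finite K] [hp : Fact p.Prime]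
    (hZ : Function.Injective (MulAut.conj : K →* _))
    {A : Subgroup (MulAut K)} (hinn : ∀ k, MulAut.conj k ∈ A) {x : MulAut K} (h : Bal p x) :
    Cfsg.pPrimeCore p ↥(A ⊓ Subgroup.centralizer {x}) = ⊥ := by
  obtain ⟨L, h1, h2, h3, h4⟩ := h
  refine sSup_eq_bot.2 ?_
  rintro N ⟨hN, hc⟩
  let ι : ∀ k, x k = k → ↥(A ⊓ Subgroup.centralizer {x}) := fun k hk =>
    ⟨MulAut.conj k, hinn k, (conj_mem_centralizer_iff hZ).2 hk⟩
  have hcop : ∀ n ∈ N, (orderOf n).Coprime p := fun n hn =>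
    hc.coprime_dvd_left (N.orderOf_dvd_natCard hn)
  have hM : (N.map (Subgroup.subtype _)).comap (MulAut.conj : K →* _) ⊓ L = ⊥ := by
    refine (h2 _ inf_le_right ?_).resolve_right ?_
    · rintro l hl a ⟨⟨n, hn, e⟩, ha⟩
      exact ⟨⟨_, hN.conj_mem n hn (ι l (h1 l hl)), by simp [ι, ← e]⟩,
        L.mul_mem (L.mul_mem hl ha) (L.inv_mem hl)⟩
    · rintro ⟨y, ⟨⟨n, hn, e⟩, -⟩, hy⟩
      have := hcop n hn
      rw [← Subgroup.orderOf_coe, show (n : MulAut K) = _ from e, orderOf_injective _ hZ, hy,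
        Nat.coprime_self] at this
      exact hp.out.ne_one this
  have key : ∀ n ∈ N, (∀ l ∈ L, n.1 l = l) → n = 1 := fun n hn h => by
    obtain ⟨k, hk⟩ := h4 n.1 h
    have := Nat.Coprime.pow_right k (hcop n hn)
    rw [← orderOf_eq_one_iff]
    exact this.eq_one_of_dvd (orderOf_dvd_of_pow_eq_one (Subtype.ext hk))
  have comm : ∀ n ∈ N, ∀ l (hl : l ∈ L), ∃ n' ∈ N, n'.1 = MulAut.conj (n.1 l * l⁻¹) :=
    fun n hn l hl => ⟨_, mul_mem hn (hN.conj_mem _ (inv_mem hn) (ι l (h1 l hl))),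
      MulEquiv.ext fun y => by simp [ι, mul_assoc]⟩
  have key2 : ∀ n ∈ N, ∀ k, n.1 = MulAut.conj k → n = 1 := fun n hn k hk =>
    key n hn fun l hl => by
      obtain ⟨n', hn', e⟩ := comm n hn l hl
      rw [← mul_inv_eq_one, ← Subgroup.mem_bot, ← hM]
      exact ⟨⟨n', hn', e⟩, L.mul_mem (hk ▸ h3 k ((conj_mem_centralizer_iff hZ).1 (hk ▸ n.2.2)) l hl)
        (L.inv_mem hl)⟩
  refine eq_bot_iff.2 fun n hn => key n hn fun l hl => ?_
  obtain ⟨n', hn', e⟩ := comm n hn l hl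
  rw [key2 n' hn' _ e] at e
  exact mul_inv_eq_one.1 (hZ (e.symm.trans (map_one _).symm))

theorem core_ne_bot (hZ : Function.Injective (MulAut.conj : K →* _))
    {A : Subgroup (MulAut K)} (hinn : ∀ k, MulAut.conj k ∈ A) {x : MulAut K} {k : K} (hk : k ≠ 1)
    (hx : x k = k) (hc : p.Coprime (Nat.card (x.toMonoidHom.eqLocus (MonoidHom.id K)))) :
    Cfsg.pPrimeCore p ↥(A ⊓ Subgroup.centralizer {x}) ≠ ⊥ := fun h => by
  let ι : x.toMonoidHom.eqLocus (MonoidHom.id K) →* ↥(A ⊓ Subgroup.centralizer {x}) :=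
    (MulAut.conj.comp (Subgroup.subtype _)).codRestrict _ fun k =>
      ⟨hinn k, (conj_mem_centralizer_iff hZ).2 k.2⟩
  have hi : Function.Injective ι := fun a b h => Subtype.ext (hZ (congrArg Subtype.val h))
  have := sSup_eq_bot.1 h ι.range ⟨⟨by
    rintro _ ⟨k, rfl⟩ g
    refine ⟨⟨g.1 k, ?_⟩, Subtype.ext (MulEquiv.ext fun y => by
      change g.1 k * y * (g.1 k)⁻¹ = g.1 (k * g.1⁻¹ y * k.1⁻¹); simp)⟩
    have := DFunLike.congr_fun (Subgroup.mem_centralizer_singleton_iff.1 g.2.2) k.1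
    rw [MulAut.mul_apply, show x k = k from k.2] at this
    exact this.symm⟩, by
      rw [← Nat.card_congr (MonoidHom.ofInjective hi).toEquiv]; exact hc.symm⟩
  have h1 : ι ⟨k, hx⟩ ∈ ι.range := ⟨_, rfl⟩
  rw [this, Subgroup.mem_bot, ← map_one ι] at h1
  exact hk (congrArg Subtype.val (hi h1))

theorem card_eqLocus_conj (α x : MulAut K) :
    Nat.card ((α * x * α⁻¹).toMonoidHom.eqLocus (MonoidHom.id K)) =
      Nat.card (x.toMonoidHom.eqLocus (MonoidHom.id K)) :=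
  (Nat.card_congr (α.toEquiv.subtypeEquiv fun y => by
    change x y = y ↔ α (x (α⁻¹ (α y))) = α y
    simp)).symm

theorem balance_iff [Finite K] [hp : Fact p.Prime] (hZ : Function.Injective (MulAut.conj : K →* _))
    {A : Subgroup (MulAut K)} (hinn : ∀ k, MulAut.conj k ∈ A) {x : MulAut K} (α : MulAut K) {k : K}
    (hk : k ≠ 1) (hx : x k = k) (hB : ∀ y, x y = y → orderOf y = p → Bal p x) :
    Cfsg.pPrimeCore p ↥(A ⊓ Subgroup.centralizer {α * x * α⁻¹}) ≠ ⊥ ↔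
      p.Coprime (Nat.card ((α * x * α⁻¹).toMonoidHom.eqLocus (MonoidHom.id K))) := by
  refine ⟨fun h => hp.out.coprime_iff_not_dvd.2 fun hd => ?_,
    core_ne_bot hZ hinn (k := α k) (by simpa using hk) (by simp [hx])⟩
  rw [card_eqLocus_conj] at hd
  obtain ⟨y, hy⟩ := exists_prime_orderOf_dvd_card' p hd
  exact h (((hB y y.2 (by rw [Subgroup.orderOf_coe, hy])).conj α).core_eq_bot hZ hinn)

end balance

variable {m : ℕ} {F : Type*} [Field F]

local notation "𝔅" => spBilin _ _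
local notation "Sp" => symplecticGroup (Fin m) F

theorem exists_congr_J {l : Type*} [Fintype l] [DecidableEq l] {M : Matrix (l ⊕ l) (l ⊕ l) F}
    (hM : M.det ≠ 0) (hA : ∀ v, v ⬝ᵥ M *ᵥ v = 0) :
    ∃ P : GL (l ⊕ l) F, P.1ᵀ * M * P.1 = J l F := by
  obtain ⟨e, he⟩ := exists_isometry_std (l := l)
    (LinearMap.BilinForm.nondegenerate_toBilin'_of_det_ne_zero' M hM)
    (fun v => (toBilin'_apply' M v v).trans (hA v)) finrank_sp_space
  have h : (LinearMap.toMatrix' e.toLinearMap)ᵀ * M * LinearMap.toMatrix' e.toLinearMap = J l F :=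
    Matrix.toBilin'.injective (LinearMap.ext₂ fun u v => by
      rw [toBilin'_apply', ← mulVec_mulVec, ← mulVec_mulVec, dotProduct_mulVec, vecMul_transpose,
        ← toBilin'_apply']
      simpa [spBilin] using he u v)
  refine ⟨GeneralLinearGroup.mkOfDetNeZero _ fun h0 => (isUnit_det_J l F).ne_zero ?_, h⟩
  rw [← h, det_mul, h0, mul_zero]

theorem map_mem_GSp_iff [NeZero m] {F₀ : Type*} [Field F₀] (j : F₀ →+* F)
    {g : GL (Fin m ⊕ Fin m) F₀} :
    GeneralLinearGroup.map j g ∈ Cfsg.GSp m F ↔ g ∈ Cfsg.GSp m F₀ := by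
  rw [mem_GSp_iff, mem_GSp_iff]
  simp only [spB_mul_iff]
  refine ⟨fun ⟨c, hc⟩ => ?_, fun ⟨c, hc⟩ => ⟨Units.map j.toMonoidHom c, (map_form j).2 hc⟩⟩
  have : j ((g.1ᵀ * J (Fin m) F₀ * g.1) (Sum.inr 0) (Sum.inl 0)) = c := by
    have := congrFun (congrFun hc (Sum.inr 0)) (Sum.inl 0)
    rw [← J_map j] at this
    rw [← Matrix.map_apply (f := j), Matrix.map_mul, Matrix.map_mul, transpose_map]
    exact this.trans (by simp [J])
  exact ⟨Units.mk0 ((g.1ᵀ * J (Fin m) F₀ * g.1) (Sum.inr 0) (Sum.inl 0))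
    fun h => c.ne_zero (by rw [← this, h, map_zero]),
    (map_form j).1 (hc.trans (congrArg (· • J (Fin m) F) this.symm))⟩

/-- Extension of scalars for `GSp`. -/
def gspMap [NeZero m] {F₀ : Type*} [Field F₀] (j : F₀ →+* F) : Cfsg.GSp m F₀ →* Cfsg.GSp m F :=
  ((GeneralLinearGroup.map j).comp (Subgroup.subtype _)).codRestrict _ fun g =>
    (map_mem_GSp_iff j).2 g.2

/-- Extension of scalars for `Sp`. -/
def spMap {l : Type*} [Fintype l] [DecidableEq l] {F₀ : Type*} [Field F₀] (j : F₀ →+* F) :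
    symplecticGroup l F₀ →* symplecticGroup l F where
  toFun s := ⟨s.1.map j, by
    rw [SymplecticGroup.mem_iff, ← J_map j, ← transpose_map, ← Matrix.map_mul, ← Matrix.map_mul,
      SymplecticGroup.mem_iff.1 s.2]⟩
  map_one' := Subtype.ext (Matrix.map_one _ j.map_zero j.map_one)
  map_mul' _ _ := Subtype.ext Matrix.map_mul

theorem gspMap_spToGSp [NeZero m] {F₀ : Type*} [Field F₀] (j : F₀ →+* F)
    (s : symplecticGroup (Fin m) F₀) : gspMap j (spToGSp s) = spToGSp (spMap j s) :=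
  Subtype.ext (Units.ext rfl)

theorem gspMap_scalar [NeZero m] {F₀ : Type*} [Field F₀] (j : F₀ →+* F) (c : F₀ˣ) :
    gspMap j (gspScalar c : Cfsg.GSp m F₀) = gspScalar (Units.map j c) :=
  Subtype.ext (Units.ext (by
    change (GeneralLinearGroup.scalar _ c).1.map j = (GeneralLinearGroup.scalar _ _).1
    rw [scalar_val, scalar_val, Matrix.map_smul' _ _ _ j.map_mul,
      Matrix.map_one _ j.map_zero j.map_one]
    rfl))

theorem spMap_stv {l : Type*} [Fintype l] [DecidableEq l] {F₀ : Type*} [Field F₀] (j : F₀ →+* F)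
    (v : l ⊕ l → F₀) (c : F₀) : spMap j (stv v c) = stv (j ∘ v) (j c) := Subtype.ext (by
  change (stv v c).1.map j = _
  rw [stv_val, stv_val, J_mulVec, J_mulVec]
  ext i (k | k) <;> simp [vecMulVec_apply, one_apply, apply_ite j])

section field

variable [Finite F]

theorem exists_lang_gsp [NeZero m] {σ : RingAut F} {r : ℕ} (hr : orderOf σ = r)
    {g : Cfsg.GSp m F} (h : qDiag (tw (gspField σ) g r) = 1) :
    ∃ (b : Cfsg.GSp m F) (c : Fˣ), g * gspField σ b = gspScalar c * b := by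
  have : Nonempty (Fin m) := ⟨0⟩
  rw [qDiag_eq_one_iff' NeZero.one_le, ← Subgroup.subtype_apply,
    map_tw _ (τ' := glField σ) fun _ => rfl] at h
  obtain ⟨b, c, hb⟩ := exists_lang hr h
  have hb' : g.1.1 * b.1.map σ = (c : F) • b.1 := by
    have := congrArg (fun A : GL (Fin m ⊕ Fin m) F => A.1) hb
    simp only [Units.val_mul, scalar_val, smul_one_mul] at this
    exact this
  let M : GL (Fin m ⊕ Fin m) F := GeneralLinearGroup.mkOfDetNeZero (b.1ᵀ * J (Fin m) F * b.1) (by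
    simp [(isUnit_det_J _ F).ne_zero, b.det_ne_zero])
  obtain ⟨ν, M₀, h0, h1⟩ := exists_fixed_smul (σ := σ) (g := M) (mem_center_GL_iff'.2
    ⟨gspMul g * (c ^ 2)⁻¹, by
      rw [eq_mul_inv_iff_mul_eq, mul_comm (gspMul g), map_mul, map_inv,
        mul_assoc, inv_mul_eq_iff_eq_mul]
      refine Units.ext ?_
      change _ * (b.1ᵀ * J (Fin m) F * b.1).map σ = _ * (b.1ᵀ * J (Fin m) F * b.1)
      rw [scalar_val, scalar_val, Matrix.map_mul, Matrix.map_mul, transpose_map,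
        show (J (Fin m) F).map σ = _ from J_map σ.toRingHom, smul_one_mul, smul_one_mul,
        ← smul_mul_assoc, ← mul_smul_comm, ← spB_mul_iff.1 (gspMul_spec g), ← mul_assoc,
        ← mul_assoc, ← transpose_mul, mul_assoc _ g.1.1, hb']
      simp [sq, smul_smul]⟩)
  obtain ⟨M₁, rfl⟩ := (exists_map_eq_of_fixed (j := (fixS σ).subtype)
    fun a => ⟨fun h => ⟨⟨a, h⟩, rfl⟩, fun ⟨b, hb⟩ => hb ▸ b.2⟩).1 h0
  have h2 : b.1ᵀ * J (Fin m) F * b.1 = (ν : F) • M₁.1.map (fixS σ).subtype := by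
    have := congrArg (fun A : GL (Fin m ⊕ Fin m) F => A.1) h1
    simp only [Units.val_mul, scalar_val, smul_one_mul] at this
    exact this
  obtain ⟨P, hP⟩ := exists_congr_J M₁.det_ne_zero fun v => by
    have := spB_mulVec b.1 ((fixS σ).subtype ∘ v) ((fixS σ).subtype ∘ v)
    rw [spB_self, h2, smul_mulVec, dotProduct_smul, eq_comm, smul_eq_zero,
      or_iff_right ν.ne_zero] at this
    refine (fixS σ).subtype.injective ?_
    rw [RingHom.map_dotProduct, map_zero, ← this]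
    congr 1
    exact funext fun i => RingHom.map_mulVec _ _ _ i
  refine ⟨⟨b * GeneralLinearGroup.map (fixS σ).subtype P, mem_GSp_iff.2 ⟨ν, spB_mul_iff.2 ?_⟩⟩, c,
    Subtype.ext ?_⟩
  · change (b.1 * P.1.map _)ᵀ * _ * (b.1 * P.1.map _) = _
    rw [transpose_mul, mul_assoc _ b.1ᵀ, ← mul_assoc _ b.1, mul_assoc _ _ b.1, h2, mul_smul_comm,
      smul_mul_assoc, ← transpose_map, ← Matrix.map_mul, ← Matrix.map_mul, hP, J_map]
  · change g.1 * glField σ (b * _) = GeneralLinearGroup.scalar _ c * (b * _)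
    rw [map_mul, ← mul_assoc, ← mul_assoc, ← hb, (exists_map_eq_of_fixed (j := (fixS σ).subtype)
      fun a => ⟨fun h => ⟨⟨a, h⟩, rfl⟩, fun ⟨b, hb⟩ => hb ▸ b.2⟩).2 ⟨P, rfl⟩]
    rfl

theorem lang_qField [NeZero m] {σ : RingAut F} {r : ℕ} (hr : orderOf σ = r) :
    ∀ δ ∈ (qDiag : Cfsg.GSp m F →* _).range, (δ * qField m σ) ^ r = 1 →
      Cfsg.IsConjUnder (qDiag : Cfsg.GSp m F →* _).range (qField m σ) (δ * qField m σ) := by
  rintro _ ⟨g, rfl⟩ h
  rw [mul_pow_eq_tw (qField_mul_qDiag σ), ← map_pow, ← hr, pow_orderOf_eq_one, map_one, mul_one,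
    hr] at h
  obtain ⟨b, c, hb⟩ := exists_lang_gsp hr h
  refine ⟨_, ⟨b, rfl⟩, ?_⟩
  rw [conj_eq_of_twist (qField_mul_qDiag σ), eq_mul_inv_of_mul_eq hb, mul_assoc, map_mul,
    qDiag_scalar, one_mul]

theorem qDiag_mem_centralizer_qField [NeZero m] {σ : RingAut F} {g : Cfsg.GSp m F} :
    qDiag g ∈ Subgroup.centralizer {qField m σ} ↔
      ∃ (c : Fˣ) (b : Cfsg.GSp m F), gspField σ b = b ∧ g = gspScalar c * b := by
  have : Nonempty (Fin m) := ⟨0⟩
  rw [commute_iff_of_twist (qField_mul_qDiag σ), qDiag_eq_one_iff' NeZero.one_le]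
  constructor
  · intro h
    obtain ⟨c, b, hb, e⟩ := exists_fixed_smul h
    have e' : b = ((gspScalar c)⁻¹ * g : Cfsg.GSp m F) := eq_inv_mul_of_mul_eq e.symm
    exact ⟨c, (gspScalar c)⁻¹ * g, Subtype.ext (by rw [gspField_coe, ← e', hb]), by simp⟩
  · rintro ⟨c, b, hb, rfl⟩
    rw [map_mul, hb, _root_.mul_inv_rev, mul_assoc, mul_inv_cancel_left]
    exact mul_mem (scalar_mem_center _) (inv_mem (by
      rw [gspField_coe, gspScalar_coe, glField_scalar]; exact scalar_mem_center _))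

omit [Finite F] in
theorem gspField_eq_iff [NeZero m] {F₀ : Type*} [Field F₀] {j : F₀ →+* F} {σ : RingAut F}
    (hj : ∀ a, σ a = a ↔ ∃ b, j b = a) {g : Cfsg.GSp m F} :
    gspField σ g = g ↔ ∃ g₀, gspMap j g₀ = g := by
  rw [Subtype.ext_iff, gspField_coe, exists_map_eq_of_fixed hj]
  exact ⟨fun ⟨b, hb⟩ => ⟨⟨b, (map_mem_GSp_iff j).1 (hb ▸ g.2)⟩, Subtype.ext hb⟩,
    fun ⟨b, hb⟩ => ⟨b.1, congrArg Subtype.val hb⟩⟩

theorem centralizer_qField_equiv [NeZero m] (σ : RingAut F) (F₀ : Type*) [Field F₀]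
    [Finite F₀] (h : Nat.card F₀ = Nat.card (fixS σ)) :
    Nonempty (↥((qDiag : Cfsg.GSp m F →* _).range ⊓ Subgroup.centralizer {qField m σ}) ≃*
      Cfsg.PGSp m F₀) := by
  have : Nonempty (Fin m) := ⟨0⟩
  obtain ⟨j, hj⟩ := exists_ringHom_fixS σ F₀ h
  refine nonempty_equiv_of_range_ker (qDiag.comp (gspMap j)) ?_ ?_
  · ext x
    constructor
    · rintro ⟨g, rfl⟩
      exact ⟨⟨_, rfl⟩, qDiag_mem_centralizer_qField.2
        ⟨1, _, (gspField_eq_iff hj).2 ⟨g, rfl⟩, by simp⟩⟩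
    · rintro ⟨⟨g, rfl⟩, hg⟩
      obtain ⟨c, b, hb, rfl⟩ := qDiag_mem_centralizer_qField.1 hg
      obtain ⟨b, rfl⟩ := (gspField_eq_iff hj).1 hb
      exact ⟨b, by rw [map_mul, qDiag_scalar, one_mul]; rfl⟩
  · ext g
    rw [MonoidHom.mem_ker, MonoidHom.comp_apply, qDiag_eq_one_iff' NeZero.one_le,
      Subgroup.mem_subgroupOf]
    exact (map_mem_center_iff j).trans mem_center_GL_iff'

theorem splitClassCount_qField [NeZero m] (σ : RingAut F) :
    Cfsg.splitClassCount (qDiag : Cfsg.GSp m F →* _).range (Cfsg.Inn _) (qField m σ) =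
      Nat.gcd 2 ((Nat.card F - 1) / (Nat.card (fixS σ) - 1)) := by
  rw [← index_fixU, ← index_pow_sup]
  refine splitClassCount_eq_index qDiag inn_le_range_qDiag _ _ gspMul_surjective _
    (fun k hk => Subgroup.mem_sup_left (qDiag_mem_inn_iff.1 hk)) (fun g hg => ?_)
    (fun g hg => qDiag_mem_inn_iff.2 (hg ▸ one_mem _)) fun s hs => ?_
  · obtain ⟨c, b, hb, rfl⟩ := qDiag_mem_centralizer_qField.1 hg
    rw [map_mul, gspMul_scalar]
    refine Subgroup.mul_mem_sup ⟨c, rfl⟩ ?_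
    change uField σ _ = _
    rw [← gspMul_gspField, hb]; rfl
  · obtain ⟨_, ⟨a, rfl⟩, b, hb, rfl⟩ := Subgroup.mem_sup.1 hs
    exact ⟨gspScalar a, dsp b, qDiag_scalar (m := m) a ▸ one_mem _,
      qDiag_mem_centralizer_qField.2 ⟨1, dsp b, by rw [gspField_dsp, show uField σ b = b from hb],
        by simp⟩, by rw [map_mul, gspMul_scalar, gspMul_dsp]; rfl⟩

theorem gcd_two_geom {a r : ℕ} (ha : 2 ≤ a) (hr : 0 < r) :
    Nat.gcd 2 ((a ^ r - 1) / (a - 1)) = Nat.gcd (Nat.gcd 2 (a ^ r - 1)) r := by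
  have key : ∀ n, Nat.gcd 2 n = if n % 2 = 0 then 2 else 1 := fun n => by
    rw [Nat.gcd_rec]
    rcases Nat.mod_two_eq_zero_or_one n with h | h <;> simp [h]
  rw [← Nat.geomSum_eq ha, key, key, Finset.sum_nat_mod]
  have h1 : 1 ≤ a ^ r := Nat.one_le_pow _ _ (by omega)
  rcases Nat.mod_two_eq_zero_or_one a with h | h
  · obtain ⟨r, rfl⟩ := Nat.exists_eq_add_one_of_ne_zero hr.ne'
    have h2 : a ^ (r + 1) % 2 = 0 := by simp [pow_succ, Nat.mul_mod, h]
    rw [Finset.sum_range_succ', if_neg (show ¬ (a ^ (r + 1) - 1) % 2 = 0 by omega)]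
    simp [pow_succ, Nat.mul_mod, h]
  · have h2 : a ^ r % 2 = 1 := by simp [Nat.pow_mod, h]
    rw [if_pos (show (a ^ r - 1) % 2 = 0 by omega), key]
    simp [Nat.pow_mod, h]

theorem pow_orderOf_eq_one_of_fix {σ τ : RingAut F} (h : ∀ a, σ a = a → τ a = a) :
    τ ^ orderOf σ = 1 := by
  have h2 : Module.finrank (fixS σ) F = orderOf σ := by
    refine Nat.pow_right_injective (Finite.one_lt_card (α := fixS σ)) ?_
    simp only
    rw [← Module.natCard_eq_pow_finrank, card_fixS_pow]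
  have := pow_card_eq_one' (x := AlgEquiv.ofRingEquiv (R := fixS σ) (f := τ) fun x => h x x.2)
  rw [IsGalois.card_aut_eq_finrank, h2] at this
  exact (map_pow (MonoidHom.mk' (fun σ : F ≃ₐ[fixS σ] F => (σ.toRingEquiv : RingAut F))
    fun _ _ => rfl) _ _).symm.trans (by rw [this, map_one])

omit [Finite F] in
theorem pow_mem_commutator_sp (r : ℕ) [CharP F r] (s : Sp) : s ^ r ∈ commutator Sp := by
  have := sp_eq_top_of_stv_mem (((powMonoidHom r).comp Abelianization.of).ker : Subgroup Sp)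
    fun a c => by
      have : ∀ k : ℕ, stv a c ^ k = stv a (k * c) := fun k => by
        induction k with
        | zero => simp [stv_zero]
        | succ k ih => rw [pow_succ, ih, ← stv_add]; simp [add_mul]
      rw [MonoidHom.mem_ker, MonoidHom.comp_apply, powMonoidHom_apply, ← map_pow, this]
      simp [stv_zero]
  have h : s ∈ (((powMonoidHom r).comp Abelianization.of).ker : Subgroup Sp) := this ▸ trivial
  rwa [MonoidHom.mem_ker, MonoidHom.comp_apply, powMonoidHom_apply, ← map_pow,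
    ← MonoidHom.mem_ker, Abelianization.ker_of] at h

omit [Finite F] in
theorem spQ_J_ne_one [NeZero m] : spQ _ F (SymplecticGroup.symJ (Fin m) F) ≠ 1 := fun h => by
  rcases spQ_eq_iff.1 (h.trans (map_one _).symm) with h | h <;>
    simpa [J] using congrFun (congrFun h (Sum.inl 0)) (Sum.inl 0)

omit [Finite F] in
theorem orderOf_spQ_J [NeZero m] : orderOf (spQ _ F (SymplecticGroup.symJ (Fin m) F)) = 2 :=
  orderOf_eq_prime (by
    rw [← map_pow, ← map_one (spQ (Fin m) F), spQ_eq_iff, sq]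
    exact Or.inr (J_squared _ _)) spQ_J_ne_one

omit [Finite F] in
theorem exists_scalar_of_single {ι : Type*} [Fintype ι] [DecidableEq ι] {A : Matrix ι ι F}
    (h1 : ∀ i, ∃ c : F, A *ᵥ Pi.single i 1 = c • Pi.single i 1) (h2 : ∃ c : F, A *ᵥ 1 = c • 1) :
    ∃ c : F, A = c • 1 := by
  choose d hd using h1
  obtain ⟨c, hc⟩ := h2
  have : A = diagonal d := Matrix.ext fun i j => by
    have := congrFun (hd j) i
    rw [mulVec_single_one] at this
    refine this.trans ?_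
    by_cases h : i = j <;> simp [h]
  refine ⟨c, ?_⟩
  rw [this, smul_one_eq_diagonal]
  congr 1
  exact funext fun i => by simpa [this, mulVec_diagonal] using congrFun hc i

omit [Finite F] in
theorem aut_stv_of_one' {θ : MulAut (Cfsg.PSp m F)} {v w : Fin m ⊕ Fin m → F} {c d : F}
    (hv : v ≠ 0) (h : θ (spQ _ F (stv v c)) = spQ _ F (stv w d)) (u : Fin m ⊕ Fin m → F) :
    ∃ w d, θ (spQ _ F (stv u c)) = spQ _ F (stv w d) := by
  by_cases hu : u = 0
  · exact ⟨0, 0, by rw [hu, stv_zero_left, stv_zero_left, map_one, map_one]⟩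
  obtain ⟨g, rfl⟩ := exists_sp_apply_eq hv hu
  obtain ⟨g', hg⟩ := spQ_surjective (θ (spQ _ F g))
  exact ⟨g'.1 *ᵥ w, d, by simp only [← stv_conj, map_mul, map_inv, h, hg]⟩

theorem bal_qField (hm : 2 ≤ m) {r p : ℕ} [CharP F r] [hp : Fact p.Prime] (hpr : p ≠ r)
    {σ : RingAut F} (hσ : orderOf σ = p) {y : Cfsg.PSp m F} (hy : qField m σ y = y)
    (hyp : orderOf y = p) : Bal p (qField m σ) := by
  have : NeZero m := ⟨by omega⟩
  have hZ := conj_injective_PSp (F := F) (m := m) NeZero.one_le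
  let j := (fixS σ).subtype
  have hj : ∀ a, σ a = a ↔ ∃ b, j b = a :=
    fun a => ⟨fun h => ⟨⟨a, h⟩, rfl⟩, fun ⟨b, hb⟩ => hb ▸ b.2⟩
  let ψ := (spQ (Fin m) F).comp (spMap j)
  have hψ : ∀ s, MulAut.conj (ψ s) = qDiag (gspMap j (spToGSp s)) := fun s => by
    rw [gspMap_spToGSp, qDiag_spToGSp]; rfl
  have key : ∀ k, qField m σ k = k → ∃ b, MulAut.conj k = qDiag (gspMap j b) := fun k hk => by
    obtain ⟨g, hg⟩ := inn_le_range_qDiag ⟨k, rfl⟩
    obtain ⟨c, b, hb, rfl⟩ := qDiag_mem_centralizer_qField.1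
      (hg ▸ (conj_mem_centralizer_iff hZ).2 hk)
    obtain ⟨b, rfl⟩ := (gspField_eq_iff hj).1 hb
    exact ⟨b, by rw [← hg, map_mul, qDiag_scalar, one_mul]⟩
  obtain ⟨s₀, hs₀⟩ : ∃ s, orderOf (ψ s) = p := by
    rcases hp.out.eq_two_or_odd' with rfl | h2
    · exact ⟨SymplecticGroup.symJ _ _, by
        rw [← orderOf_spQ_J (m := m) (F := F)]
        exact congrArg (fun s => orderOf (spQ _ F s)) (Subtype.ext (J_map j))⟩
    · obtain ⟨b, hb⟩ := key y hy
      obtain ⟨s, hs⟩ : b ^ 2 * (gspScalar (gspMul b))⁻¹ ∈ (spToGSp (m := m) (F := fixS σ)).range := by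
        rw [range_spToGSp, MonoidHom.mem_ker, map_mul, map_inv, gspMul_scalar, map_pow,
          mul_inv_cancel]
      refine ⟨s, ?_⟩
      rw [show ψ s = y ^ 2 from hZ (by
        rw [hψ, hs, map_mul, map_mul, map_inv, map_inv, gspMap_scalar, qDiag_scalar, inv_one,
          mul_one, map_pow, map_pow, map_pow, hb]), Nat.Coprime.orderOf_pow, hyp]
      rw [hyp]; exact h2.coprime_two_right
  refine ⟨ψ.range, ?_, fun M hM hn => ?_, ?_, fun θ hθ => ⟨1, ?_⟩⟩
  · rintro _ ⟨s, rfl⟩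
    exact congrArg (spQ _ F) (Subtype.ext (Matrix.ext fun i k => (s.1 i k).2))
  · have : (M.comap ψ).Normal := ⟨fun a ha l => by simpa using hn _ ⟨l, rfl⟩ _ ha⟩
    refine (normal_sp_le_center_or (M.comap ψ)).imp (fun h => eq_bot_iff.2 fun a ha => ?_)
      fun h => ⟨_, h (pow_mem_commutator_sp r s₀), ?_⟩
    · obtain ⟨s, rfl⟩ := hM ha
      refine (QuotientGroup.eq_one_iff _).2 ((mem_center_sp_iff _).2
        (((mem_center_sp_iff _).1 (h ha)).imp (fun h => ?_) fun h => ?_)) <;>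
      change s.1.map j = _ <;> rw [h]
      · exact Matrix.map_one _ j.map_zero j.map_one
      · rw [Matrix.map_neg _ j.map_neg, Matrix.map_one _ j.map_zero j.map_one]
    · rw [map_pow, Nat.Coprime.orderOf_pow, hs₀]
      rw [hs₀]
      exact (Nat.coprime_primes hp.out (CharP.char_is_prime F r)).2 hpr
  · rintro k hk _ ⟨s, rfl⟩
    obtain ⟨b, hb⟩ := key k hk
    refine ⟨spDiag b s, hZ ?_⟩
    rw [map_mul, map_mul, map_inv, hψ, hψ, hb, ← map_inv, ← map_inv, ← map_mul, ← map_mul,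
      ← map_mul, ← map_mul]
    exact congrArg (fun g => qDiag (gspMap j g)) (Subtype.ext (Units.ext rfl))
  · have h1 : ∀ v c, θ (spQ _ F (stv (j ∘ v) (j c))) = spQ _ F (stv (j ∘ v) (j c)) := fun v c =>
      spMap_stv j v c ▸ hθ _ ⟨stv v c, rfl⟩
    have hs : ∀ (τ : fixS σ →+* F) i, τ ∘ Pi.single i 1 = (Pi.single i 1 : Fin m ⊕ Fin m → F) :=
      fun τ i => funext fun k => by simp [Pi.single_apply, apply_ite τ]
    have h2 := h1 (Pi.single (Sum.inl 0) 1)
    rw [hs] at h2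
    obtain ⟨g, τ, rfl⟩ := aut_PSp_of_stv hm (aut_stv_of_one' (θ := θ) (v := Pi.single (Sum.inl 0) 1)
      (by simp) (by simpa using h2 1))
    have h3 : ∀ v, j ∘ v ≠ 0 → ∃ c : F, g.1.1 *ᵥ (τ ∘ j ∘ v) = c • (j ∘ v) := fun v hv => by
      have := h1 v 1
      rw [MulAut.mul_apply, qField_spQ, qDiag_spQ, spField_stv, spDiag_stv, eq_comm] at this
      obtain ⟨a, ha, e, -⟩ := exists_smul_of_stv_eq hv (by simp) (stv_eq_of_spQ_eq this)
      exact ⟨a⁻¹, by rw [eq_inv_smul_iff₀ ha, ← e]⟩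
    obtain ⟨c, hc⟩ := exists_scalar_of_single (A := g.1.1) (fun i => by
      have := h3 (Pi.single i 1) (by rw [hs]; simp)
      rwa [show τ ∘ j ∘ Pi.single i 1 = _ from hs (τ.toRingHom.comp j) i, hs] at this) (by
      obtain ⟨c, hc⟩ := h3 1 fun h => by simpa using congrFun h (Sum.inl 0)
      exact ⟨c, by convert hc using 2 <;> ext <;> simp⟩)
    rw [(qDiag_eq_one_iff' NeZero.one_le).2 (mem_center_GL_iff.2 ⟨c, hc⟩), one_mul] at h2 ⊢
    rw [pow_one, ← map_pow, ← hσ, pow_orderOf_eq_one_of_fix fun a ha => ?_, map_one]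
    have := stv_eq_of_spQ_eq (h2 ⟨a, ha⟩ ▸ congrArg (spQ _ F) (spField_stv τ _ _))
    rw [show τ ∘ Pi.single (Sum.inl 0) 1 = (Pi.single (Sum.inl 0) 1 : Fin m ⊕ Fin m → F) from
      funext fun k => by simp [Pi.single_apply, apply_ite τ], ← mul_inv_eq_one, stv_inv,
      ← stv_add, stv_eq_one_iff, or_iff_right (by simp), add_neg_eq_zero] at this
    exact this.symm

/-- An automorphism of prime order different from the characteristic is semilinear. -/
theorem aut_PSp_of_prime (hm : 2 ≤ m) {r p : ℕ} [CharP F r] (hp : p.Prime) (hpr : p ≠ r)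
    {x : MulAut (Cfsg.PSp m F)} (hx : x ^ p = 1) : ∃ g σ, x = qDiag g * qField m σ := by
  by_cases h4 : m = 2 → (2 : F) ≠ 0
  · exact aut_PSp hm h4 x
  push Not at h4
  obtain ⟨rfl, h2⟩ := h4
  have := charP_two_of h2
  obtain rfl := CharP.eq F ‹CharP F r› this
  obtain ⟨g, σ, h | rfl⟩ := aut_PSp4 x
  · exact ⟨g, σ, h⟩
  obtain ⟨k, rfl⟩ := exists_eq_frobenius_pow 2 σ
  have hg : qDiag g ∈ Cfsg.Inn (Cfsg.PSp 2 F) := range_qDiag_eq_inn (m := 2) (F := F) ▸ ⟨g, rfl⟩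
  have h3 := congrArg (QuotientGroup.mk' (Cfsg.Inn (Cfsg.PSp 2 F))) hx
  rw [map_pow, map_mul, map_mul, QuotientGroup.mk'_apply _ (qDiag g),
    (QuotientGroup.eq_one_iff _).2 hg, one_mul, ← map_mul, ← map_pow, map_pow (qField 2),
    ← qGam_sq, ← pow_mul, ← pow_succ', ← pow_mul, map_one, QuotientGroup.mk'_apply,
    QuotientGroup.eq_one_iff, ← range_qDiag_eq_inn] at h3
  obtain ⟨g', hg'⟩ := h3
  exact (qGam_pow_odd ((odd_two_mul_add_one k).mul (hp.odd_of_ne_two hpr)) g' 1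
    (by rw [map_one, mul_one, hg'])).elim

end field

end Cfsg.Agent.H10
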