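import Mathlib
import Cfsg.Agent.H11.Classify

/-! Conjugacy in isometry groups: Hilbert 90 for finite commutative rings with involution,
adjoints, comparison of two invariant forms, and Wall's criterion. -/

namespace Cfsg.Agent.H10

open Module H11

theorem exists_pow_idem {M : Type*} [Monoid M] [Finite M] (a : M) :
    ∃ N, 0 < N ∧ a ^ N * a ^ N = a ^ N := by
  obtain ⟨i, j, hij, h⟩ : ∃ i j, i < j ∧ a ^ i = a ^ j := by
    obtain ⟨i, j, hne, h⟩ := Finite.exists_ne_map_eq_of_infinite fun n : ℕ => a ^ n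
    rcases lt_or_gt_of_ne hne with h1 | h1
    exacts [⟨i, j, h1, h⟩, ⟨j, i, h1, h.symm⟩]
  obtain ⟨d, rfl⟩ : ∃ d, j = i + (d + 1) := ⟨j - i - 1, by omega⟩
  have h1 : ∀ k, a ^ (i + k * (d + 1)) = a ^ i := fun k => by
    induction k with
    | zero => simp
    | succ k ih => rw [add_mul, one_mul, ← add_assoc, pow_add, ih, ← pow_add, ← h]
  refine ⟨(i + 1) * (d + 1), by positivity, ?_⟩
  obtain ⟨r, hr⟩ : ∃ r, (i + 1) * (d + 1) = r + i := ⟨(i + 1) * (d + 1) - i, by
    have : i ≤ (i + 1) * (d + 1) := by nlinarith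
    omega⟩
  rw [← pow_add]
  nth_rewrite 1 [hr]
  rw [add_assoc, pow_add, h1, ← pow_add, ← hr]

section ring

variable {A : Type*} [CommRing A] [Finite A] (s : A →+* A) (hs : ∀ a, s (s a) = a) {θ : A}
  (hθ : IsUnit (θ - s θ))
include hs hθ

/-- Hilbert's theorem 90 for finite commutative rings with involution. -/
theorem hilbert90_ring {u : A} (hu : u * s u = 1) : ∃ v, IsUnit v ∧ u * s v = v := by
  obtain ⟨N, hN, he⟩ := exists_pow_idem ((1 + u, u) : A × A)
  obtain ⟨he, hu'⟩ := Prod.ext_iff.mp he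
  simp only [Prod.pow_fst, Prod.fst_mul, Prod.pow_snd, Prod.snd_mul] at he hu'
  have hu1 : u ^ N = 1 :=
    ((IsUnit.of_mul_eq_one _ hu).pow N).mul_left_cancel (hu'.trans (mul_one _).symm)
  have h1 : u * s (1 + u) = 1 + u := by rw [map_add, map_one, mul_add, hu]; ring
  have h2 : u * s (θ + u * s θ) = θ + u * s θ := by
    rw [map_add, map_mul, hs]; linear_combination θ * hu
  have h3 : s ((1 + u) ^ N) = (1 + u) ^ N := by
    have := congrArg (· ^ N) h1
    simp only [mul_pow, hu1, one_mul] at this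
    rw [map_pow, this]
  generalize hE : (1 + u) ^ N = e at he h3
  refine ⟨e * (1 + u) + (1 - e) * (θ + u * s θ), ?_, by
    rw [map_add, map_mul, map_mul s (1 - e), map_sub, map_one, h3]
    linear_combination e * h1 + (1 - e) * h2⟩
  by_contra hn
  obtain ⟨m, hm, hv⟩ := exists_max_ideal_of_mem_nonunits hn
  have hp := hm.isPrime
  by_cases h : 1 + u ∈ m
  · have he' : e ∈ m := hE ▸ m.pow_mem_of_mem h N hN
    refine hm.ne_top (m.eq_top_of_isUnit_mem ?_ hθ)
    have := m.sub_mem (m.sub_mem hv (m.mul_mem_right (1 + u - (θ + u * s θ)) he'))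
      (m.mul_mem_left (s θ) h)
    convert this using 1; ring
  · have he' : e ∉ m := fun h' => h (hp.mem_of_pow_mem N (hE ▸ h'))
    have h4 : 1 - e ∈ m := (hp.mem_or_mem (x := e) (by
      rw [mul_sub, he, mul_one, sub_self]; exact m.zero_mem)).resolve_left he'
    have := m.sub_mem hv (m.mul_mem_right (θ + u * s θ) h4)
    rw [add_sub_cancel_right] at this
    exact (hp.mem_or_mem this).elim he' h

/-- Symmetric units are norms. -/
theorem exists_norm_ring {a : A} (ha : IsUnit a) (h : s a = a) : ∃ y, s y * y = a := by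
  let σ : Aˣ →* Aˣ := Units.map s.toMonoidHom
  have hσ : ∀ x, σ (σ x) = x := fun x => Units.ext (hs x)
  let N : Aˣ →* Aˣ := σ * MonoidHom.id _
  let D : Aˣ →* Aˣ := MonoidHom.id _ / σ
  have h1 : N.ker = D.range := by
    ext u
    constructor
    · intro hu
      obtain ⟨v, hv, h⟩ := hilbert90_ring s hs hθ (u := u) (by
        rw [mul_comm]; exact congrArg Units.val hu)
      obtain ⟨v, rfl⟩ := hv
      exact ⟨v, div_eq_iff_eq_mul.mpr (Units.ext h.symm)⟩
    · rintro ⟨v, rfl⟩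
      show σ (v / σ v) * (v / σ v) = 1
      rw [map_div, hσ]; simp
  have h2 : N.range ≤ D.ker := by
    rintro _ ⟨v, rfl⟩
    show σ v * v / σ (σ v * v) = 1
    rw [map_mul, hσ, mul_comm, div_self']
  have h3 := N.ker.card_mul_index
  have h4 := D.ker.card_mul_index
  rw [Subgroup.index_ker] at h3 h4
  rw [h1, ← h4, mul_comm] at h3
  have h5 := Subgroup.eq_of_le_of_card_ge h2 (Nat.eq_of_mul_eq_mul_right Nat.card_pos h3).ge
  obtain ⟨a, rfl⟩ := ha
  obtain ⟨y, hy⟩ : a ∈ N.range := h5 ▸ (div_eq_one.mpr (Units.ext h.symm) : a / σ a = 1)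
  exact ⟨y, congrArg Units.val hy⟩

end ring

/-- The two results above inside a commutative subring of a finite ring with an
anti-automorphism. -/
theorem norm_of_commute {R : Type*} [Ring R] [Finite R] (st : R →+ R) (h1 : st 1 = 1)
    (hm : ∀ a b, st (a * b) = st b * st a) (S : Set R) (hS : ∀ a ∈ S, ∀ b ∈ S, a * b = b * a)
    (hst : ∀ a ∈ S, st a ∈ S ∧ st (st a) = a) {θ : R} (hθS : θ ∈ S) (hθ : IsUnit (θ - st θ)) :
    (∀ a ∈ S, IsUnit a → st a = a →
      ∃ y, st y * y = a ∧ ∀ g, (∀ x ∈ S, Commute g x) → Commute g y) ∧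
    (∀ u ∈ S, u * st u = 1 →
      ∃ v, IsUnit v ∧ u * st v = v ∧ ∀ g, (∀ x ∈ S, Commute g x) → Commute g v) := by
  let A := Subring.closure S
  have hc : ∀ g, (∀ x ∈ S, Commute g x) → ∀ y ∈ A, Commute g y := fun g hg y hy =>
    (Subring.closure_le (t := Subring.centralizer {g})).mpr
      (fun x hx _ h => by rw [h]; exact hg x hx) hy g rfl
  have hc' : ∀ a ∈ A, ∀ b ∈ A, Commute a b := fun a ha =>
    hc a fun x hx => (hc x (fun z hz => hS x hx z hz) a ha).symm
  have hA : ∀ a ∈ A, st a ∈ A ∧ st (st a) = a := fun a ha => by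
    induction ha using Subring.closure_induction with
    | mem x hx => exact ⟨Subring.subset_closure (hst x hx).1, (hst x hx).2⟩
    | zero => simp
    | one => simp [h1]
    | add x y _ _ hx hy => exact ⟨by rw [map_add]; exact add_mem hx.1 hy.1, by
        rw [map_add, map_add, hx.2, hy.2]⟩
    | neg x _ hx => exact ⟨by rw [map_neg]; exact neg_mem hx.1, by rw [map_neg, map_neg, hx.2]⟩
    | mul x y _ _ hx hy => exact ⟨by rw [hm]; exact mul_mem hy.1 hx.1, by
        rw [hm, hm, hx.2, hy.2]⟩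
  let _ : CommRing A := { (inferInstance : Ring A) with
    mul_comm := fun a b => Subtype.ext (hc' _ a.2 _ b.2) }
  let s : A →+* A :=
    { toFun := fun a => ⟨st a, (hA a a.2).1⟩
      map_one' := Subtype.ext h1
      map_mul' := fun a b => Subtype.ext ((hm _ _).trans (hc' _ (hA _ b.2).1 _ (hA _ a.2).1))
      map_zero' := Subtype.ext (map_zero st)
      map_add' := fun a b => Subtype.ext (map_add st _ _) }
  have hs : ∀ a, s (s a) = a := fun a => Subtype.ext (hA a a.2).2
  have hU : ∀ a : A, IsUnit a.1 → IsUnit a := fun a ha => by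
    obtain ⟨N, hN, h⟩ := exists_pow_idem a
    refine (isUnit_pow_iff hN.ne').mp ?_
    have h2 : a.1 ^ N * a.1 ^ N = a.1 ^ N * 1 := (congrArg Subtype.val h).trans (mul_one _).symm
    rw [show a ^ N = 1 from Subtype.ext ((ha.pow N).mul_left_cancel h2)]
    exact isUnit_one
  have hθ' : IsUnit ((⟨θ, Subring.subset_closure hθS⟩ : A) - s ⟨θ, Subring.subset_closure hθS⟩) :=
    hU _ hθ
  refine ⟨fun a ha hu h => ?_, fun u hu h => ?_⟩
  · obtain ⟨y, hy⟩ := exists_norm_ring s hs hθ' (hU ⟨a, Subring.subset_closure ha⟩ hu)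
      (Subtype.ext h)
    exact ⟨y, congrArg Subtype.val hy, fun g hg => hc g hg _ y.2⟩
  · obtain ⟨v, hv, h'⟩ := hilbert90_ring s hs hθ' (u := ⟨u, Subring.subset_closure hu⟩)
      (Subtype.ext h)
    exact ⟨v, hv.map A.subtype, congrArg Subtype.val h', fun g hg => hc g hg _ v.2⟩

variable {F : Type*} [Field F] {V : Type*} [AddCommGroup V] [Module F V] {σ : F →+* F}
  {ε κ κ' : F} {τ τ' : F →+ F} {B B' : V →ₛₗ[σ] V →ₗ[F] F} {Q Q' : V → F}

theorem form_ext_right (h : IsForm ε κ τ B Q) (hB : B.SeparatingLeft) {v w : V}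
    (H : ∀ u, B u v = B u w) : v = w :=
  sub_eq_zero.mp (h.separatingRight hB fun u => by rw [map_sub, H, sub_self])

theorem end_ext_right (h : IsForm ε κ τ B Q) (hB : B.SeparatingLeft) {a b : End F V}
    (H : ∀ u v, B u (a v) = B u (b v)) : a = b :=
  LinearMap.ext fun v => form_ext_right h hB fun u => H u v

variable [FiniteDimensional F V]

/-- Every sesquilinear form is represented by an endomorphism. -/
theorem exists_rep_end (h : IsForm ε κ τ B Q) (hB : B.SeparatingLeft) (C : V →ₛₗ[σ] V →ₗ[F] F) :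
    ∃ s : End F V, ∀ u v, C u v = B u (s v) := by
  let fl : (V →ₛₗ[σ] V →ₗ[F] F) → (V →ₛₗ[σ] V →ₗ[F] F) := fun D =>
    LinearMap.mk₂'ₛₗ σ (RingHom.id F) (fun v u => σ (D u v)) (by simp) (by simp) (by simp)
      (by simp [h.invol])
  have : ∀ v, ∃ w, ∀ u, C u v = B u w := fun v => by
    obtain ⟨w, hw⟩ := exists_form_eq (B := fl B) h.invol (fun x hx => h.separatingRight hB
      fun y => by simpa [fl] using hx y) (fl C v)
    exact ⟨w, fun u => σ.injective (LinearMap.congr_fun hw u).symm⟩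
  choose s hs using this
  exact ⟨⟨⟨s, fun x y => form_ext_right h hB fun u => by rw [map_add, ← hs, ← hs, ← hs, map_add]⟩,
    fun c x => form_ext_right h hB fun u => by
      simp only [RingHom.id_apply, map_smul, ← hs]⟩, fun u v => hs v u⟩

theorem exists_adj (h : IsForm ε κ τ B Q) (hB : B.SeparatingLeft) :
    ∃ st : End F V →+ End F V, (∀ a u v, B (a u) v = B u (st a v)) ∧ st 1 = 1 ∧
      (∀ a b, st (a * b) = st b * st a) ∧ ∀ a, st (st a) = a := by
  choose st hst using fun a : End F V => exists_rep_end h hB (B.comp a)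
  have h1 : ∀ a u v, B (a u) v = B u (st a v) := hst
  refine ⟨AddMonoidHom.mk' st fun a b => end_ext_right h hB fun u v => ?_, h1,
    end_ext_right h hB fun u v => (h1 1 u v).symm, fun a b => end_ext_right h hB fun u v => ?_,
    fun a => end_ext_right h hB fun u v => ?_⟩
  · simp [← h1]
  · simp [← h1]
  · show B u (st (st a) v) = _
    rw [← h1, h.symm, ← h1, ← h.symm]

/-- Two forms of the same kind invariant under `g` are equivalent under the centraliser of `g`. -/
theorem exists_comm_isom [Finite F] (h : IsForm ε κ τ B Q) (hB : B.SeparatingLeft)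
    (h' : IsForm ε κ' τ' B' Q') (hB' : B'.SeparatingLeft) (g : End F V)
    (hg : ∀ u v, B (g u) (g v) = B u v) (hg' : ∀ u v, B' (g u) (g v) = B' u v)
    (H : σ ≠ RingHom.id F ∨ ∀ w, g (g w) = w → w = 0) :
    ∃ y : End F V, (∀ u v, B (y u) (y v) = B' u v) ∧ ∀ v, y (g v) = g (y v) := by
  have : Finite V := Module.finite_of_finite F
  have : Finite (End F V) := Module.finite_of_finite F
  obtain ⟨st, h1, h2, h3, h4⟩ := exists_adj h hB
  obtain ⟨s, hs⟩ := exists_rep_end h hB B'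
  have hU : ∀ a : End F V, (∀ w, a w = 0 → w = 0) → IsUnit a := fun a ha =>
    (LinearMap.isUnit_iff_ker_eq_bot a).mpr (LinearMap.ker_eq_bot'.mpr ha)
  have g1 : st g * g = 1 := end_ext_right h hB fun u v => (h1 g u (g v)).symm.trans (hg u v)
  have g2 : g * st g = 1 := mul_eq_one_comm.mp g1
  have s1 : st s = s := end_ext_right h hB fun u v => by
    rw [← h1, h.symm, ← hs, ← h'.symm, hs]
  have s2 : IsUnit s := hU s fun w hw => h'.separatingRight hB' fun u => by rw [hs, hw, map_zero]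
  have s3 : st g * s * g = s := end_ext_right h hB fun u v => by
    rw [End.mul_apply, End.mul_apply, ← h1, ← hs, hg', hs]
  have s4 : Commute g s := by
    show g * s = s * g
    nth_rewrite 1 [← s3]
    rw [← mul_assoc, ← mul_assoc, g2, one_mul]
  have s5 : Commute (st g) s := by
    have := congrArg st s4.eq
    rw [h3, h3, s1] at this
    exact this.symm
  obtain ⟨θ, t1, t2, t3, t4, t5, t6⟩ : ∃ θ : End F V, IsUnit (θ - st θ) ∧ Commute s θ ∧
      Commute s (st θ) ∧ Commute g θ ∧ Commute g (st θ) ∧ Commute θ (st θ) := by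
    rcases H with H | H
    · obtain ⟨c, hc⟩ : ∃ c, σ c ≠ c := by
        by_contra hc
        push Not at hc
        exact H (RingHom.ext hc)
      have : st (algebraMap F _ c) = algebraMap F _ (σ c) :=
        end_ext_right h hB fun u v => by rw [← h1]; simp
      refine ⟨algebraMap F _ c, ?_, ?_⟩
      · rw [this, ← map_sub]; exact (Ne.isUnit (sub_ne_zero.mpr hc.symm)).map _
      · simp only [this, Algebra.commute_algebraMap_right, and_self]
    · refine ⟨g, hU _ fun w hw => H w ?_, s4.symm, s5.symm, Commute.refl _, g2.trans g1.symm,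
        g2.trans g1.symm⟩
      rw [LinearMap.sub_apply, sub_eq_zero] at hw
      rw [hw, ← End.mul_apply, g2, End.one_apply]
  obtain ⟨y, hy, hc⟩ := (norm_of_commute st h2 h3 {s, θ, st θ} (by
      rintro a (rfl | rfl | rfl) b (rfl | rfl | rfl)
      exacts [rfl, t2, t3, t2.symm, rfl, t6, t3.symm, t6.symm, rfl])
    (by rintro a (rfl | rfl | rfl) <;> simp [s1, h4]) (by simp) t1).1 s (by simp) s2 s1
  refine ⟨y, fun u v => by rw [h1, ← End.mul_apply, hy, hs], fun v => ?_⟩
  exact (LinearMap.congr_fun (hc g (by rintro a (rfl | rfl | rfl); exacts [s4, t4, t5])).eq v).symm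

/-- On `W` the forms `B`, `B'` are equivalent under the centraliser of `g`. -/
def CIso (B B' : V →ₛₗ[σ] V →ₗ[F] F) (g : End F V) (W : Submodule F V) : Prop :=
  ∃ y : End F V, (∀ a ∈ W, y a ∈ W) ∧ (∀ a ∈ W, ∀ b ∈ W, B (y a) (y b) = B' a b) ∧
    ∀ a ∈ W, y (g a) = g (y a)

omit [FiniteDimensional F V] in
theorem CIso.of_restrict {g : End F V} {W : Submodule F V} (hW : ∀ a ∈ W, g a ∈ W) (y : End F W)
    (h1 : ∀ a b : W, B (y a) (y b) = B' a b) (h2 : ∀ a : W, (y ⟨g a, hW _ a.2⟩ : V) = g (y a)) :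
    CIso B B' g W := by
  obtain ⟨z, hz⟩ := (W.subtype.comp y).exists_extend
  have hz' : ∀ a (ha : a ∈ W), z a = y ⟨a, ha⟩ := fun a ha => LinearMap.congr_fun hz ⟨a, ha⟩
  exact ⟨z, fun a ha => hz' a ha ▸ (y _).2, fun a ha b hb => by rw [hz' a ha, hz' b hb, h1],
    fun a ha => by rw [hz' a ha, hz' _ (hW a ha), h2 ⟨a, ha⟩]⟩

theorem cIso_of [Finite F] (h : IsForm ε κ τ B Q) (h' : IsForm ε κ' τ' B' Q') {g : End F V}
    (hg : ∀ u v, B (g u) (g v) = B u v) (hg' : ∀ u v, B' (g u) (g v) = B' u v)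
    {W : Submodule F V} (hW : ∀ a ∈ W, g a ∈ W) (hB : NondegOn B W) (hB' : NondegOn B' W)
    (H : σ ≠ RingHom.id F ∨ ∀ w ∈ W, g (g w) = w → w = 0) : CIso B B' g W := by
  obtain ⟨y, h1, h2⟩ := exists_comm_isom (h.restrict W) (nondegOn_iff.mp hB) (h'.restrict W)
    (nondegOn_iff.mp hB') (g.restrict hW) (fun u v => hg u v) (fun u v => hg' u v)
    (H.imp id fun H w hw => Subtype.ext (H w w.2 (congrArg Subtype.val hw)))
  exact CIso.of_restrict hW y h1 fun a => congrArg Subtype.val (h2 a)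

omit [FiniteDimensional F V] in
theorem CIso.sup {g : End F V} {W U : Submodule F V} (h1 : CIso B B' g W) (h2 : CIso B B' g U)
    (hW : ∀ a ∈ W, g a ∈ W) (hU : ∀ a ∈ U, g a ∈ U) (hd : Disjoint W U)
    (ho : ∀ a ∈ W, ∀ b ∈ U, B a b = 0 ∧ B b a = 0 ∧ B' a b = 0 ∧ B' b a = 0) :
    CIso B B' g (W ⊔ U) := by
  obtain ⟨y, a1, a2, a3⟩ := h1
  obtain ⟨z, b1, b2, b3⟩ := h2
  obtain ⟨U', hU', hc⟩ := hd.symm.exists_isCompl
  have hc := hc.symm
  let π : End F V := W.subtype.comp (W.projectionOnto U' hc)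
  have key : ∀ a ∈ W, ∀ b ∈ U, (y * π + z * (1 - π)) (a + b) = y a + z b := fun a ha b hb => by
    have e1 : π a = a := congrArg Subtype.val (Submodule.projectionOnto_apply_left hc ⟨a, ha⟩)
    have e2 : π b = 0 := congrArg Subtype.val
      (Submodule.projectionOnto_apply_right hc ⟨b, hU' hb⟩)
    simp [e1, e2]
  refine ⟨y * π + z * (1 - π), fun x hx => ?_, fun x hx x' hx' => ?_, fun x hx => ?_⟩
  · obtain ⟨a, ha, b, hb, rfl⟩ := Submodule.mem_sup.mp hx
    rw [key a ha b hb]
    exact Submodule.add_mem_sup (a1 a ha) (b1 b hb)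
  · obtain ⟨a, ha, b, hb, rfl⟩ := Submodule.mem_sup.mp hx
    obtain ⟨a', ha', b', hb', rfl⟩ := Submodule.mem_sup.mp hx'
    rw [key a ha b hb, key a' ha' b' hb']
    simp only [map_add, LinearMap.add_apply, a2 a ha a' ha', b2 b hb b' hb',
      (ho _ (a1 a ha) _ (b1 b' hb')).1, (ho _ (a1 a' ha') _ (b1 b hb)).2.1,
      (ho a ha b' hb').2.2.1, (ho a' ha' b hb).2.2.2]
  · obtain ⟨a, ha, b, hb, rfl⟩ := Submodule.mem_sup.mp hx
    rw [map_add g, key a ha b hb, key _ (hW a ha) _ (hU b hb), a3 a ha, b3 b hb, map_add]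

/-- From an equivalence of the pulled back form on `W` to a partial isometry intertwining
`g` and `g'`. -/
theorem CIso.exists_map (h : IsForm ε κ τ B Q) {g g' : End F V} {x : V ≃ₗ[F] V}
    (hx : ∀ v, x (g v) = g' (x v)) {W : Submodule F V} (hW : ∀ a ∈ W, g a ∈ W)
    (hn : NondegOn (pull B x.toLinearMap) W) (H : CIso B (pull B x.toLinearMap) g W) :
    ∃ f : End F V, W.map f = W.map x.toLinearMap ∧ (∀ a ∈ W, f a = 0 → a = 0) ∧
      (∀ a ∈ W, ∀ b ∈ W, B (f a) (f b) = B a b) ∧ ∀ a ∈ W, f (g a) = g' (f a) := by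
  obtain ⟨y, a1, a2, a3⟩ := H
  have hi : Function.Injective (y.restrict a1) := (injective_iff_map_eq_zero _).mpr fun a ha =>
    Subtype.ext (hn a a.2 fun b hb => by
      rw [← a2 a a.2 b hb, show y a = 0 from congrArg Subtype.val ha]; simp)
  let e := LinearEquiv.ofInjectiveEndo _ hi
  have he : ∀ a : W, y (e.symm a) = a := fun a => congrArg Subtype.val (e.apply_symm_apply a)
  obtain ⟨f, hf⟩ := (x.toLinearMap.comp (W.subtype.comp e.symm.toLinearMap)).exists_extend
  have hf' : ∀ a (ha : a ∈ W), f a = x (e.symm ⟨a, ha⟩) := fun a ha =>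
    LinearMap.congr_fun hf ⟨a, ha⟩
  refine ⟨f, le_antisymm ?_ ?_, fun a ha h0 => ?_, fun a ha b hb => ?_, fun a ha => ?_⟩
  · rintro _ ⟨a, ha, rfl⟩
    exact ⟨_, (e.symm ⟨a, ha⟩).2, (hf' a ha).symm⟩
  · rintro _ ⟨a, ha, rfl⟩
    exact ⟨_, (e ⟨a, ha⟩).2, by rw [hf' _ (e ⟨a, ha⟩).2]; simp⟩
  · rw [hf' a ha, x.map_eq_zero_iff] at h0
    rw [← show y _ = a from he ⟨a, ha⟩, h0, map_zero]
  · rw [hf' a ha, hf' b hb]
    refine (a2 _ (e.symm _).2 _ (e.symm _).2).symm.trans ?_
    rw [he, he]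
  · rw [hf' a ha, hf' _ (hW a ha), ← hx]
    congr 1
    have : e.symm ⟨g a, hW a ha⟩ = ⟨g (e.symm ⟨a, ha⟩), hW _ (e.symm _).2⟩ :=
      e.symm_apply_eq.mpr (Subtype.ext (by
        show g a = y (g _)
        rw [a3 _ (e.symm _).2, he]))
    rw [this]

theorem isConj_isom_of {g g' k : Isom B Q} (H : ∀ v, k.1 (g.1 v) = g'.1 (k.1 v)) : IsConj g g' :=
  isConj_iff.mpr ⟨k, mul_inv_eq_iff_eq_mul.mpr (Subtype.ext (LinearEquiv.ext H))⟩

omit [FiniteDimensional F V] in
theorem Q_sub_isom (h : IsForm ε κ τ B Q) {g : V ≃ₗ[F] V} (hg : g ∈ Isom B Q) (x : V) :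
    Q (g x - x) = τ (B x x) - τ (B (g x) x) := by
  have := h.sub x x
  rw [sub_self, h.map_zero] at this
  rw [h.sub, hg.2]
  linear_combination -this

/-- **Wall's criterion** for conjugacy in an isometry group. -/
theorem isConj_of_wall (h : IsForm ε κ τ B Q) (hB : B.SeparatingLeft) (g g' : Isom B Q)
    (T : V ≃ₗ[F] V) (hT : ∀ x y, B (T x) (g'.1 (T y) - T y) = B x (g.1 y - y)) : IsConj g g' := by
  let N : End F V := g.1.toLinearMap - 1
  let N' : End F V := (g'.1.toLinearMap - 1) * T.toLinearMap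
  have hN : ∀ y, N y = g.1 y - y := fun _ => rfl
  have hN' : ∀ y, N' y = g'.1 (T y) - T y := fun _ => rfl
  have hk : LinearMap.ker N = LinearMap.ker N' := by
    ext y
    simp only [LinearMap.mem_ker, hN, hN']
    exact ⟨fun hy => h.separatingRight hB fun u => by
      rw [← T.apply_symm_apply u, hT, hy, map_zero],
      fun hy => h.separatingRight hB fun u => by rw [← hT, hy, map_zero]⟩
  have e : ∀ (a : Isom B Q) x y, B (a.1 x - x) (a.1 y - y) =
      -B x (a.1 y - y) - ε * σ (B y (a.1 x - x)) := fun a x y => by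
    rw [← h.symm]
    simp only [map_sub, LinearMap.sub_apply, a.2.1]
    ring
  obtain ⟨k, hk1, hk2⟩ := h.witt_maps hB ((LinearMap.ker N).liftQ N le_rfl)
    ((LinearMap.ker N).liftQ N' hk.le)
    (LinearMap.ker_eq_bot.mp (Submodule.ker_liftQ_eq_bot _ _ _ le_rfl))
    (LinearMap.ker_eq_bot.mp (Submodule.ker_liftQ_eq_bot _ _ _ hk.ge))
    (fun x y => by
      obtain ⟨x, rfl⟩ := Submodule.Quotient.mk_surjective _ x
      obtain ⟨y, rfl⟩ := Submodule.Quotient.mk_surjective _ y
      simp only [Submodule.liftQ_apply, hN, hN', e, hT])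
    (fun x => by
      obtain ⟨x, rfl⟩ := Submodule.Quotient.mk_surjective _ x
      simp only [Submodule.liftQ_apply, hN, hN', Q_sub_isom h g.2, Q_sub_isom h g'.2, ← map_sub]
      congr 1
      have := h.flip_eq (hT x x)
      simp only [map_sub, LinearMap.sub_apply] at this
      linear_combination -this)
  have hk3 : ∀ x, k (N x) = N' x := fun x => hk2 (Submodule.Quotient.mk x)
  refine isConj_isom_of (k := ⟨k, hk1⟩) fun v => ?_
  obtain ⟨x, hx⟩ := T.surjective (k v)
  have h1 : v - x ∈ fixS g.1 := by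
    rw [← h.perp_movS hB g.2, h.mem_perp']
    rintro _ hy
    obtain ⟨y, rfl⟩ := mem_movS.mp hy
    rw [map_sub B, LinearMap.sub_apply, ← hT x y, hx, ← hN', ← hk3, hk1.1, hN, sub_self]
  have h2 := hk3 x
  rw [hN, hN', hx, map_sub] at h2
  have h3 := congrArg k (mem_fixS.mp h1)
  simp only [map_sub] at h3
  linear_combination (norm := abel) h2 + h3

end Cfsg.Agent.H10
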