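import Mathlib
import Cfsg.Agent.H10.Conj1
import Cfsg.Agent.H10.Geo1

/-! Conjugacy of semisimple isometries, and of unitary elements. -/

namespace Cfsg.Agent.H10

open Module H11

variable {F : Type*} [Field F] {V : Type*} [AddCommGroup V] [Module F V] {σ : F →+* F}
  {ε κ : F} {τ : F →+ F} {B : V →ₛₗ[σ] V →ₗ[F] F} {Q : V → F}

theorem disjoint_movS_fixS {g : V ≃ₗ[F] V} {n : ℕ} (hg : g ^ n = 1) (hn : (n : F) ≠ 0) :
    Disjoint (movS g) (fixS g) := by
  refine Submodule.disjoint_def.mpr fun w h1 h2 => ?_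
  obtain ⟨u, hu⟩ := mem_movS.mp h1
  have : ∀ k : ℕ, (g ^ k) u = u + (k : F) • w := fun k => by
    induction k with
    | zero => simp
    | succ k ih =>
      rw [pow_succ', LinearEquiv.mul_apply, ih, map_add, map_smul, mem_fixS.mp h2,
        sub_eq_iff_eq_add.mp hu, Nat.cast_succ]
      module
  have h3 := this n
  rw [hg] at h3
  simpa [hn] using h3

theorem movS_invariant (g : V ≃ₗ[F] V) {a : End F V} (h : ∀ v, a (g v) = g (a v)) :
    ∀ w ∈ movS g, a w ∈ movS g := fun _ hw => by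
  obtain ⟨u, rfl⟩ := mem_movS.mp hw
  exact mem_movS.mpr ⟨a u, by rw [map_sub, h]⟩

theorem pull_mem_isom {g g' : V ≃ₗ[F] V} (hg : g' ∈ Isom B Q) {x : V ≃ₗ[F] V}
    (hx : ∀ v, x (g v) = g' (x v)) : g ∈ Isom (pull B x.toLinearMap) (fun v => Q (x v)) :=
  ⟨fun u v => by simp [hx, hg.1], fun v => by simp [hx, hg.2]⟩

variable [FiniteDimensional F V]

theorem nondegOn_movS (h : IsForm ε κ τ B Q) (hB : B.SeparatingLeft) {g : V ≃ₗ[F] V}
    (hg : g ∈ Isom B Q) (hd : Disjoint (movS g) (fixS g)) : NondegOn B (movS g) :=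
  fun w hw H => Submodule.disjoint_def.mp hd w hw (h.perp_movS hB hg ▸ h.mem_perp'.mpr H)

theorem nondegOn_fixS (h : IsForm ε κ τ B Q) (hB : B.SeparatingLeft) {g : V ≃ₗ[F] V}
    (hg : g ∈ Isom B Q) (hd : Disjoint (movS g) (fixS g)) : NondegOn B (fixS g) :=
  h.perp_movS hB hg ▸ h.nondegOn_perp hB (nondegOn_movS h hB hg hd)

theorem isCompl_movS (h : IsForm ε κ τ B Q) (hB : B.SeparatingLeft) {g : V ≃ₗ[F] V}
    (hg : g ∈ Isom B Q) (hd : Disjoint (movS g) (fixS g)) : IsCompl (movS g) (fixS g) :=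
  h.perp_movS hB hg ▸ h.isCompl_perp hB (nondegOn_movS h hB hg hd)

theorem orth_movS_fixS (h : IsForm ε κ τ B Q) (hB : B.SeparatingLeft) {g : V ≃ₗ[F] V}
    (hg : g ∈ Isom B Q) {a b : V} (ha : a ∈ movS g) (hb : b ∈ fixS g) : B a b = 0 ∧ B b a = 0 :=
  have := mem_perp.mp (h.perp_movS hB hg ▸ hb : b ∈ perp B (movS g)) a ha
  ⟨this, h.refl this⟩

/-- A partial isometry intertwining `g` and `g'` on the commutator space. -/
theorem isConj_of_cIso_movS (h : IsForm ε κ τ B Q) (hB : B.SeparatingLeft) (g g' : Isom B Q)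
    {x : V ≃ₗ[F] V} (hx : ∀ v, x (g.1 v) = g'.1 (x v)) (hd : Disjoint (movS g.1) (fixS g.1))
    (H : CIso B (pull B x.toLinearMap) g.1.toLinearMap (movS g.1)) : IsConj g g' := by
  have hW := movS_invariant g.1 (a := g.1.toLinearMap) fun _ => rfl
  obtain ⟨f, f1, f2, f3, f4⟩ := H.exists_map h (g' := g'.1.toLinearMap) hx hW
    (nondegOn_movS (h.comp _) (separatingLeft_pull_equiv hB x) (pull_mem_isom g'.2 hx) hd)
  have hc := isCompl_movS h hB g.2 hd
  obtain ⟨k, hk, hkf⟩ := h.witt hB _ f f2 f3 fun w hw => by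
    obtain ⟨u, rfl⟩ := mem_movS.mp hw
    obtain ⟨a, ha, b, hb, rfl⟩ := Submodule.mem_sup.mp (hc.sup_eq_top ▸ Submodule.mem_top (x := u))
    have : g.1 (a + b) - (a + b) = g.1 a - a := by rw [map_add, mem_fixS.mp hb]; abel
    have e : f (g.1 a) = g'.1 (f a) := f4 a ha
    rw [this, map_sub, e, Q_sub_isom h g.2, Q_sub_isom h g'.2, ← e, f3 a ha a ha,
      f3 (g.1 a) (hW a ha) a ha]
  refine isConj_isom_of (k := ⟨k, hk⟩) fun v => ?_
  obtain ⟨a, ha, b, hb, rfl⟩ := Submodule.mem_sup.mp (hc.sup_eq_top ▸ Submodule.mem_top (x := v))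
  have h1 : k b ∈ fixS g'.1 := by
    rw [← h.perp_movS hB g'.2, mem_perp]
    intro w hw
    obtain ⟨u, rfl⟩ := mem_movS.mp hw
    obtain ⟨c, hc, e⟩ : g'.1 u - u ∈ (movS g.1).map f := f1 ▸
      ⟨_, mem_movS.mpr ⟨x.symm u, rfl⟩, by simp [hx]⟩
    rw [← e, ← hkf c hc, hk.1, (orth_movS_fixS h hB g.2 hc hb).1]
  simp only [map_add, mem_fixS.mp hb, mem_fixS.mp h1, hkf a ha]
  rw [hkf (g.1 a) (hW a ha)]
  exact congrArg (· + k b) (f4 a ha)

variable [Finite F]

/-- Semisimple isometries of odd order that are linearly conjugate are conjugate. -/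
theorem isConj_of_odd (h : IsForm ε κ τ B Q) (hB : B.SeparatingLeft) (g g' : Isom B Q)
    {x : V ≃ₗ[F] V} (hx : ∀ v, x (g.1 v) = g'.1 (x v)) {n : ℕ} (hg : g.1 ^ n = 1)
    (hn : (n : F) ≠ 0) (ho : Odd n) : IsConj g g' := by
  have hd := disjoint_movS_fixS hg hn
  have hg' := pull_mem_isom g'.2 hx
  refine isConj_of_cIso_movS h hB g g' hx hd (cIso_of h (h.comp _) g.2.1 hg'.1
    (movS_invariant g.1 fun _ => rfl) (nondegOn_movS h hB g.2 hd)
    (nondegOn_movS (h.comp _) (separatingLeft_pull_equiv hB x) hg' hd)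
    (Or.inr fun w hw h2 => Submodule.disjoint_def.mp hd w hw (mem_fixS.mpr ?_)))
  obtain ⟨k, rfl⟩ := ho
  have : ∀ j, (g.1 ^ (2 * j)) w = w := fun j => by
    induction j with
    | zero => rfl
    | succ j ih => rw [mul_add, pow_add, LinearEquiv.mul_apply, mul_one, pow_two,
        LinearEquiv.mul_apply, show g.1 (g.1 w) = w from h2, ih]
  have h3 := LinearEquiv.congr_fun hg w
  rwa [pow_succ', LinearEquiv.mul_apply, this] at h3

omit [Finite F] in
theorem isConj_of_cIso_top (h : IsForm ε κ τ B Q) (hB : B.SeparatingLeft)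
    (hQ : ∀ u v, B u u = B v v → Q u = Q v) (g g' : Isom B Q)
    {x : V ≃ₗ[F] V} (hx : ∀ v, x (g.1 v) = g'.1 (x v))
    (H : CIso B (pull B x.toLinearMap) g.1.toLinearMap ⊤) : IsConj g g' := by
  obtain ⟨f, -, -, f3, f4⟩ := H.exists_map h (g' := g'.1.toLinearMap) hx
    (fun _ _ => Submodule.mem_top) (nondegOn_top (separatingLeft_pull_equiv hB x))
  obtain ⟨k, hk, hkf⟩ := IsForm.exists_isom_of_linear (Q := Q) hB f
    (fun u v => f3 u trivial v trivial) fun u => hQ _ _ (f3 u trivial u trivial)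
  exact isConj_isom_of (k := ⟨k, hk⟩) fun v => by rw [hkf, hkf]; exact f4 v trivial

/-- Linearly conjugate unitary elements are conjugate. -/
theorem isConj_of_unitary (h : IsForm ε κ τ B Q) (hB : B.SeparatingLeft)
    (hσ : σ ≠ RingHom.id F) (hQ : ∀ u v, B u u = B v v → Q u = Q v) (g g' : Isom B Q)
    {x : V ≃ₗ[F] V} (hx : ∀ v, x (g.1 v) = g'.1 (x v)) : IsConj g g' :=
  isConj_of_cIso_top h hB hQ g g' hx (cIso_of h (h.comp _) g.2.1 (pull_mem_isom g'.2 hx).1
    (fun _ _ => trivial) (nondegOn_top hB) (nondegOn_top (separatingLeft_pull_equiv hB x))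
    (Or.inl hσ))

omit [Finite F] in
theorem cIso_alt_scalar {B B' : LinearMap.BilinForm F V} (hA : B.IsAlt) (hA' : B'.IsAlt)
    {g : End F V} {U : Submodule F V} {c : F} (hc : ∀ a ∈ U, g a = c • a) (h : NondegOn B U)
    (h' : NondegOn B' U) : CIso B B' g U := by
  have a1 : LinearMap.BilinForm.IsAlt (pull B U.subtype) := fun x => hA x
  have a2 : LinearMap.BilinForm.IsAlt (pull B' U.subtype) := fun x => hA' x
  obtain ⟨y, hy⟩ := alt_isometric
    (a2.isRefl.nondegenerate_iff_separatingLeft.mpr (nondegOn_iff.mp h')) a2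
    (a1.isRefl.nondegenerate_iff_separatingLeft.mpr (nondegOn_iff.mp h)) a1 rfl
  refine CIso.of_restrict (fun a ha => hc a ha ▸ U.smul_mem c ha) y.toLinearMap hy fun a => ?_
  refine (congrArg (fun z => (y.toLinearMap z : V)) (Subtype.ext (hc a a.2) : _ = c • a)).trans ?_
  rw [hc _ (y.toLinearMap a).2, map_smul, Submodule.coe_smul]

/-- Linearly conjugate semisimple symplectic elements are conjugate. -/
theorem isConj_of_alt {B : LinearMap.BilinForm F V} (hA : B.IsAlt) (hB : B.SeparatingLeft)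
    (g g' : Isom (σ := RingHom.id F) B fun _ => 0) {x : V ≃ₗ[F] V}
    (hx : ∀ v, x (g.1 v) = g'.1 (x v)) {n : ℕ} (hg : g.1 ^ n = 1) (hn : (n : F) ≠ 0) :
    IsConj g g' := by
  have h := isForm_alt hA
  by_cases h2 : (2 : F) = 0
  · refine isConj_of_odd h hB g g' hx hg hn (Nat.not_even_iff_odd.mp ?_)
    rintro ⟨k, rfl⟩
    exact hn (by rw [Nat.cast_add, ← two_mul, h2, zero_mul])
  have hA' : LinearMap.BilinForm.IsAlt (pull B x.toLinearMap) := fun v => hA _
  have h' := isForm_alt hA'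
  have hB' := separatingLeft_pull_equiv hB x
  have hg' : g.1 ∈ Isom (σ := RingHom.id F) (pull B x.toLinearMap) fun _ => 0 :=
    pull_mem_isom g'.2 hx
  let m : V ≃ₗ[F] V := LinearEquiv.neg F * g.1
  have hm : ∀ v, m v = -g.1 v := fun _ => rfl
  have m1 : m ∈ Isom (σ := RingHom.id F) B fun _ => 0 :=
    ⟨fun u v => by simp [hm, g.2.1], fun _ => rfl⟩
  have m2 : m ∈ Isom (σ := RingHom.id F) (pull B x.toLinearMap) fun _ => 0 :=
    ⟨fun u v => by rw [hm, hm, map_neg, map_neg, LinearMap.neg_apply, neg_neg, hg'.1],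
      fun _ => rfl⟩
  have d0 : Disjoint (movS (g.1 * g.1)) (fixS (g.1 * g.1)) :=
    disjoint_movS_fixS (by rw [← pow_two, ← pow_mul, mul_comm, pow_mul, hg, one_pow]) hn
  have d1 := disjoint_movS_fixS hg hn
  have d2 : Disjoint (movS m) (fixS m) := disjoint_movS_fixS (n := 2 * n) (by
    rw [pow_mul, show m ^ 2 = g.1 ^ 2 from LinearEquiv.ext fun v => by simp [pow_two, hm],
      ← pow_mul, mul_comm, pow_mul, hg, one_pow]) (by simp [h2, hn])
  have f1 : ∀ a ∈ fixS g.1, g.1.toLinearMap a = (1 : F) • a := fun a ha => by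
    simpa using mem_fixS.mp ha
  have f2 : ∀ a ∈ fixS m, g.1.toLinearMap a = (-1 : F) • a := fun a ha => by
    have := mem_fixS.mp ha
    rw [hm, neg_eq_iff_eq_neg] at this
    simpa using this
  have o1 : ∀ C : LinearMap.BilinForm F V, (∀ u v, C (g.1 u) (g.1 v) = C u v) → C.IsAlt →
      ∀ a ∈ fixS g.1, ∀ b ∈ fixS m, C a b = 0 ∧ C b a = 0 := fun C hC hC' a ha b hb => by
    have := hC a b
    rw [show g.1 a = _ from f1 a ha, show g.1 b = _ from f2 b hb] at this
    simp only [one_smul, neg_smul, map_neg] at this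
    have h3 : C a b = 0 := (mul_eq_zero.mp (by linear_combination -this : 2 * C a b = 0)).resolve_left h2
    exact ⟨h3, hC'.isRefl _ _ h3⟩
  have e : fixS g.1 ⊔ fixS m = fixS (g.1 * g.1) := by
    refine le_antisymm (sup_le (fun a ha => mem_fixS.mpr ?_) fun a ha => mem_fixS.mpr ?_)
      fun w hw => ?_
    · rw [LinearEquiv.mul_apply, mem_fixS.mp ha, mem_fixS.mp ha]
    · rw [LinearEquiv.mul_apply, show g.1 a = _ from f2 a ha, map_smul,
        show g.1 a = _ from f2 a ha]; simp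
    · have hw' : g.1 (g.1 w) = w := mem_fixS.mp hw
      refine Submodule.mem_sup.mpr ⟨(2 : F)⁻¹ • (w + g.1 w), Submodule.smul_mem _ _
        (mem_fixS.mpr (by rw [map_add, hw', add_comm])), (2 : F)⁻¹ • (w - g.1 w),
        Submodule.smul_mem _ _ (mem_fixS.mpr (by rw [hm, map_sub, hw', neg_sub])), ?_⟩
      rw [← smul_add, add_add_sub_cancel, ← two_smul F, smul_smul, inv_mul_cancel₀ h2, one_smul]
  have gg := mul_mem g.2 g.2
  have gg' := mul_mem hg' hg'
  have i0 := movS_invariant (g.1 * g.1) (a := g.1.toLinearMap) fun _ => rfl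
  have c1 : CIso B (pull B x.toLinearMap) g.1.toLinearMap (fixS (g.1 * g.1)) := e ▸
    (cIso_alt_scalar hA hA' f1 (nondegOn_fixS h hB g.2 d1) (nondegOn_fixS h' hB' hg' d1)).sup
      (cIso_alt_scalar hA hA' f2 (nondegOn_fixS h hB m1 d2) (nondegOn_fixS h' hB' m2 d2))
      (fun a ha => f1 a ha ▸ Submodule.smul_mem _ _ ha)
      (fun a ha => f2 a ha ▸ Submodule.smul_mem _ _ ha)
      (Submodule.disjoint_def.mpr fun a h1 h2 => nondegOn_fixS h hB g.2 d1 a h1 fun b hb =>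
        (o1 B g.2.1 hA b hb a h2).2)
      fun a ha b hb => ⟨(o1 B g.2.1 hA a ha b hb).1, (o1 B g.2.1 hA a ha b hb).2,
        o1 _ hg'.1 hA' a ha b hb⟩
  refine isConj_of_cIso_top h hB (fun _ _ _ => rfl) g g' hx
    ((isCompl_movS h hB gg d0).sup_eq_top ▸ (cIso_of h h' g.2.1 hg'.1 i0
      (nondegOn_movS h hB gg d0) (nondegOn_movS h' hB' gg' d0)
      (Or.inr fun w hw h2 => Submodule.disjoint_def.mp d0 w hw (mem_fixS.mpr h2))).sup c1 i0
      (fun a ha => mem_fixS.mpr (congrArg g.1 (mem_fixS.mp ha))) d0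
      fun a ha b hb => ⟨(orth_movS_fixS h hB gg ha hb).1, (orth_movS_fixS h hB gg ha hb).2,
        orth_movS_fixS h' hB' gg' ha hb⟩)

omit [FiniteDimensional F V] [Finite F] in
theorem exists_equiv_of_isConj_mat {ι : Type} [Fintype ι] [DecidableEq ι] {A A' : Matrix ι ι F}
    (h : IsConj A A') : ∃ x : (ι → F) ≃ₗ[F] (ι → F), ∀ v, x (A.mulVec v) = A'.mulVec (x v) := by
  obtain ⟨c, hc⟩ := h
  exact ⟨glEquiv ι F c, fun v => by
    rw [glEquiv_apply, glEquiv_apply, Matrix.mulVec_mulVec, Matrix.mulVec_mulVec, hc.eq]⟩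

theorem natCast_ne_zero_of_coprime {F : Type*} [Field F] {p n : ℕ} [Fact p.Prime] [CharP F p]
    (h : n.Coprime p) : (n : F) ≠ 0 := fun h0 =>
  (Fact.out : p.Prime).one_lt.ne' (Nat.Coprime.eq_one_of_dvd h.symm
    ((CharP.cast_eq_zero_iff F p n).mp h0))

end Cfsg.Agent.H10
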