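import Mathlib
import Cfsg.Prelude.Def_JordanBlocks
import Cfsg.Agent.L0.GLn4
import Cfsg.Agent.H10.Conj2
import Cfsg.Agent.H11.UBridge
import Cfsg.Agent.H11.ClassifyQ

/-! Realising elementary divisors by isometries of formed spaces. -/

namespace Cfsg.Agent.H10

open Module Polynomial H11 L0

universe u

variable {F : Type u} [Field F] {σ : F →+* F} {ε κ : F} {τ : F →+ F}

section ty
variable {V W : Type*} [AddCommGroup V] [Module F V] [FiniteDimensional F V] [AddCommGroup W]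
  [Module F W] [FiniteDimensional F W]

theorem tyE_prodMap (f : End F V) (g : End F W) : tyE (f.prodMap g) = tyE f + tyE g :=
  tyE_eq_of_kdE (fun u hu => (Multiset.mem_add.mp hu).elim prim_of_mem_tyE prim_of_mem_tyE)
    fun p k _ _ => by
      rw [Multiset.map_add, Multiset.sum_add, ← kdE_eq_sum, ← kdE_eq_sum, kdE, kdE, kdE,
        show f.prodMap g = LinearMap.prodMapAlgHom F V W (f, g) from rfl, aeval_algHom_apply,
        aeval_prod_apply, ← finrank_prod]
      exact LinearEquiv.finrank_eq ⟨⟨⟨fun x => (⟨x.1.1, congrArg Prod.fst x.2⟩,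
        ⟨x.1.2, congrArg Prod.snd x.2⟩), fun _ _ => rfl⟩, fun _ _ => rfl⟩,
        fun x => ⟨(x.1, x.2), Prod.ext x.1.2 x.2.2⟩, fun _ => rfl, fun _ => rfl⟩

theorem tyE_congr {f : End F V} {g : End F W} (e : V ≃ₗ[F] W) (h : ∀ v, e (f v) = g (e v)) :
    tyE f = tyE g := (tyE_eq_iff f g).mpr ⟨e, h⟩

theorem unip_of_mem_tyE {T : End F V} (h : IsNilpotent (T - 1)) {u : F[X]} (hu : u ∈ tyE T) :
    ∃ k, 0 < k ∧ u = (X - 1) ^ k := by
  obtain ⟨N, hN⟩ := h
  obtain ⟨k, h1, -, h2⟩ := (prim_of_mem_tyE hu).eq_pow_of_dvd_pow irr_X_sub_one monic_X_sub_one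
    ((aeval_eq_zero_iff_tyE T ((X - 1) ^ N)).mp (by simpa using hN) u hu)
  exact ⟨k, h1, h2⟩

theorem tyE_reg {T : End F V} (h : IsNilpotent (T - 1))
    (hk : finrank F (LinearMap.ker (T - 1)) ≤ 1) (h0 : 0 < finrank F V) :
    tyE T = {(X - 1) ^ finrank F V} := by
  have h1 := kdE_eq_sum T (X - 1)
  have h2 := finrank_eq_sum_tyE T
  rw [Multiset.map_congr rfl (g := fun _ => 1) fun u hu => by
    obtain ⟨k, h3, rfl⟩ := unip_of_mem_tyE h hu
    rw [gd_of_dvd_right (prim_of_mem_tyE hu).ne_zero (dvd_pow_self _ h3.ne'), natDegree_X_sub_one],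
    kdE, show aeval T (X - 1 : F[X]) = T - 1 by simp] at h1
  simp only [Multiset.map_const', Multiset.sum_replicate, smul_eq_mul, mul_one] at h1
  obtain ⟨u, hu⟩ := Multiset.card_eq_one.mp (le_antisymm (h1 ▸ hk) (Multiset.card_pos.mpr
    fun e => by simp [e] at h2; omega))
  obtain ⟨k, -, rfl⟩ := unip_of_mem_tyE h (u := u) (by simp [hu])
  simp [h2, hu, natDegree_X_sub_one]

theorem tyE_one : tyE (1 : End F V) = Multiset.replicate (finrank F V) (X - 1) := by
  have h1 : tyE (1 : End F V) = Multiset.replicate _ (X - 1) :=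
    Multiset.eq_replicate_card.mpr fun u hu => by
      obtain ⟨k, h1, h2, rfl⟩ := (prim_of_mem_tyE hu).eq_pow_of_dvd_pow irr_X_sub_one
        monic_X_sub_one ((aeval_eq_zero_iff_tyE 1 ((X - 1) ^ 1)).mp (by simp) u hu)
      rw [show k = 1 by omega, pow_one]
  rw [finrank_eq_sum_tyE (1 : End F V), h1]
  simp [natDegree_X_sub_one]

omit [FiniteDimensional F V] in
theorem aeval_adj {B : V →ₛₗ[σ] V →ₗ[F] F} {a b : End F V} (h : ∀ x y, B (a x) y = B x (b y))
    (f : F[X]) (x y : V) : B (aeval a f x) y = B x (aeval b (f.map σ) y) := by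
  have hp : ∀ (k : ℕ) x y, B ((a ^ k) x) y = B x ((b ^ k) y) := fun k => by
    induction k with
    | zero => simp
    | succ k ih => intro x y; rw [pow_succ', pow_succ, End.mul_apply, End.mul_apply, h, ih]
  induction f using Polynomial.induction_on' with
  | add f g hf hg => simp [hf, hg]
  | monomial k c => simp [aeval_monomial, hp]

theorem finrank_ker_adj {B : V →ₛₗ[σ] V →ₗ[F] F} (hσ : ∀ a, σ (σ a) = a) (hB : B.SeparatingLeft)
    (hB' : B.SeparatingRight) {a b : End F V} (h : ∀ x y, B (a x) y = B x (b y)) :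
    finrank F (LinearMap.ker a) = finrank F (LinearMap.ker b) := by
  have h1 := finrank_add_finrank_perp hσ hB (LinearMap.range a)
  have h2 := a.finrank_range_add_finrank_ker
  rw [show perp B (LinearMap.range a) = LinearMap.ker b from Submodule.ext fun y =>
    ⟨fun hy => hB' _ fun x => by rw [← h]; exact mem_perp.mp hy _ ⟨x, rfl⟩, fun hy =>
      mem_perp.mpr (by rintro _ ⟨x, rfl⟩; rw [h, LinearMap.mem_ker.mp hy, map_zero])⟩] at h1
  omega

theorem kdE_adj {B : V →ₛₗ[σ] V →ₗ[F] F} (hσ : ∀ a, σ (σ a) = a) (hB : B.SeparatingLeft)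
    (hB' : B.SeparatingRight) {a b : End F V} (h : ∀ x y, B (a x) y = B x (b y)) (f : F[X]) :
    kdE a f = kdE b (f.map σ) := finrank_ker_adj hσ hB hB' (aeval_adj h f)

end ty

/-- Parameters of a kind of formed space. -/
structure Par (σ : F →+* F) (ε κ : F) (τ : F →+ F) : Prop where
  invol : ∀ a, σ (σ a) = a
  eps : ε * σ ε = 1
  tau : ∀ a, τ (ε * σ a) = τ a
  norm : ∀ c a, τ (σ c * c * a) = σ c * c * τ a
  kap : ∀ a, a + ε * σ a = κ * τ a

theorem par_alt : Par (RingHom.id F) (-1) 0 0 := by constructor <;> simp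

theorem par_quad : Par (RingHom.id F) 1 2 (AddMonoidHom.id F) := by
  constructor <;> simp [two_mul]

theorem par_herm (hσ : ∀ a, σ (σ a) = a) : Par σ 1 1 (trHom σ) := by
  constructor <;> simp [hσ, add_comm, mul_add, add_mul, mul_comm]

theorem Par.exists_form (P : Par σ ε κ τ) {V : Type*} [AddCommGroup V] [Module F V]
    (C : V →ₛₗ[σ] V →ₗ[F] F) : ∃ B : V →ₛₗ[σ] V →ₗ[F] F,
      (∀ x y, B x y = C x y + ε * σ (C y x)) ∧ IsForm ε κ τ B fun x => τ (C x x) := by
  refine ⟨C + LinearMap.mk₂'ₛₗ σ (RingHom.id F) (fun x y => ε * σ (C y x))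
    (by simp [mul_add]) (fun c x y => by simp; ring) (by simp [mul_add])
    (fun c x y => by simp [P.invol]; ring), fun _ _ => rfl, P.invol, fun x y => ?_,
    fun x y => ?_, fun c x => ?_, fun x => by simp [P.kap], fun x => ⟨_, rfl⟩⟩
  · simp [P.invol, mul_add, ← mul_assoc, P.eps, add_comm]
  · simp [P.tau]; abel
  · rw [← P.norm]; simp [mul_assoc, mul_left_comm]

/-- The multiset `s` is the type of an isometry of the given space. -/
def RealIn {V : Type*} [AddCommGroup V] [Module F V] [FiniteDimensional F V]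
    (B : V →ₛₗ[σ] V →ₗ[F] F) (Q : V → F) (s : Multiset F[X]) : Prop :=
  ∃ g : Isom B Q, tyE g.1.toLinearMap = s

/-- The multiset `s` is the type of an isometry of some non-degenerate formed space. -/
def Real (σ : F →+* F) (ε κ : F) (τ : F →+ F) (s : Multiset F[X]) : Prop :=
  ∃ (V : Type u) (_ : AddCommGroup V) (_ : Module F V) (_ : FiniteDimensional F V)
    (B : V →ₛₗ[σ] V →ₗ[F] F) (Q : V → F), IsForm ε κ τ B Q ∧ B.SeparatingLeft ∧ RealIn B Q s

/-- As `RealIn`, with a commuting isometry of determinant `c`. -/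
def RealInD {V : Type*} [AddCommGroup V] [Module F V] [FiniteDimensional F V]
    (B : V →ₛₗ[σ] V →ₗ[F] F) (Q : V → F) (s : Multiset F[X]) (c : F) : Prop :=
  ∃ g h : Isom B Q, tyE g.1.toLinearMap = s ∧ Commute g h ∧ LinearMap.det h.1.toLinearMap = c

/-- As `Real`, with a commuting isometry of determinant `c`. -/
def RealD (σ : F →+* F) (ε κ : F) (τ : F →+ F) (s : Multiset F[X]) (c : F) : Prop :=
  ∃ (V : Type u) (_ : AddCommGroup V) (_ : Module F V) (_ : FiniteDimensional F V)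
    (B : V →ₛₗ[σ] V →ₗ[F] F) (Q : V → F), IsForm ε κ τ B Q ∧ B.SeparatingLeft ∧ RealInD B Q s c

section realIn
variable {V W : Type*} [AddCommGroup V] [Module F V] [FiniteDimensional F V] [AddCommGroup W]
  [Module F W] [FiniteDimensional F W] {B : V →ₛₗ[σ] V →ₗ[F] F} {Q : V → F}
  {B' : W →ₛₗ[σ] W →ₗ[F] F} {Q' : W → F} {s t : Multiset F[X]} {c c' : F}

theorem RealInD.realIn (h : RealInD B Q s c) : RealIn B Q s := let ⟨g, _, h, _⟩ := h; ⟨g, h⟩

theorem RealIn.realInD (h : RealIn B Q s) : RealInD B Q s 1 :=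
  let ⟨g, h⟩ := h; ⟨g, 1, h, Commute.one_right _, LinearMap.det_id⟩

theorem RealIn.finrank_eq (h : RealIn B Q s) : finrank F V = (s.map natDegree).sum := by
  obtain ⟨g, rfl⟩ := h
  exact finrank_eq_sum_tyE _

theorem RealInD.sim (h : RealInD B Q s c) (e : V ≃ₗ[F] W) {a : F}
    (h1 : ∀ x y, B' (e x) (e y) = a * B x y) (h2 : ∀ x, Q' (e x) = a * Q x) :
    RealInD B' Q' s c := by
  obtain ⟨g, h, rfl, h3, rfl⟩ := h
  have : ∀ g : Isom B Q, e.symm.trans (g.1.trans e) ∈ Isom B' Q' := fun g =>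
    ⟨fun x y => by simp [h1, g.2.1, ← h1], fun x => by simp [h2, g.2.2, ← h2]⟩
  exact ⟨⟨_, this g⟩, ⟨_, this h⟩, (tyE_congr e fun v => by simp).symm, Subtype.ext
    (LinearEquiv.ext fun v => by simpa using congrArg (fun k : Isom B Q => k.1 (e.symm v)) h3),
    LinearMap.det_conj _ e⟩

theorem RealIn.sim (h : RealIn B Q s) (e : V ≃ₗ[F] W) {a : F}
    (h1 : ∀ x y, B' (e x) (e y) = a * B x y) (h2 : ∀ x, Q' (e x) = a * Q x) : RealIn B' Q' s :=
  (h.realInD.sim e h1 h2).realIn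

theorem RealInD.prod (h : RealInD B Q s c) (h' : RealInD B' Q' t c') :
    RealInD (prodB B B') (fun x => Q x.1 + Q' x.2) (s + t) (c * c') := by
  obtain ⟨g, k, rfl, h1, rfl⟩ := h
  obtain ⟨g', k', rfl, h2, rfl⟩ := h'
  exact ⟨orthSumHom (isOrthSum_prod B Q B' Q') (g, g'),
    orthSumHom (isOrthSum_prod B Q B' Q') (k, k'), tyE_prodMap _ _,
    (h1.prod h2).map _, LinearMap.det_prodMap _ _⟩

theorem RealIn.prod (h : RealIn B Q s) (h' : RealIn B' Q' t) :
    RealIn (prodB B B') (fun x => Q x.1 + Q' x.2) (s + t) := (h.realInD.prod h'.realInD).realIn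

theorem realIn_one (B : V →ₛₗ[σ] V →ₗ[F] F) (Q : V → F) :
    RealIn B Q (Multiset.replicate (finrank F V) (X - 1)) := ⟨1, tyE_one⟩

end realIn

variable {s t : Multiset F[X]} {c c' : F}

theorem RealD.real (h : RealD σ ε κ τ s c) : Real σ ε κ τ s :=
  let ⟨V, a, b, c, B, Q, h1, h2, h3⟩ := h; ⟨V, a, b, c, B, Q, h1, h2, h3.realIn⟩

theorem Real.realD (h : Real σ ε κ τ s) : RealD σ ε κ τ s 1 :=
  let ⟨V, a, b, c, B, Q, h1, h2, h3⟩ := h; ⟨V, a, b, c, B, Q, h1, h2, h3.realInD⟩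

theorem RealD.add (h : RealD σ ε κ τ s c) (h' : RealD σ ε κ τ t c') :
    RealD σ ε κ τ (s + t) (c * c') := by
  obtain ⟨V, _, _, _, B, Q, h1, h2, h3⟩ := h
  obtain ⟨W, _, _, _, B', Q', h1', h2', h3'⟩ := h'
  exact ⟨V × W, _, _, inferInstance, _, _, (isOrthSum_prod B Q B' Q').isForm h1 h1',
    (isOrthSum_prod B Q B' Q').sep h2 h2', h3.prod h3'⟩

theorem Real.add (h : Real σ ε κ τ s) (h' : Real σ ε κ τ t) : Real σ ε κ τ (s + t) :=
  (h.realD.add h'.realD).real

theorem Par.realD_of (P : Par σ ε κ τ) {V : Type u} [AddCommGroup V] [Module F V]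
    [FiniteDimensional F V] (C : V →ₛₗ[σ] V →ₗ[F] F) (g k : End F V)
    (hg : ∀ x y, C (g x) (g y) = C x y) (hk : ∀ x y, C (k x) (k y) = C x y) (hc : Commute g k)
    (hC : ∀ x, (∀ y, C x y + ε * σ (C y x) = 0) → x = 0) :
    RealD σ ε κ τ (tyE g) (LinearMap.det k) := by
  obtain ⟨B, h1, h2⟩ := P.exists_form C
  have hB : B.SeparatingLeft := fun x hx => hC x fun y => (h1 x y).symm.trans (hx y)
  obtain ⟨e, he, h3⟩ := IsForm.exists_isom_of_linear (Q := fun x => τ (C x x)) hB g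
    (by simp [h1, hg]) (by simp [hg])
  obtain ⟨f, hf, h4⟩ := IsForm.exists_isom_of_linear (Q := fun x => τ (C x x)) hB k
    (by simp [h1, hk]) (by simp [hk])
  exact ⟨V, _, _, _, B, _, h2, hB, ⟨e, he⟩, ⟨f, hf⟩, congrArg tyE (LinearMap.ext h3),
    Subtype.ext (LinearEquiv.ext fun v => by simpa [h3, h4] using LinearMap.congr_fun hc v),
    congrArg LinearMap.det (LinearMap.ext h4)⟩

theorem Par.real_zero (P : Par σ ε κ τ) : Real σ ε κ τ 0 := by
  simpa [tyE_one] using (P.realD_of (V := Fin 0 → F) 0 1 1 (by simp) (by simp) rfl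
    fun x _ => Subsingleton.elim _ _).real

theorem Par.real_sum (P : Par σ ε κ τ) {ι : Type*} (m : Multiset ι) (f : ι → Multiset F[X])
    (h : ∀ i ∈ m, Real σ ε κ τ (f i)) : Real σ ε κ τ (m.bind f) := by
  induction m using Multiset.induction_on with
  | empty => exact P.real_zero
  | cons a m ih =>
    rw [Multiset.cons_bind]
    exact (h a (by simp)).add (ih fun i hi => h i (by simp [hi]))

theorem Par.real_nsmul (P : Par σ ε κ τ) (h : Real σ ε κ τ s) (k : ℕ) : Real σ ε κ τ (k • s) := by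
  induction k with
  | zero => exact P.real_zero
  | succ k ih => rw [succ_nsmul]; exact ih.add h

open Classical in
theorem Par.real_of_count (P : Par σ ε κ τ)
    (h : ∀ u ∈ s, Real σ ε κ τ {u} ∨ Even (s.count u) ∧ Real σ ε κ τ ({u} + {u})) :
    Real σ ε κ τ s := by
  rw [← s.toFinset_sum_count_nsmul_eq]
  refine P.real_sum s.toFinset.val _ fun u hu => ?_
  rcases h u (by simpa using hu) with h1 | ⟨⟨k, hk⟩, h1⟩
  · exact P.real_nsmul h1 _
  · rw [hk, add_nsmul, ← nsmul_add]; exact P.real_nsmul h1 _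

/-- Hyperbolic blocks. -/
theorem Par.realD_hyp (P : Par σ ε κ τ) {V : Type u} [AddCommGroup V] [Module F V]
    [FiniteDimensional F V] {B : V →ₛₗ[σ] V →ₗ[F] F} (hB : B.SeparatingLeft)
    (hB' : B.SeparatingRight) {a b a' b' : End F V} (h : ∀ x y, B (a x) (b y) = B x y)
    (h' : ∀ x y, B (a' x) (b' y) = B x y) (h1 : Commute a a') (h2 : Commute b b') :
    RealD σ ε κ τ (tyE a + tyE b) (LinearMap.det a' * LinearMap.det b') := by
  rw [← tyE_prodMap, ← LinearMap.det_prodMap]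
  refine P.realD_of ((B.comp (LinearMap.fst F V V)).compl₂ (LinearMap.snd F V V)) _ _
    (fun x y => h _ _) (fun x y => h' _ _) (LinearMap.ext fun x => Prod.ext
      (LinearMap.congr_fun h1 _) (LinearMap.congr_fun h2 _))
    fun x hx => Prod.ext (hB _ fun y => ?_) (hB' _ fun y => ?_)
  · simpa using hx (0, y)
  · have : ε ≠ 0 := left_ne_zero_of_mul_eq_one P.eps
    simpa [this] using hx (y, 0)

theorem Par.real_hyp (P : Par σ ε κ τ) {V : Type u} [AddCommGroup V] [Module F V]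
    [FiniteDimensional F V] {B : V →ₛₗ[σ] V →ₗ[F] F} (hB : B.SeparatingLeft)
    (hB' : B.SeparatingRight) {a b : End F V} (h : ∀ x y, B (a x) (b y) = B x y) :
    Real σ ε κ τ (tyE a + tyE b) :=
  (P.realD_hyp hB hB' h (a' := 1) (b' := 1) (by simp) (.one_right _) (.one_right _)).real

theorem exists_dual_end (σ : F →+* F) {n : Type} [Fintype n] [DecidableEq n]
    (A : GL n F) : ∃ b : (n → F) ≃ₗ[F] (n → F), (∀ x y,
      hermB n σ (Matrix.toLin' (A : Matrix n n F) x) (b y) = hermB n σ x y) ∧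
      LinearMap.det b.toLinearMap = (σ A.1.det)⁻¹ := by
  have h1 : ∀ (A : Matrix n n F) x y, hermB n σ (A.mulVec x) y =
      hermB n σ x ((A.map σ).transpose.mulVec y) := fun A x y => by
    simp only [hermB_apply, Matrix.mulVec, dotProduct, map_sum, map_mul, Finset.sum_mul,
      Finset.mul_sum, Matrix.transpose_apply, Matrix.map_apply]
    rw [Finset.sum_comm]
    exact Finset.sum_congr rfl fun i _ => Finset.sum_congr rfl fun j _ => by ring
  have h2 : ∀ A A' : Matrix n n F, A * A' = 1 →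
      (A'.map σ).transpose * (A.map σ).transpose = 1 := fun A A' h => by
    rw [← Matrix.transpose_mul, ← Matrix.map_mul, h]; simp
  refine ⟨glEquiv n F ⟨_, _, h2 _ _ A.mul_inv, h2 _ _ A.inv_mul⟩, fun x y => ?_, ?_⟩
  · rw [Matrix.toLin'_apply, h1, glEquiv_apply, Matrix.mulVec_mulVec, h2 _ _ A.inv_mul,
      Matrix.one_mulVec]
  · rw [det_glEquiv, Matrix.det_transpose, ← RingHom.mapMatrix_apply, ← RingHom.map_det,
      ← map_inv₀]
    simp

theorem hermB_sepR (n : Type) [Fintype n] : (hermB n σ).SeparatingRight := fun y hy => by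
  classical
  exact funext fun i => (hermB_single i y).symm.trans (hy _)

theorem Par.real_unip_two (P : Par σ ε κ τ) {k : ℕ} (hk : 0 < k) :
    Real σ ε κ τ ({(X - 1) ^ k} + {(X - 1) ^ k}) := by
  obtain ⟨A, hA⟩ := exists_gl_ty_eq (n := Fin k) (s := {(X - 1 : F[X]) ^ k})
    (by simp [prim_X_sub_one_pow hk]) (by simp [not_X_dvd_X_sub_one_pow])
    (by simp [natDegree_X_sub_one])
  obtain ⟨b, hb, -⟩ := exists_dual_end σ A
  have h1 : ∀ j, min j k = finrank F (LinearMap.ker ((b.symm.toLinearMap - 1) ^ j)) := fun j => by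
    have := kdE_adj P.invol (hermB_sep _) (hermB_sepR _) (a := Matrix.toLin' A.1)
      (b := b.symm.toLinearMap) (fun x y => by simpa using hb x (b.symm y)) ((X - 1) ^ j)
    rw [kdE_eq_sum, show tyE (Matrix.toLin' A.1) = _ from hA, kdE, show aeval b.symm.toLinearMap
      (((X - 1 : F[X]) ^ j).map σ) = (b.symm.toLinearMap - 1) ^ j by simp] at this
    simpa [gd_pow_pow irr_X_sub_one.ne_zero, natDegree_X_sub_one] using this
  have h2 : b.toLinearMap - 1 = -b.toLinearMap * (b.symm.toLinearMap - 1) := by ext; simp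
  have h3 : tyE b.toLinearMap = {(X - 1) ^ k} := by
    simpa using tyE_reg (T := b.toLinearMap) (h2 ▸ Commute.isNilpotent_mul_left
      (LinearMap.ext fun x => by simp; abel) ⟨k, LinearMap.ker_eq_top.mp
        (Submodule.eq_top_of_finrank_eq (by simp [← h1]))⟩) ((Submodule.finrank_mono
          fun x hx => by
            have : b x = x := sub_eq_zero.mp hx
            rw [pow_one]
            exact sub_eq_zero.mpr (b.symm_apply_eq.mpr this.symm)).trans
          ((h1 1).ge.trans (by simp))) (by simpa)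
  simpa only [h3, show tyE (Matrix.toLin' A.1) = _ from hA] using
    P.real_hyp (hermB_sep _) (hermB_sepR _) (b := b.toLinearMap) hb

theorem tyE_mulLeft_root {u : F[X]} (hu : Prim u) [FiniteDimensional F (AdjoinRoot u)] :
    tyE (LinearMap.mulLeft F (AdjoinRoot.root u)) = {u} :=
  IsMdl.tyE_eq (g := fun _ : Unit => u) ⟨(LinearEquiv.funUnique Unit F _).symm, fun _ _ => rfl⟩
    fun _ => hu

/-- Cyclic blocks. -/
theorem Par.realD_cyc (P : Par σ ε κ τ) {u : F[X]} (hu : Prim u)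
    (θ : AdjoinRoot u →+* AdjoinRoot u) (h1 : ∀ a, θ (AdjoinRoot.of u a) = AdjoinRoot.of u (σ a))
    (h2 : θ (AdjoinRoot.root u) * AdjoinRoot.root u = 1) (l : AdjoinRoot u →ₗ[F] F)
    {z : AdjoinRoot u} (h3 : ∀ a ≠ 0, ∃ b, a * b = z) (h4 : l z + ε * σ (l (θ z)) ≠ 0)
    {w : AdjoinRoot u} (hw : θ w * w = 1) : RealD σ ε κ τ {u} (Algebra.norm F w) := by
  have := finite_adjoinRoot hu.ne_zero
  have h5 : ∀ a, θ (θ a) = a := fun a => DFunLike.congr_fun (AdjoinRoot.ringHom_ext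
    (f := θ.comp θ) (g := RingHom.id _) (RingHom.ext fun c => by simp [h1, P.invol])
    (left_inv_eq_right_inv (by simpa using congrArg θ h2) h2)) a
  have h6 : ∀ (c : F) a, θ (c • a) = σ c • θ a := fun c a => by
    simp [Algebra.smul_def, h1]
  rw [← tyE_mulLeft_root hu]
  refine P.realD_of (LinearMap.mk₂'ₛₗ σ (RingHom.id F) (fun x y => l (θ x * y))
    (by simp [add_mul]) (by simp [h6]) (by simp [mul_add]) (by simp)) _ (LinearMap.mulLeft F w)
    (fun x y => ?_) (fun x y => ?_) (LinearMap.ext fun x => mul_left_comm (AdjoinRoot.root u) w x)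
    fun x hx => by_contra fun h0 => ?_
  · simp only [LinearMap.mk₂'ₛₗ_apply, LinearMap.mulLeft_apply, map_mul]
    rw [mul_mul_mul_comm, h2, one_mul]
  · simp only [LinearMap.mk₂'ₛₗ_apply, LinearMap.mulLeft_apply, map_mul]
    rw [mul_mul_mul_comm, hw, one_mul]
  · obtain ⟨b, rfl⟩ := h3 (θ x) fun e => h0 (by rw [← h5 x, e, map_zero])
    exact h4 (by simpa [h5, mul_comm] using hx b)

theorem socle_ne_zero (c : F) (k : ℕ) :
    AdjoinRoot.mk ((X - C c) ^ (k + 1)) ((X - C c) ^ k) ≠ 0 := fun h => by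
  have := natDegree_le_of_dvd (AdjoinRoot.mk_eq_zero.mp h) (pow_ne_zero _ (X_sub_C_ne_zero c))
  simp at this

theorem exists_mul_eq_socle (c : F) (k : ℕ) (a : AdjoinRoot ((X - C c) ^ (k + 1))) (ha : a ≠ 0) :
    ∃ b, a * b = AdjoinRoot.mk _ ((X - C c) ^ k) := by
  obtain ⟨f, rfl⟩ := AdjoinRoot.mk_surjective a
  obtain ⟨h, h1, h2⟩ := exists_eq_pow_rootMultiplicity_mul_and_not_dvd f
    (by rintro rfl; simp at ha) c
  obtain ⟨v, hv⟩ := ((isUnit_mk_pow_iff (irreducible_X_sub_C c) k.succ_pos h).mpr h2).exists_right_inv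
  obtain ⟨j, hj⟩ := Nat.exists_eq_add_of_le (Nat.lt_succ_iff.mp (not_le.mp fun e =>
    ha (AdjoinRoot.mk_eq_zero.mpr (h1 ▸ (pow_dvd_pow _ e).mul_right _))))
  refine ⟨v * AdjoinRoot.mk _ ((X - C c) ^ j), ?_⟩
  rw [h1, map_mul, mul_mul_mul_comm, mul_comm _ v, mul_mul_mul_comm, mul_comm v, hv, one_mul,
    ← map_mul, ← pow_add, ← hj]

theorem exists_dual_eq {V : Type*} [AddCommGroup V] [Module F V] {z : V} (hz : z ≠ 0) (a : F) :
    ∃ l : V →ₗ[F] F, l z = a := by
  obtain ⟨l, hl⟩ := Module.Projective.exists_dual_eq_one F hz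
  exact ⟨a • l, by simp [hl]⟩

theorem exists_theta (σ : F →+* F) (k : ℕ) :
    ∃ θ : AdjoinRoot ((X - C 1 : F[X]) ^ (k + 1)) →+* AdjoinRoot ((X - C 1 : F[X]) ^ (k + 1)),
      (∀ a, θ (AdjoinRoot.of _ a) = AdjoinRoot.of _ (σ a)) ∧
      θ (AdjoinRoot.root _) * AdjoinRoot.root _ = 1 ∧
      θ (AdjoinRoot.mk _ ((X - C 1) ^ k)) = ((-1) ^ k : F) • AdjoinRoot.mk _ ((X - C 1) ^ k) := by
  set u : F[X] := (X - C 1) ^ (k + 1)
  let r := AdjoinRoot.root u
  have h0 : (r - 1) ^ (k + 1) = 0 := by simpa [u] using AdjoinRoot.mk_self (f := u)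
  obtain ⟨v, hv⟩ := (IsNilpotent.isUnit_add_one ⟨_, h0⟩).exists_left_inv
  rw [sub_add_cancel] at hv
  have h1 : v - 1 = -v * (r - 1) := by linear_combination hv
  let θ : AdjoinRoot u →+* AdjoinRoot u := AdjoinRoot.lift ((AdjoinRoot.of u).comp σ) v (by
    simp only [u, eval₂_pow, eval₂_sub, eval₂_X, map_one, eval₂_one]
    rw [h1, mul_pow, h0, mul_zero])
  have h2 : θ r = v := AdjoinRoot.lift_root _
  have h3 : AdjoinRoot.mk u ((X - C 1) ^ k) = (r - 1) ^ k := by simp [r]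
  have h4 : ∀ j, v ^ j * (r - 1) ^ k = (r - 1) ^ k := fun j => by
    induction j with
    | zero => simp
    | succ j ih => linear_combination v * ih - v * h0 + (r - 1) ^ k * hv
  refine ⟨θ, fun a => AdjoinRoot.lift_of _, h2 ▸ hv, ?_⟩
  rw [h3, map_pow, map_sub, map_one, h2, h1, mul_pow, neg_pow, mul_assoc, h4,
    show (-1 : AdjoinRoot u) ^ k = algebraMap F _ ((-1) ^ k) by simp, ← Algebra.smul_def]

theorem Par.realD_unip (P : Par σ ε κ τ) (k : ℕ) {a : F} (ha : a + ε * σ ((-1) ^ k * a) ≠ 0)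
    (hc : σ c * c = 1) : RealD σ ε κ τ {(X - 1) ^ (k + 1)} (c ^ (k + 1)) := by
  rw [← C_1]
  obtain ⟨θ, h1, h2, h3⟩ := exists_theta σ k
  obtain ⟨l, hl⟩ := exists_dual_eq (socle_ne_zero (1 : F) k) a
  have hu : Prim ((X - C 1 : F[X]) ^ (k + 1)) := by simpa using prim_X_sub_one_pow k.succ_pos
  have := finite_adjoinRoot hu.ne_zero
  have := P.realD_cyc hu θ h1 h2 l (exists_mul_eq_socle 1 k) (by rwa [h3, map_smul, hl])
    (w := algebraMap F _ c) (by rw [AdjoinRoot.algebraMap_eq, h1, ← map_mul, hc]; exact map_one _)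
  rwa [Algebra.norm_algebraMap, finrank_adjoinRoot hu.ne_zero, natDegree_pow, natDegree_X_sub_C,
    mul_one] at this

theorem Par.real_unip (P : Par σ ε κ τ) (k : ℕ) {a : F} (ha : a + ε * σ ((-1) ^ k * a) ≠ 0) :
    Real σ ε κ τ {(X - 1) ^ (k + 1)} := (P.realD_unip k ha (c := 1) (by simp)).real

theorem real_alt_even (k : ℕ) : Real (RingHom.id F) (-1) 0 0 {(X - 1) ^ (2 * (k + 1))} := by
  set u : F[X] := (X - C 0) ^ (k + 1)
  have hu : u ≠ 0 := pow_ne_zero _ (X_sub_C_ne_zero 0)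
  have := finite_adjoinRoot hu
  let y := AdjoinRoot.root u
  have h0 : y ^ (k + 1) = 0 := by simpa [u] using AdjoinRoot.mk_self (f := u)
  obtain ⟨l, hl⟩ := exists_dual_eq (socle_ne_zero (0 : F) k) (1 : F)
  have h1 : ∀ a, (∀ b, l (a * b) = 0) → a = 0 := fun a ha => by_contra fun e => by
    obtain ⟨b, hb⟩ := exists_mul_eq_socle 0 k a e
    exact one_ne_zero (hl.symm.trans (hb ▸ ha b))
  let S := AdjoinRoot u
  let B : LinearMap.BilinForm F (S × S) := LinearMap.mk₂ F (fun x z => l (x.1 * z.2 - x.2 * z.1))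
    (fun _ _ _ => by rw [← map_add]; congr 1; simp; ring)
    (fun _ _ _ => by rw [← map_smul]; congr 1; simp [smul_sub])
    (fun _ _ _ => by rw [← map_add]; congr 1; simp; ring)
    (fun _ _ _ => by rw [← map_smul]; congr 1; simp [smul_sub])
  have hB : B.SeparatingLeft := fun x hx => Prod.ext (h1 _ fun b => by simpa [B] using hx (0, b))
    (h1 _ fun b => by simpa [B] using hx (b, 0))
  let Y : End F (S × S) := (LinearMap.mulLeft F y).prodMap (LinearMap.mulLeft F y)
  let N : End F (S × S) := (LinearMap.snd F S S).prod 0 + Y ∘ₗ (LinearMap.fst F S S).prod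
    (LinearMap.fst F S S)
  have hN : ∀ x, N x = (x.2 + y * x.1, y * x.1) := fun x => by simp [N, Y]
  obtain ⟨e, he, h2⟩ := IsForm.exists_isom_of_linear (Q := fun _ => 0) hB (1 + N) (fun x z => by
    simp only [B, LinearMap.mk₂_apply, LinearMap.add_apply, hN]; congr 1; simp; ring) fun _ => rfl
  refine ⟨S × S, _, _, inferInstance, B, _, isForm_alt fun x => by simp [B, mul_comm], hB,
    ⟨e, he⟩, ?_⟩
  have h3 : finrank F (S × S) = 2 * (k + 1) := by
    simp [S, finrank_adjoinRoot hu, u, two_mul]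
  have h4 : e.toLinearMap - 1 = N := by rw [show e.toLinearMap = 1 + N from LinearMap.ext h2]; simp
  have h5 : N ^ 2 = Y * (1 + N) := LinearMap.ext fun x => by
    simp only [pow_two, End.mul_apply, LinearMap.add_apply, hN, Y]; ext <;> simp <;> ring
  have h6 : ∀ j x, (Y ^ j) x = (y ^ j * x.1, y ^ j * x.2) := fun j => by
    induction j with
    | zero => simp
    | succ j ih => intro x; rw [pow_succ', End.mul_apply, ih]; simp [Y, pow_succ', mul_assoc]
  rw [← h3]
  have h9 : Commute Y (1 + N) := LinearMap.ext fun x => by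
    simp only [End.mul_apply, LinearMap.add_apply, hN, Y]; ext <;> simp <;> ring
  refine tyE_reg (h4 ▸ IsNilpotent.of_pow (h5 ▸ h9.isNilpotent_mul_right
    ⟨k + 1, LinearMap.ext fun x => by simp [h6, h0]⟩)) ?_ (by omega)
  · have h7 := finrank_ker_mulLeft hu X
    rw [gd_of_dvd_right hu (by simp [u]), natDegree_X] at h7
    rw [h4, ← h7]
    refine LinearMap.finrank_le_finrank_of_injective (f := (LinearMap.fst F S S).restrict
      fun x hx => by simpa using congrArg Prod.snd ((hN x).symm.trans hx))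
      ((injective_iff_map_eq_zero _).mpr fun x hx => Subtype.ext ?_)
    have h8 : x.1.1 = 0 := congrArg Subtype.val hx
    exact Prod.ext h8 (by simpa [h8] using congrArg Prod.fst ((hN x).symm.trans x.2))

end Cfsg.Agent.H10
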