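import Mathlib
import Cfsg.Agent.H10.Real1

/-! Unipotent types in classical groups. -/

namespace Cfsg.Agent.H10

open Module Polynomial H11 L0

universe u

variable {F : Type u} [Field F] {σ : F →+* F} {ε κ : F} {τ : F →+ F}
  {V : Type*} [AddCommGroup V] [Module F V] [FiniteDimensional F V]

/-- In characteristic two every symplectic element fixes a quadratic form. -/
theorem exists_quad_inv [Finite F] [CharP F 2] {B : LinearMap.BilinForm F V} (hA : B.IsAlt)
    (g : End F V) (hg : ∀ x y, B (g x) (g y) = B x y) :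
    ∃ Q : V → F, IsQuad B Q ∧ ∀ x, Q (g x) = Q x := by
  classical
  let b := finBasis F V
  let C : LinearMap.BilinForm F V :=
    b.constr F fun i => b.constr F fun j => if i < j then B (b i) (b j) else 0
  obtain ⟨B', h1, h2⟩ := par_quad.exists_form C
  have hC : ∀ i j, C (b i) (b j) = if i < j then B (b i) (b j) else 0 := fun i j => by
    simp only [C, Basis.constr_basis]
  obtain rfl : B = B' := LinearMap.BilinForm.ext_basis b fun i j => by
    rcases lt_trichotomy i j with h | rfl | h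
    · simp [h1, hC, h, h.not_gt]
    · simp [h1, hC, hA.self_eq_zero]
    · simp [h1, hC, h, h.not_gt, ← hA.neg_eq (b j), CharTwo.neg_eq]
  have h3 : IsQuad B fun x => C x x := h2
  let r := (frobeniusEquiv F 2).symm
  have hr : ∀ a, r a ^ 2 = a := fun a => frobenius_apply_frobeniusEquiv_symm F 2 a
  let φ : V →ₗ[F] F := ⟨⟨fun x => r (C (g x) (g x) + C x x), fun x y => by
    rw [← map_add, map_add g, h3.add', h3.add', hg]; congr 1
    linear_combination (B x y) * CharTwo.two_eq_zero (R := F)⟩, fun c x => by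
    dsimp only
    rw [map_smul g, h3.smul', h3.smul', ← mul_add, map_mul, map_mul, ← map_mul, ← pow_two,
      show r (c ^ 2) = c from frobeniusEquiv_symm_apply_frobenius F 2 c]; rfl⟩
  obtain ⟨ψ, hψ⟩ : φ ∈ LinearMap.range (g - 1).dualMap := by
    rw [LinearMap.range_dualMap_eq_dualAnnihilator_ker, Submodule.mem_dualAnnihilator]
    intro x hx
    simp [φ, show g x = x from sub_eq_zero.mp hx, CharTwo.add_self_eq_zero]
  refine ⟨fun x => C x x + ψ x ^ 2, IsQuad.of_add_smul (fun x y => ?_) fun c x => ?_, fun x => ?_⟩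
  · rw [h3.add', map_add, CharTwo.add_sq]; ring
  · rw [h3.smul']; simp; ring
  · have h4 : ψ (g x) - ψ x = φ x := by simpa using LinearMap.congr_fun hψ x
    have h5 : φ x ^ 2 = _ := hr _
    linear_combination (ψ (g x) - ψ x + φ x) * h4 + h5 +
      (C (g x) (g x) + ψ (g x) * ψ x - ψ x ^ 2) * CharTwo.two_eq_zero (R := F)

theorem finrank_map_add_ker {W : Type*} [AddCommGroup W] [Module F W] (f : V →ₗ[F] W)
    {S : Submodule F V} (h : LinearMap.ker f ≤ S) :
    finrank F (S.map f) + finrank F (LinearMap.ker f) = finrank F S := by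
  have := (f.domRestrict S).finrank_range_add_finrank_ker
  rwa [LinearMap.range_domRestrict, LinearMap.ker_domRestrict,
    (Submodule.comapSubtypeEquivOfLe h).finrank_eq] at this

open Classical in
theorem kdE_step (T : End F V) {p : F[X]} (hp : Irreducible p) (hm : p.Monic) (k : ℕ) :
    2 * kdE T (p ^ (k + 1)) = kdE T (p ^ (k + 2)) + kdE T (p ^ k) +
      (tyE T).count (p ^ (k + 1)) * p.natDegree := by
  simp only [kdE_eq_sum]
  have : ∀ u ∈ tyE T, Prim u := fun u => prim_of_mem_tyE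
  generalize tyE T = s at this
  induction s using Multiset.induction_on with
  | empty => simp
  | cons a s ih =>
    have h1 := ih fun u hu => this u (by simp [hu])
    have h2 := (this a (by simp)).gd_step hp hm k
    simp only [Multiset.map_cons, Multiset.sum_cons, Multiset.count_cons, eq_comm (b := a)]
    split_ifs at h2 ⊢ <;> simp only [add_mul] <;> omega

section parity
variable {B : V →ₗ[F] V →ₗ[F] F} {g : End F V}

omit [FiniteDimensional F V] in
theorem pow_sub_adj (hg : ∀ x y, B (g x) (g y) = B x y) (k : ℕ) (x y : V) :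
    B (((g - 1) ^ k) x) ((g ^ k) y) = (-1) ^ k * B x (((g - 1) ^ k) y) := by
  induction k generalizing x y with
  | zero => simp
  | succ k ih =>
    have : ((g - 1) ^ k) (g y) = g (((g - 1) ^ k) y) := LinearMap.congr_fun
        (((Commute.refl g).sub_left (Commute.one_left g)).pow_left k).eq y
    rw [pow_succ, pow_succ g, End.mul_apply, End.mul_apply, End.mul_apply, ih]
    simp [hg, pow_succ, this]; ring

omit [FiniteDimensional F V] in
theorem isom_pow (hg : ∀ x y, B (g x) (g y) = B x y) (k : ℕ) (x y : V) :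
    B ((g ^ k) x) ((g ^ k) y) = B x y := by
  induction k with
  | zero => simp
  | succ k ih => simp [pow_succ', hg, ih]

omit [FiniteDimensional F V] in
theorem form_pow_right (hg : ∀ x y, B (g x) (g y) = B x y) {x : V} (hx : (g - 1) x = 0) (k : ℕ)
    (y : V) : B x ((g ^ k) y) = B x y := by
  rw [← isom_pow hg k x y, End.pow_apply g k x, Function.iterate_fixed (sub_eq_zero.mp hx)]

theorem perp_ker_pow (hB : B.SeparatingLeft) (hr : B.IsRefl) (hg : ∀ x y, B (g x) (g y) = B x y)
    (k : ℕ) : perp B (LinearMap.ker ((g - 1) ^ k)) = LinearMap.range ((g - 1) ^ k) := by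
  have h1 := finrank_add_finrank_perp (σ := RingHom.id F) (fun _ => rfl) hB
    (LinearMap.ker ((g - 1) ^ k))
  have h2 := ((g - 1) ^ k).finrank_range_add_finrank_ker
  refine (Submodule.eq_of_le_of_finrank_eq ?_ (by omega)).symm
  rintro _ ⟨y, rfl⟩
  refine mem_perp.mpr fun x hx => ?_
  simpa [LinearMap.mem_ker.mp hx] using pow_sub_adj hg k x y

open Classical in
theorem even_count (hB : B.SeparatingLeft) (hr : B.IsRefl) (hg : ∀ x y, B (g x) (g y) = B x y)
    (j : ℕ) (hA : ∀ x, ((g - 1) ^ (j + 1)) x = 0 → B (((g - 1) ^ j) x) x = 0) :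
    Even ((tyE g).count ((X - 1) ^ (j + 1))) := by
  have h1 := kdE_step g irr_X_sub_one monic_X_sub_one j
  have h0 : ∀ k, kdE g ((X - 1) ^ k) = finrank F (LinearMap.ker ((g - 1) ^ k)) := fun k => by
    rw [kdE, show aeval g ((X - 1 : F[X]) ^ k) = (g - 1) ^ k by simp]
  rw [natDegree_X_sub_one, h0, h0, h0] at h1
  have hp := perp_ker_pow hB hr hg (j + 1)
  set N := g - 1
  set K := LinearMap.ker (N ^ (j + 1))
  let R := K ⊓ (LinearMap.range (N ^ (j + 1))).comap (N ^ j)
  obtain ⟨W, h2, h3⟩ := IsModularLattice.exists_disjoint_and_sup_eq (inf_le_left : R ≤ K)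
  have hW : W ≤ K := h3 ▸ le_sup_right
  let β : LinearMap.BilinForm F K := (B.comp (N ^ j)).domRestrict₁₂ K K
  have hβ : β.IsAlt := fun x => hA _ x.2
  have h4 : Even (finrank F W) := by
    have h5 : (β.compl₁₂ (Submodule.inclusion hW) (Submodule.inclusion hW)).IsAlt := fun x => hβ _
    refine even_finrank_of_alt (h5.isRefl.nondegenerate_iff_separatingLeft.mpr fun w hw => ?_) h5
    refine Subtype.ext (Submodule.disjoint_def.mp h2 _ ⟨hW w.2, ?_⟩ w.2)
    rw [← hp]
    refine mem_perp.mpr fun x hx => hr _ _ ?_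
    obtain ⟨r, h6, w', h7, rfl⟩ := Submodule.mem_sup.mp (h3.ge hx)
    have h8 : β ⟨r, h6.1⟩ ⟨w, hW w.2⟩ = 0 := hr _ _ (mem_perp.mp (hp.ge h6.2) _ (hW w.2))
    rw [map_add, show B ((N ^ j) w) r = 0 from hβ.isRefl _ _ h8, zero_add]
    exact hw ⟨w', h7⟩
  have h5 := Submodule.finrank_sup_add_finrank_inf_eq R W
  have h6 := finrank_map_add_ker (N ^ j) (S := R) fun x hx =>
    ⟨by simp [K, pow_succ', LinearMap.mem_ker.mp hx], 0, by simp [LinearMap.mem_ker.mp hx]⟩
  have h7 := finrank_map_add_ker (N ^ (j + 1)) (S := LinearMap.ker (N ^ (j + 2))) fun x hx => by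
    simp [pow_succ' N (j + 1), LinearMap.mem_ker.mp hx]
  rw [show R.map (N ^ j) = (LinearMap.ker (N ^ (j + 2))).map (N ^ (j + 1)) from le_antisymm
    (by rintro _ ⟨x, ⟨h8, y, h9⟩, rfl⟩
        refine ⟨y, ?_, h9⟩
        rw [SetLike.mem_coe, LinearMap.mem_ker, pow_succ', End.mul_apply] at h8 ⊢
        rwa [h9])
    (by rintro _ ⟨y, h8, rfl⟩
        exact ⟨N y, ⟨by simpa [K, pow_succ] using h8, y, by simp [pow_succ]⟩, by simp [pow_succ]⟩)]
    at h6
  rw [h3, h2.eq_bot, finrank_bot] at h5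
  obtain ⟨m, hm⟩ := h4
  have : finrank F K = finrank F (LinearMap.ker (N ^ (j + 1))) := rfl
  exact ⟨m, by omega⟩

open Classical in
theorem even_count_alt (hB : B.SeparatingLeft) (hA : B.IsAlt) (hg : ∀ x y, B (g x) (g y) = B x y)
    {j : ℕ} (hj : Odd j) : Even ((tyE g).count ((X - 1) ^ j)) := by
  obtain ⟨i, rfl⟩ := hj
  refine even_count hB hA.isRefl hg _ fun x hx => ?_
  rw [← form_pow_right hg (by simpa [pow_succ'] using hx) i, two_mul, pow_add, End.mul_apply,
    pow_sub_adj hg, hA.self_eq_zero, mul_zero]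

open Classical in
theorem even_count_symm (h2 : (2 : F) ≠ 0) (hB : B.SeparatingLeft) (hS : ∀ x y, B x y = B y x)
    (hg : ∀ x y, B (g x) (g y) = B x y) {j : ℕ} (hj : Even j) (h0 : 0 < j) :
    Even ((tyE g).count ((X - 1) ^ j)) := by
  obtain ⟨i, rfl⟩ := Nat.exists_eq_add_of_lt h0
  rw [zero_add] at hj ⊢
  refine even_count hB (fun x y h => by rwa [hS]) hg _ fun x hx => ?_
  have := pow_sub_adj hg i x x
  rw [form_pow_right hg (by simpa [pow_succ'] using hx), hS x,
    (Nat.not_even_iff_odd.mp (Nat.even_add_one.mp hj)).neg_one_pow] at this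
  exact (mul_eq_zero.mp (by linear_combination this)).resolve_left h2

end parity

section jordan

theorem ty_jordanBlock {k : ℕ} (hk : 0 < k) : ty (jordanBlock k F) = {(X - 1) ^ k} := by
  have h1 : ∀ (v : Fin k → F) (i : Fin k), (Matrix.toLin' (jordanBlock k F) - 1) v i =
      ∑ j : Fin k, if (i : ℕ) = j + 1 then v j else 0 := fun v i => by
    rw [End.one_eq_id, ← Matrix.toLin'_one, ← map_sub, Matrix.toLin'_apply, Matrix.mulVec,
      dotProduct]
    refine Finset.sum_congr rfl fun j _ => ?_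
    simp only [jordanBlock, Matrix.sub_apply, Matrix.of_apply, Matrix.one_apply, Fin.ext_iff]
    split_ifs <;> simp <;> omega
  have h2 : ∀ (j : ℕ) v (i : Fin k), (i : ℕ) < j →
      ((Matrix.toLin' (jordanBlock k F) - 1) ^ j) v i = 0 := fun j => by
    induction j with
    | zero => simp
    | succ j ih =>
      intro v i hi
      rw [pow_succ', End.mul_apply, h1]
      exact Finset.sum_eq_zero fun l _ => ite_eq_right_iff.mpr fun h => ih v l (by omega)
  simpa [ty] using tyE_reg (T := Matrix.toLin' (jordanBlock k F)) 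
    ⟨k, LinearMap.ext fun v => funext fun i => h2 k v i i.2⟩
    ((LinearMap.finrank_le_finrank_of_injective (f := (LinearMap.proj (⟨k - 1, by omega⟩ : Fin k) :
      (Fin k → F) →ₗ[F] F).domRestrict _) ((injective_iff_map_eq_zero _).mpr fun x hx =>
        Subtype.ext (funext fun i => by
          by_cases h : (i : ℕ) = k - 1
          · exact (congrArg x.1 (Fin.ext h)).trans hx
          · have := (h1 x ⟨i + 1, by omega⟩).symm.trans (congrFun x.2 _)
            simpa [Fin.val_inj] using this))).trans (by simp)) (by simpa)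

theorem ty_jordanTypeMatrix {t : ℕ} {d : Fin t → ℕ} (hd : ∀ k, 1 ≤ d k) :
    ty (jordanTypeMatrix d F) = Finset.univ.val.map fun k => (X - 1) ^ d k := by
  choose e he using fun k => isMdl_of_ty (g := fun _ : Unit => (X - 1 : F[X]) ^ d k)
    (ty_jordanBlock (hd k))
  refine IsMdl.tyE_eq ⟨(LinearEquiv.piCurry F fun _ _ => F).trans (LinearEquiv.piCongrRight
    fun k => (e k).trans (LinearEquiv.funUnique Unit F _)), fun v k => ?_⟩
    fun k => prim_X_sub_one_pow (hd k)
  refine Eq.trans (congrArg (fun x => e k x ()) (funext fun i => ?_)) (he k _ ())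
  simp [jordanTypeMatrix, Matrix.mulVec, dotProduct, Fintype.sum_sigma, Sigma.curry,
    Matrix.blockDiagonal'_apply]

theorem ty_reindex {m n : Type*} [Fintype m] [DecidableEq m] [Fintype n] [DecidableEq n]
    (e : m ≃ n) (A : Matrix m m F) : ty (Matrix.reindex e e A) = ty A :=
  tyE_congr (LinearEquiv.funCongrLeft F F e) fun v => by
    ext i; simp [Matrix.submatrix_mulVec_equiv, Function.comp_def]

theorem isConj_iff_ty' {n : Type*} [Fintype n] [DecidableEq n] {A A' : Matrix n n F} :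
    IsConj A A' ↔ ty A = ty A' := by
  rw [ty_eq_iff]
  exact ⟨fun ⟨P, h⟩ => ⟨P, by rw [h.eq]; simp⟩, fun ⟨P, h⟩ => ⟨P, by rw [SemiconjBy, ← h]; simp⟩⟩

open Classical in
theorem count_jordan {t : ℕ} (d : Fin t → ℕ) (j : ℕ) :
    (Finset.univ.val.map fun k => (X - 1 : F[X]) ^ d k).count ((X - 1) ^ j) =
      (Finset.univ.filter fun k => d k = j).card := by
  rw [Multiset.count_map]
  exact congrArg Multiset.card (Multiset.filter_congr fun k _ => ⟨fun h => by
    simpa [natDegree_X_sub_one, eq_comm] using congrArg natDegree h, fun h => by rw [h]⟩)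

end jordan

section transfer
variable {s : Multiset F[X]}

theorem Real.alt (h : Real (RingHom.id F) (-1) 0 0 s) {B : LinearMap.BilinForm F V}
    (hA : B.IsAlt) (hB : B.SeparatingLeft) (hn : (s.map natDegree).sum = finrank F V) :
    RealIn (σ := RingHom.id F) B (fun _ => 0) s := by
  obtain ⟨W, _, _, _, B', Q', h1, h2, h3⟩ := h
  have hA' : B'.IsAlt := fun x => by simpa using h1.diag x
  obtain ⟨e, he⟩ := alt_isometric (hA'.isRefl.nondegenerate_iff_separatingLeft.mpr h2) hA'
    (hA.isRefl.nondegenerate_iff_separatingLeft.mpr hB) hA (h3.finrank_eq.trans hn)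
  exact h3.sim e (a := 1) (by simpa) fun x => by obtain ⟨t, ht⟩ := h1.tv x; simp [ht]

theorem RealD.herm [Finite F] {c : F} (h : RealD σ 1 1 (trHom σ) s c) {B : V →ₛₗ[σ] V →ₗ[F] F}
    (hH : IsHerm B) (hB : B.SeparatingLeft) (hn : (s.map natDegree).sum = finrank F V) :
    RealInD B (fun x => B x x) s c := by
  obtain ⟨W, _, _, _, B', Q', h1, h2, h3⟩ := h
  obtain rfl : Q' = fun x => B' x x := funext fun x => by simp [h1.diag]
  obtain ⟨b, hb⟩ := exists_orthonormal_basis hH.ne h1 h2 (h3.realIn.finrank_eq.trans hn)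
  obtain ⟨b', hb'⟩ := exists_orthonormal_basis hH.ne hH.form hB rfl
  obtain ⟨e, e1, e2, -⟩ := h1.exists_equiv_of_basis hH.form b b' (by simp [hb, hb'])
    (by simp [hb, hb'])
  exact h3.sim e (a := 1) (by simpa) (by simpa)

theorem Real.herm [Finite F] (h : Real σ 1 1 (trHom σ) s) {B : V →ₛₗ[σ] V →ₗ[F] F}
    (hH : IsHerm B) (hB : B.SeparatingLeft) (hn : (s.map natDegree).sum = finrank F V) :
    RealIn B (fun x => B x x) s := (h.realD.herm hH hB hn).realIn

theorem isConj_herm [Finite F] {B : V →ₛₗ[σ] V →ₗ[F] F} (hH : IsHerm B) (hB : B.SeparatingLeft)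
    {g g' : UIsom B} (h : tyE g.1.toLinearMap = tyE g'.1.toLinearMap) : IsConj g g' := by
  obtain ⟨e, he⟩ := (tyE_eq_iff _ _).mp h
  exact isConj_of_unitary hH.form hB hH.ne (fun _ _ h => h) g g' he

theorem RealD.exists_comm [Finite F] {c : F} {B : V →ₛₗ[σ] V →ₗ[F] F} (hH : IsHerm B)
    (hB : B.SeparatingLeft) (g : UIsom B) (h : RealD σ 1 1 (trHom σ) (tyE g.1.toLinearMap) c) :
    ∃ k : UIsom B, Commute g k ∧ (detI B _ k : F) = c := by
  obtain ⟨g', k, h1, h2, h3⟩ := h.herm hH hB (finrank_eq_sum_tyE _).symm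
  obtain ⟨x, rfl⟩ := isConj_iff.mp (isConj_herm hH hB h1)
  exact ⟨x * k * x⁻¹, h2.map (MulAut.conj x), by
    rw [map_mul, map_mul, map_inv, mul_inv_cancel_comm, detI_coe, h3]⟩

theorem Real.exists_realIn (h : Real σ ε κ τ s) (hn : (s.map natDegree).sum = finrank F V) :
    ∃ (B : V →ₛₗ[σ] V →ₗ[F] F) (Q : V → F), IsForm ε κ τ B Q ∧ B.SeparatingLeft ∧ RealIn B Q s := by
  obtain ⟨W, _, _, _, B', Q', h1, h2, h3⟩ := h
  let e := LinearEquiv.ofFinrankEq W V (h3.finrank_eq.trans hn)
  exact ⟨_, _, h1.comp e.symm.toLinearMap, separatingLeft_pull_equiv h2 e.symm,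
    h3.sim e (a := 1) (by simp) (by simp)⟩

theorem Real.quad_of_alt [Finite F] [CharP F 2] (h : Real (RingHom.id F) (-1) 0 0 s) :
    Real (RingHom.id F) 1 2 (AddMonoidHom.id F) s := by
  obtain ⟨W, _, _, _, B', Q', h1, h2, g, h3⟩ := h
  obtain ⟨Q, h4, h5⟩ := exists_quad_inv (B := B') (fun x => by simpa using h1.diag x)
    g.1.toLinearMap g.2.1
  exact ⟨W, _, _, _, B', Q, h4, h2, ⟨g.1, g.2.1, h5⟩, h3⟩

open Classical in
theorem real_alt_unip (hs : ∀ u ∈ s, ∃ j, 0 < j ∧ u = (X - 1) ^ j)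
    (h : ∀ j, Odd j → Even (s.count ((X - 1) ^ j))) : Real (RingHom.id F) (-1) 0 0 s :=
  par_alt.real_of_count fun u hu => by
    obtain ⟨j, h1, rfl⟩ := hs u hu
    rcases j.even_or_odd with ⟨k, rfl⟩ | h2
    · obtain ⟨k, rfl⟩ := Nat.exists_eq_add_of_lt (show 0 < k by omega)
      exact .inl (by simpa [two_mul] using real_alt_even k)
    · exact .inr ⟨h j h2, par_alt.real_unip_two h1⟩

open Classical in
theorem real_quad_unip (h2 : (2 : F) ≠ 0) (hs : ∀ u ∈ s, ∃ j, 0 < j ∧ u = (X - 1) ^ j)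
    (h : ∀ j, Even j → 0 < j → Even (s.count ((X - 1) ^ j))) :
    Real (RingHom.id F) 1 2 (AddMonoidHom.id F) s :=
  par_quad.real_of_count fun u hu => by
    obtain ⟨j, h1, rfl⟩ := hs u hu
    rcases j.even_or_odd with h3 | ⟨k, rfl⟩
    · exact .inr ⟨h j h3 h1, par_quad.real_unip_two h1⟩
    · exact .inl (par_quad.real_unip _ (a := 1) (by simpa [one_add_one_eq_two]))

theorem realD_herm_unip (hσ : σ ≠ RingHom.id F) (hσ2 : ∀ a, σ (σ a) = a) {j : ℕ} (hj : 0 < j)
    {c : F} (hc : σ c * c = 1) : RealD σ 1 1 (trHom σ) {(X - 1) ^ j} (c ^ j) := by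
  obtain ⟨k, rfl⟩ := Nat.exists_eq_succ_of_ne_zero hj.ne'
  obtain ⟨a, ha⟩ : ∃ a, a + 1 * σ ((-1) ^ k * a) ≠ 0 := by
    by_contra hc
    push Not at hc
    refine hσ (RingHom.ext fun a => ?_)
    have h3 := hc a
    have h4 := hc 1
    simp only [map_mul, map_one, one_mul, mul_one] at h3 h4
    show σ a = a
    linear_combination σ a * h4 - h3
  exact (par_herm hσ2).realD_unip k ha hc

theorem real_herm_unip (hσ : σ ≠ RingHom.id F) (hσ2 : ∀ a, σ (σ a) = a)
    (hs : ∀ u ∈ s, ∃ j, 0 < j ∧ u = (X - 1) ^ j) : Real σ 1 1 (trHom σ) s :=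
  (par_herm hσ2).real_of_count fun u hu => by
    obtain ⟨j, h1, rfl⟩ := hs u hu
    exact .inl (realD_herm_unip hσ hσ2 h1 (c := 1) (by simp)).real

end transfer

end Cfsg.Agent.H10
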