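import Mathlib
import Cfsg.Agent.H10.Conj2

/-! Wall forms of isometries; symmetric bilinear forms in characteristic two. -/

namespace Cfsg.Agent.H10

open Module H11

section wall

variable {F : Type*} [Field F] {V : Type*} [AddCommGroup V] [Module F V] {σ : F →+* F}
  {ε κ : F} {τ : F →+ F} {B : V →ₛₗ[σ] V →ₗ[F] F} {Q : V → F}
  {W : Type*} [AddCommGroup W] [Module F W] {W' : Type*} [AddCommGroup W'] [Module F W']

/-- `χ` is the Wall form of `g`, carried by `W ≅ [V, g]`. -/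
structure WallD (B : V →ₛₗ[σ] V →ₗ[F] F) (g : V ≃ₗ[F] V) (ι : W →ₗ[F] V) (π : V →ₗ[F] W)
    (χ : W →ₛₗ[σ] W →ₗ[F] F) : Prop where
  inj : Function.Injective ι
  surj : Function.Surjective π
  eq : ∀ v, ι (π v) = g v - v
  form : ∀ x w, χ (π x) w = B x (ι w)

variable {g g' : V ≃ₗ[F] V} {ι : W →ₗ[F] V} {π : V →ₗ[F] W} {χ : W →ₛₗ[σ] W →ₗ[F] F}
  {ι' : W' →ₗ[F] V} {π' : V →ₗ[F] W'} {χ' : W' →ₛₗ[σ] W' →ₗ[F] F}

theorem WallD.range_eq (H : WallD B g ι π χ) : LinearMap.range ι = movS g := by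
  ext v
  rw [mem_movS]
  exact ⟨fun ⟨w, hw⟩ => by obtain ⟨x, rfl⟩ := H.surj w; exact ⟨x, by rw [← H.eq, hw]⟩,
    fun ⟨x, hx⟩ => ⟨π x, by rw [H.eq, hx]⟩⟩

theorem WallD.finrank_eq (H : WallD B g ι π χ) : finrank F W = finrank F (movS g) := by
  rw [← H.range_eq, LinearMap.finrank_range_of_inj H.inj]

theorem WallD.gram (H : WallD B g ι π χ) (h : IsForm ε κ τ B Q) (hg : g ∈ Isom B Q) (a b : W) :
    B (ι a) (ι b) = -χ a b - ε * σ (χ b a) := by
  obtain ⟨x, rfl⟩ := H.surj a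
  obtain ⟨y, rfl⟩ := H.surj b
  rw [H.form, H.form, H.eq, H.eq, ← h.symm]
  simp only [map_sub, LinearMap.sub_apply, hg.1]
  ring

theorem WallD.quad (H : WallD B g ι π χ) (h : IsForm ε κ τ B Q) (hg : g ∈ Isom B Q) (a : W) :
    Q (ι a) = -τ (χ a a) := by
  obtain ⟨x, rfl⟩ := H.surj a
  have h1 := h.add x (ι (π x))
  rw [← H.form, H.eq, add_sub_cancel, hg.2] at h1
  rw [H.eq]
  linear_combination -h1

variable [FiniteDimensional F V]

theorem exists_wallD (h : IsForm ε κ τ B Q) (hB : B.SeparatingLeft) (hg : g ∈ Isom B Q) :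
    ∃ π χ, WallD B g (movS g).subtype π χ := by
  let π : V →ₗ[F] movS g := (g.toLinearMap - LinearMap.id).codRestrict _ fun v =>
    mem_movS.mpr ⟨v, rfl⟩
  have hπ : Function.Surjective π := fun w => by
    obtain ⟨x, hx⟩ := mem_movS.mp w.2
    exact ⟨x, Subtype.ext hx⟩
  obtain ⟨ρ, hρ⟩ := π.exists_rightInverse_of_surjective (LinearMap.range_eq_top.mpr hπ)
  refine ⟨π, (B.comp ρ).compl₂ (movS g).subtype, Subtype.val_injective, hπ, fun _ => rfl,
    fun x w => ?_⟩
  have h1 : π (ρ (π x) - x) = 0 := by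
    rw [map_sub, show π (ρ (π x)) = π x from LinearMap.congr_fun hρ _, sub_self]
  have := (orth_movS_fixS h hB hg w.2 (mem_fixS.mpr (sub_eq_zero.mp (congrArg Subtype.val h1)))).2
  rw [map_sub, LinearMap.sub_apply, sub_eq_zero] at this
  exact this

theorem WallD.sep (H : WallD B g ι π χ) (h : IsForm ε κ τ B Q) (hB : B.SeparatingLeft)
    (hg : g ∈ Isom B Q) : χ.SeparatingLeft := fun a ha => by
  obtain ⟨x, rfl⟩ := H.surj a
  have : x ∈ fixS g := by
    rw [← h.perp_movS hB hg, h.mem_perp', ← H.range_eq]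
    rintro _ ⟨w, rfl⟩
    rw [← H.form, ha]
  exact H.inj (by rw [H.eq, mem_fixS.mp this, sub_self, map_zero])

theorem WallD.comm_of (H : WallD B g ι π χ) (H' : WallD B g' ι' π' χ') (h : IsForm ε κ τ B Q)
    (hB : B.SeparatingLeft) (hg' : g' ∈ Isom B Q) (e : W ≃ₗ[F] W')
    (he : ∀ a b, χ' (e a) (e b) = χ a b) {k : V ≃ₗ[F] V} (hk : k ∈ Isom B Q)
    (hke : ∀ w, k (ι w) = ι' (e w)) (v : V) : k (g v) = g' (k v) := by
  have h1 : π' (k v) = e (π v) := sub_eq_zero.mp (H'.sep h hB hg' _ fun b => by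
    obtain ⟨b, rfl⟩ := e.surjective b
    rw [map_sub, LinearMap.sub_apply, he, H'.form, H.form, ← hke, hk.1, sub_self])
  have h2 := hke (π v)
  rw [← h1, H.eq, H'.eq, map_sub] at h2
  exact sub_left_injective h2

theorem WallD.exists_conj (H : WallD B g ι π χ) (H' : WallD B g' ι' π' χ') (h : IsForm ε κ τ B Q)
    (hB : B.SeparatingLeft) (hg : g ∈ Isom B Q) (hg' : g' ∈ Isom B Q) (e : W ≃ₗ[F] W')
    (he : ∀ a b, χ' (e a) (e b) = χ a b) :
    ∃ k ∈ Isom B Q, (∀ w, k (ι w) = ι' (e w)) ∧ ∀ v, k (g v) = g' (k v) := by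
  obtain ⟨k, hk, hke⟩ := h.witt_maps hB ι (ι'.comp e.toLinearMap) H.inj (H'.inj.comp e.injective)
    (fun a b => by simp [H.gram h hg, H'.gram h hg', he])
    (fun a => by simp [H.quad h hg, H'.quad h hg', he])
  exact ⟨k, hk, hke, H.comm_of H' h hB hg' e he hk hke⟩

omit [FiniteDimensional F V] in
theorem WallD.exists_equiv (H : WallD B g ι π χ) (H' : WallD B g' ι' π' χ') {k : V ≃ₗ[F] V}
    (hk : k ∈ Isom B Q) (hkg : ∀ v, k (g v) = g' (k v)) :
    ∃ e : W ≃ₗ[F] W', (∀ w, k (ι w) = ι' (e w)) ∧ ∀ a b, χ' (e a) (e b) = χ a b := by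
  have h1 : (LinearMap.range ι).map k.toLinearMap = LinearMap.range ι' := by
    rw [H.range_eq, H'.range_eq]
    refine le_antisymm ?_ fun w hw => ?_
    · rintro _ ⟨w, hw, rfl⟩
      obtain ⟨x, rfl⟩ := mem_movS.mp hw
      exact mem_movS.mpr ⟨k x, by simp [hkg]⟩
    · obtain ⟨x, rfl⟩ := mem_movS.mp hw
      exact ⟨_, mem_movS.mpr ⟨k.symm x, rfl⟩, by simp [hkg]⟩
  let e : W ≃ₗ[F] W' := (LinearEquiv.ofInjective ι H.inj).trans
    ((k.ofSubmodules _ _ h1).trans (LinearEquiv.ofInjective ι' H'.inj).symm)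
  have he : ∀ w, k (ι w) = ι' (e w) := fun w => by simp [e]
  refine ⟨e, he, fun a b => ?_⟩
  obtain ⟨x, rfl⟩ := H.surj a
  have : e (π x) = π' (k x) := H'.inj (by rw [← he, H.eq, H'.eq, map_sub, hkg])
  rw [this, H'.form, ← he, hk.1, H.form]

/-- The order of the centraliser of an isometry. -/
theorem WallD.card_centralizer (h : IsForm ε κ τ B Q) (hB : B.SeparatingLeft) {g : Isom B Q}
    (H : WallD B g.1 ι π χ) : Nat.card (Subgroup.centralizer ({g} : Set (Isom B Q))) =
      Nat.card (Isom χ fun _ => 0) * Nat.card (fixSub B Q (movS g.1)) := by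
  have hc : ∀ k : Isom B Q, k ∈ Subgroup.centralizer ({g} : Set (Isom B Q)) ↔
      ∀ v, k.1 (g.1 v) = g.1 (k.1 v) := fun k => by
    rw [Subgroup.mem_centralizer_singleton_iff, Subtype.ext_iff, LinearEquiv.ext_iff]; rfl
  have hle : fixSub B Q (movS g.1) ≤ Subgroup.centralizer {g} := fun k hk => (hc k).mpr
    (H.comm_of H h hB g.2 (LinearEquiv.refl _ _) (fun _ _ => rfl) k.2 fun w =>
      hk _ (H.range_eq ▸ ⟨w, rfl⟩))
  choose e e1 e2 using fun k : Subgroup.centralizer ({g} : Set (Isom B Q)) =>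
    H.exists_equiv H k.1.2 ((hc _).mp k.2)
  rw [← Nat.card_congr (Subgroup.subgroupOfEquivOfLe hle).toEquiv]
  refine card_eq_mul_of_fibers _ (fun k => (⟨e k, e2 k, fun _ => rfl⟩ : Isom χ fun _ => 0))
    (fun a b => ?_) fun y => ?_
  · rw [Subgroup.mem_subgroupOf, mem_fixSub, ← H.range_eq, Subtype.ext_iff, LinearEquiv.ext_iff]
    refine ⟨?_, fun h1 w => H.inj ?_⟩
    · rintro h1 _ ⟨w, rfl⟩
      exact a.1.1.symm_apply_eq.mpr (by rw [e1 a, show e a w = e b w from h1 w]; exact e1 b w)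
    · rw [← e1, ← e1]
      exact (a.1.1.symm_apply_eq.mp (h1 _ ⟨w, rfl⟩)).symm
  · obtain ⟨k, hk, h1, h2⟩ := H.exists_conj H h hB g.2 g.2 y.1 y.2.1
    exact ⟨⟨⟨k, hk⟩, (hc _).mpr h2⟩, Subtype.ext (LinearEquiv.ext fun w => H.inj (by
      rw [← e1]; exact h1 w))⟩

/-- Every suitable form is a Wall form. -/
theorem exists_isom_wallD [FiniteDimensional F W] (h : IsForm ε κ τ B Q) (hB : B.SeparatingLeft)
    (hι : Function.Injective ι) (hχ : χ.SeparatingLeft)
    (h1 : ∀ a b, B (ι a) (ι b) = -χ a b - ε * σ (χ b a)) (h2 : ∀ a, Q (ι a) = -τ (χ a a)) :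
    ∃ (g : Isom B Q) (π : V →ₗ[F] W), WallD B g.1 ι π χ := by
  choose p hp using fun x : V => exists_form_eq h.invol hχ ((B x).comp ι)
  have hp' : ∀ x w, χ (p x) w = B x (ι w) := fun x w => LinearMap.congr_fun (hp x) w
  have ext : ∀ a b : W, (∀ w, χ a w = χ b w) → a = b := fun a b H =>
    sub_eq_zero.mp (hχ _ fun w => by rw [map_sub, LinearMap.sub_apply, H, sub_self])
  let π : V →ₗ[F] W := ⟨⟨p, fun x y => ext _ _ fun w => by simp [hp']⟩,
    fun c x => ext _ _ fun w => by simp [hp']⟩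
  have hπ : ∀ x w, χ (π x) w = B x (ι w) := hp'
  obtain ⟨g, hg, hg'⟩ := IsForm.exists_isom_of_linear (Q := Q) hB (LinearMap.id + ι.comp π)
    (fun x y => by
      simp only [LinearMap.add_apply, LinearMap.id_apply, LinearMap.comp_apply, map_add, h1, hπ]
      rw [h.symm y (ι (π x))]; ring)
    (fun x => by
      simp only [LinearMap.add_apply, LinearMap.id_apply, LinearMap.comp_apply, h.add, h2, hπ]
      ring)
  refine ⟨⟨g, hg⟩, π, hι, fun a => ?_, fun v => by simp [hg'], hπ⟩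
  obtain ⟨l, hl⟩ := ι.exists_leftInverse_of_injective (LinearMap.ker_eq_bot.mpr hι)
  obtain ⟨x, hx⟩ := exists_form_eq h.invol hB ((χ a).comp l)
  exact ⟨x, ext _ _ fun w => by
    rw [hπ, hx, LinearMap.comp_apply, show l (ι w) = w from LinearMap.congr_fun hl w]⟩

end wall

section symm

variable {F : Type*} [Field F] [CharP F 2]
  {W : Type*} [AddCommGroup W] [Module F W] {W' : Type*} [AddCommGroup W'] [Module F W']
  {χ : LinearMap.BilinForm F W} {χ' : LinearMap.BilinForm F W'} {w : W} {w' : W'}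

/-- A non-degenerate symmetric form with characteristic vector `w`. -/
structure ChV (χ : LinearMap.BilinForm F W) (w : W) : Prop where
  sep : χ.SeparatingLeft
  symm : ∀ a b, χ a b = χ b a
  sq : ∀ x, χ x x = χ w x * χ w x

theorem exists_chV [Finite F] [FiniteDimensional F W] (hχ : χ.SeparatingLeft)
    (hs : ∀ a b, χ a b = χ b a) : ∃ w, ChV χ w := by
  let fr := frobeniusEquiv F 2
  have hfr : ∀ a, fr a = a ^ 2 := fun _ => rfl
  let l : W →ₗ[F] F :=
    { toFun := fun v => fr.symm (χ v v)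
      map_add' := fun u v => by
        rw [← map_add]; congr 1
        simp only [map_add, LinearMap.add_apply, hs v u]
        linear_combination χ u v * CharTwo.two_eq_zero (R := F)
      map_smul' := fun c v => fr.injective (by
        simp only [map_smul, LinearMap.smul_apply, RingEquiv.apply_symm_apply, smul_eq_mul,
          RingHom.id_apply, map_mul, hfr c]
        ring) }
  obtain ⟨w, hw⟩ := exists_form_eq (σ := RingHom.id F) (fun _ => rfl) hχ l
  exact ⟨w, hχ, hs, fun x => by rw [hw, ← pow_two, ← hfr]; exact (fr.apply_symm_apply _).symm⟩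

namespace ChV

omit [CharP F 2] in
theorem isAlt_iff (H : ChV χ w) : χ.IsAlt ↔ w = 0 :=
  ⟨fun h => H.sep w fun x => mul_self_eq_zero.mp ((H.sq x).symm.trans (h x)),
    fun h x => by simp [H.sq x, h]⟩

theorem map_eq (H : ChV χ w) (H' : ChV χ' w') (e : W ≃ₗ[F] W')
    (he : ∀ a b, χ' (e a) (e b) = χ a b) : e w = w' :=
  sub_eq_zero.mp (H'.sep _ fun y => by
    obtain ⟨x, rfl⟩ := e.surjective y
    have h1 := H'.sq (e x)
    rw [he, H.sq] at h1
    rw [map_sub, LinearMap.sub_apply, he]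
    exact pow_eq_zero_iff two_ne_zero |>.mp (by
      linear_combination h1 - (χ w x * χ' w' (e x) - χ' w' (e x) ^ 2) * CharTwo.two_eq_zero (R := F)))

omit [CharP F 2] in
theorem diag (H : ChV χ w) : χ w w = 0 ∨ χ w w = 1 := by
  have := H.sq w
  by_cases h : χ w w = 0
  · exact Or.inl h
  · exact Or.inr (mul_left_cancel₀ h (this.symm.trans (mul_one _).symm))

/-- The alternating form attached to a characteristic vector. -/
def alt (χ : LinearMap.BilinForm F W) (w : W) : LinearMap.BilinForm F W :=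
  χ - (LinearMap.mul F F).compl₁₂ (χ w) (χ w)

omit [CharP F 2] in
theorem alt_apply (x y : W) : alt χ w x y = χ x y - χ w x * χ w y := rfl

omit [CharP F 2] in
theorem alt_isAlt (H : ChV χ w) : (alt χ w).IsAlt := fun x => by rw [alt_apply, H.sq, sub_self]

omit [CharP F 2] in
theorem alt_left (h0 : χ w w = 0) (y : W) : alt χ w w y = χ w y := by simp [alt_apply, h0]

omit [CharP F 2] in
theorem alt_nondeg (H : ChV χ w) (h0 : χ w w = 0) : (alt χ w).Nondegenerate :=
  H.alt_isAlt.isRefl.nondegenerate_iff_separatingLeft.mpr fun x hx => by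
    have h1 : x = χ w x • w := sub_eq_zero.mp (H.sep _ fun y => by simpa [alt_apply] using hx y)
    have h2 : χ w x = 0 := by rw [h1]; simp [h0]
    rw [h1, h2, zero_smul]

omit [CharP F 2] in
theorem ker_isAlt (H : ChV χ w) :
    LinearMap.BilinForm.IsAlt (pull χ (LinearMap.ker (χ w)).subtype) := fun x => by
  have : χ w x = 0 := x.2
  simp [H.sq, this]

omit [CharP F 2] in
theorem ker_nondeg (H : ChV χ w) (h1 : χ w w = 1) :
    LinearMap.BilinForm.Nondegenerate (pull χ (LinearMap.ker (χ w)).subtype) :=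
  H.ker_isAlt.isRefl.nondegenerate_iff_separatingLeft.mpr fun x hx => Subtype.ext (H.sep _ fun y => by
    have h2 : χ w x = 0 := x.2
    simpa [H.symm x w, h2] using hx ⟨y - χ w y • w, by simp [h1]⟩)

omit [CharP F 2] in
theorem finrank_ker [FiniteDimensional F W] (h : ∃ x, χ w x ≠ 0) :
    finrank F (LinearMap.ker (χ w)) + 1 = finrank F W :=
  Module.Dual.finrank_ker_add_one_of_ne_zero fun h0 => by simp [h0] at h

omit [CharP F 2] in
theorem exists_ext [FiniteDimensional F W] [FiniteDimensional F W'] (H : ChV χ w) (H' : ChV χ' w')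
    (h1 : χ w w = 1) (h1' : χ' w' w' = 1) (e₀ : LinearMap.ker (χ w) ≃ₗ[F] LinearMap.ker (χ' w'))
    (he : ∀ a b, χ' (e₀ a) (e₀ b) = χ a b) : ∃ e : W ≃ₗ[F] W', (∀ a b, χ' (e a) (e b) = χ a b) ∧
      ∀ a : LinearMap.ker (χ w), e a = e₀ a := by
  let p : W →ₗ[F] LinearMap.ker (χ w) := (LinearMap.id - (χ w).smulRight w).codRestrict _
    fun x => by simp [h1]
  have hp : ∀ x, (p x : W) = x - χ w x • w := fun _ => rfl
  let f : W →ₗ[F] W' := (Submodule.subtype _).comp (e₀.toLinearMap.comp p) + (χ w).smulRight w'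
  have hf : ∀ x, f x = e₀ (p x) + χ w x • w' := fun _ => rfl
  have h2 : ∀ a, χ' w' (e₀ a) = 0 := fun a => (e₀ a).2
  have h3 : ∀ a b, χ' (f a) (f b) = χ a b := fun a b => by
    simp only [hf, map_add, map_smul, LinearMap.add_apply, LinearMap.smul_apply, he, hp, h2,
      H'.symm _ w', h1', map_sub, LinearMap.sub_apply, h1, H.symm a w, smul_eq_mul]
    ring
  have hi : Function.Injective f := (injective_iff_map_eq_zero _).mpr fun a ha =>
    H.sep a fun b => by rw [← h3, ha]; simp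
  have hd : finrank F W = finrank F W' := by
    rw [← finrank_ker (χ := χ) (w := w) ⟨w, by simp [h1]⟩, ← finrank_ker (χ := χ') (w := w') ⟨w', by simp [h1']⟩,
      e₀.finrank_eq]
  refine ⟨f.linearEquivOfInjective hi hd, h3, fun a => ?_⟩
  have h4 : χ w a = 0 := a.2
  show f a = _
  rw [hf, h4, zero_smul, add_zero, show p a = a from Subtype.ext (by simp [hp, h4])]

omit [CharP F 2] in
theorem even_iff [FiniteDimensional F W] (H : ChV χ w) : Even (finrank F W) ↔ χ w w = 0 := by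
  refine ⟨fun h => H.diag.resolve_right fun h1 => ?_,
    fun h => even_finrank_of_alt (H.alt_nondeg h) H.alt_isAlt⟩
  rw [← finrank_ker (χ := χ) (w := w) ⟨w, by simp [h1]⟩, Nat.even_add_one] at h
  exact h (even_finrank_of_alt (H.ker_nondeg h1) H.ker_isAlt)

omit [CharP F 2] in
/-- Classification of symmetric forms in characteristic two. -/
theorem exists_equiv [FiniteDimensional F W] [FiniteDimensional F W'] (H : ChV χ w)
    (H' : ChV χ' w') (hd : finrank F W = finrank F W') (h : w = 0 ↔ w' = 0) :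
    ∃ e : W ≃ₗ[F] W', ∀ a b, χ' (e a) (e b) = χ a b := by
  have h3 : χ w w = 0 ↔ χ' w' w' = 0 := by rw [← H.even_iff, ← H'.even_iff, hd]
  rcases H.diag with h0 | h1
  · have h0' := h3.mp h0
    obtain ⟨e, he, hw⟩ : ∃ e : W ≃ₗ[F] W', (∀ a b, alt χ' w' (e a) (e b) = alt χ w a b) ∧
        e w = w' := by
      by_cases hw : w = 0
      · obtain ⟨e, he⟩ := alt_isometric (H.alt_nondeg h0) H.alt_isAlt (H'.alt_nondeg h0')
          H'.alt_isAlt hd
        exact ⟨e, he, by rw [hw, h.mp hw, map_zero]⟩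
      · obtain ⟨e, he, hw⟩ := witt_alt_family (H.alt_nondeg h0) H.alt_isAlt (H'.alt_nondeg h0')
          H'.alt_isAlt hd (fun _ : Unit => w) (fun _ => w') (linearIndependent_unique_iff.mpr hw)
          (linearIndependent_unique_iff.mpr (h.not.mp hw))
          fun _ _ => (H'.alt_isAlt _).trans (H.alt_isAlt _).symm
        exact ⟨e, he, hw ()⟩
    have h4 : ∀ a, χ' w' (e a) = χ w a := fun a => by rw [← alt_left h0', ← alt_left h0, ← he, hw]
    exact ⟨e, fun a b => by have := he a b; rw [alt_apply, alt_apply, h4, h4] at this; simpa using this⟩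
  · have h1' := H'.diag.resolve_left (h3.not.mp (by simp [h1]))
    obtain ⟨e₀, he⟩ := alt_isometric (H.ker_nondeg h1) H.ker_isAlt (H'.ker_nondeg h1') H'.ker_isAlt
      (Nat.succ_injective ((finrank_ker (χ := χ) (w := w) ⟨w, by simp [h1]⟩).trans
        (hd.trans (finrank_ker (χ := χ') (w := w') ⟨w', by simp [h1']⟩).symm)))
    obtain ⟨e, he, -⟩ := H.exists_ext H' h1 h1' e₀ he
    exact ⟨e, he⟩

end ChV

/-- The order of `Sp_{2k}(q)`. -/
def spO (q k : ℕ) : ℕ := q ^ (k ^ 2) * ∏ i : Fin k, (q ^ (2 * ((i : ℕ) + 1)) - 1)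

omit [CharP F 2] in
theorem card_isom_spO [Finite F] [FiniteDimensional F W] (hχ : χ.SeparatingLeft) (hA : χ.IsAlt)
    {k : ℕ} (h : finrank F W = 2 * k) :
    Nat.card (Isom (σ := RingHom.id F) χ fun _ => 0) = spO (Nat.card F) k := by
  have := Fintype.ofFinite F
  rw [← isomGroup_eq, card_isom_alt (hA.isRefl.nondegenerate_iff_separatingLeft.mpr hχ) hA h,
    Nat.card_eq_fintype_card, spO, Fin.prod_univ_eq_prod_range fun i => _ ^ (2 * (i + 1)) - 1]

omit [CharP F 2] in
theorem card_fixSub_alt [Finite F] [FiniteDimensional F W] (hχ : χ.SeparatingLeft) (hA : χ.IsAlt)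
    {m s : ℕ} (h : finrank F W = 2 * m) {U : Submodule F W} (hU : ∀ x ∈ U, ∀ y ∈ U, χ x y = 0)
    (hs : finrank F U = s) : Nat.card (fixSub (σ := RingHom.id F) χ (fun _ => 0) U) =
      Nat.card F ^ (s + (s * (2 * m - 2 * s) + s * (s - 1) / 2)) * spO (Nat.card F) (m - s) := by
  have h1 := isForm_alt hA
  obtain ⟨e, f, hs', rfl⟩ := h1.exists_hypSys_of_totSing hχ ⟨fun _ _ => rfl, hU⟩ hs
  have hs := hs'
  have h2 := hs.finrank_perp h1 hχ
  rw [h1.card_fixSub_hypSys hχ hs, card_isom_spO (k := m - s)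
    (nondegOn_iff.mp (h1.nondegOn_perp hχ (hs.nondegOn h1))) (fun x => hA x)
    (by simp at h2; omega), h]
  simp [pow_add]

theorem ChV.card_isom_odd [Finite F] [FiniteDimensional F W] (H : ChV χ w) {k : ℕ}
    (h : finrank F W = 2 * k + 1) :
    Nat.card (Isom (σ := RingHom.id F) χ fun _ => 0) = spO (Nat.card F) k := by
  have h1 : χ w w = 1 := H.diag.resolve_left (H.even_iff.not.mp (by simp [h]))
  rw [← card_isom_spO (H.ker_nondeg h1).1 H.ker_isAlt (k := k) (Nat.succ_injective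
    ((ChV.finrank_ker (χ := χ) (w := w) ⟨w, by simp [h1]⟩).trans h))]
  choose e e1 e2 using fun g : Isom (σ := RingHom.id F) (pull χ (LinearMap.ker (χ w)).subtype)
    fun _ => 0 => H.exists_ext H h1 h1 g.1 g.2.1
  refine (Nat.card_eq_of_bijective (fun g => (⟨e g, e1 g, fun _ => rfl⟩ :
    Isom (σ := RingHom.id F) χ fun _ => 0)) ⟨fun a b hab => ?_, fun k => ?_⟩).symm
  · exact Subtype.ext (LinearEquiv.ext fun x => Subtype.ext (by
      rw [← e2, ← e2, show e a = e b from congrArg Subtype.val hab]))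
  · have hw := H.map_eq H k.1 k.2.1
    have hk : ∀ x, χ w (k.1 x) = χ w x := fun x => by rw [← k.2.1 w x, hw]
    have hm : (LinearMap.ker (χ w)).map k.1.toLinearMap = LinearMap.ker (χ w) :=
      le_antisymm (by rintro _ ⟨x, hx, rfl⟩; exact (hk x).trans hx) fun x hx =>
        ⟨k.1.symm x, (hk _).symm.trans (by simpa using hx), by simp⟩
    refine ⟨⟨k.1.ofSubmodules _ _ hm, fun a b => k.2.1 a b, fun _ => rfl⟩,
      Subtype.ext (LinearEquiv.ext fun x => ?_)⟩
    have h2 := e2 ⟨k.1.ofSubmodules _ _ hm, fun a b => k.2.1 a b, fun _ => rfl⟩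
      ⟨x - χ w x • w, by simp [h1]⟩
    simp only [map_sub, map_smul, H.map_eq H _ (e1 _), LinearEquiv.ofSubmodules_apply, hw] at h2
    exact sub_left_injective h2

theorem ChV.card_isom_even [Finite F] [FiniteDimensional F W] (H : ChV χ w) (hw : w ≠ 0) {k : ℕ}
    (h : finrank F W = 2 * (k + 1)) : Nat.card (Isom (σ := RingHom.id F) χ fun _ => 0) =
      Nat.card F ^ (2 * k + 1) * spO (Nat.card F) k := by
  have h0 : χ w w = 0 := H.even_iff.mp (h ▸ even_two_mul _)
  have := card_fixSub_alt (H.alt_nondeg h0).1 H.alt_isAlt h (U := Submodule.span F {w}) (s := 1)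
    (fun x hx y hy => by
      obtain ⟨a, rfl⟩ := Submodule.mem_span_singleton.mp hx
      obtain ⟨b, rfl⟩ := Submodule.mem_span_singleton.mp hy
      simp [H.alt_isAlt.self_eq_zero]) (finrank_span_singleton hw)
  rw [show 1 + (1 * (2 * (k + 1) - 2 * 1) + 1 * (1 - 1) / 2) = 2 * k + 1 by omega,
    Nat.add_sub_cancel] at this
  rw [← this]
  refine Nat.card_congr ⟨fun g => ⟨⟨g.1, fun a b => ?_, fun _ => rfl⟩, mem_fixSub_span.mpr ?_⟩,
    fun g => ⟨g.1.1, fun a b => ?_, fun _ => rfl⟩, fun _ => rfl, fun _ => rfl⟩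
  · rw [ChV.alt_apply, ChV.alt_apply, g.2.1, ← g.2.1 w a, ← g.2.1 w b, H.map_eq H _ g.2.1]
  · rintro _ rfl; exact H.map_eq H _ g.2.1
  · have h1 : ∀ a, χ w (g.1.1 a) = χ w a := fun a => by
      rw [← ChV.alt_left h0, ← ChV.alt_left h0, ← g.1.2.1 w a, mem_fixSub_span.mp g.2 w rfl]
    have := g.1.2.1 a b
    rw [ChV.alt_apply, ChV.alt_apply, h1, h1] at this
    simpa using this

end symm

end Cfsg.Agent.H10
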