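import Mathlib
import Cfsg.Agent.H10.Wall1
import Cfsg.Agent.H11.OrthOrder

/-! Involutions of symplectic and orthogonal groups in characteristic two. -/

namespace Cfsg.Agent.H10

open Module H11

/-- Counting conjugacy classes by a complete system of invariants. -/
theorem card_classes_eq {G I : Type*} [Group G] (P : G → Prop) (R : I → G → Prop)
    (h1 : ∀ g, P g → ∃ i, R i g) (h2 : ∀ i, ∃ g, P g ∧ R i g)
    (h3 : ∀ i j a b, P a → P b → R i a → R j b → (IsConj a b ↔ i = j)) :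
    Nat.card {C : ConjClasses G // ∃ g, ConjClasses.mk g = C ∧ P g} = Nat.card I := by
  choose r r1 r2 using h2
  refine (Nat.card_eq_of_bijective (fun i => ⟨ConjClasses.mk (r i), r i, rfl, r1 i⟩)
    ⟨fun i j h => (h3 i j _ _ (r1 i) (r1 j) (r2 i) (r2 j)).mp
      (ConjClasses.mk_eq_mk_iff_isConj.mp (congrArg Subtype.val h)), ?_⟩).symm
  rintro ⟨_, g, rfl, hg⟩
  obtain ⟨i, hi⟩ := h1 g hg
  exact ⟨i, Subtype.ext (ConjClasses.mk_eq_mk_iff_isConj.mpr
    ((h3 i i _ _ (r1 i) hg (r2 i) hi).mpr rfl))⟩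

theorem card_classes_congr {G H : Type*} [Group G] [Group H] (e : G ≃* H) (n : ℕ) :
    Nat.card {C : ConjClasses G // ∃ g, ConjClasses.mk g = C ∧ orderOf g = n} =
      Nat.card {C : ConjClasses H // ∃ g, ConjClasses.mk g = C ∧ orderOf g = n} := by
  refine card_classes_eq _ (fun C g => ConjClasses.mk (e g) = C.1)
    (fun g hg => ⟨⟨_, e g, rfl, by rwa [e.orderOf_eq]⟩, rfl⟩)
    (fun ⟨_, g, rfl, hg⟩ => ⟨e.symm g, by rwa [e.symm.orderOf_eq], by simp⟩)
    fun i j a b _ _ hi hj => ?_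
  rw [Subtype.ext_iff, ← hi, ← hj, ConjClasses.mk_eq_mk_iff_isConj]
  exact ⟨e.toMonoidHom.map_isConj, fun h => by simpa using e.symm.toMonoidHom.map_isConj h⟩

theorem card_centralizer_congr {G H : Type*} [Group G] [Group H] (e : G ≃* H) (g : G) :
    Nat.card (Subgroup.centralizer ({g} : Set G)) =
      Nat.card (Subgroup.centralizer ({e g} : Set H)) :=
  Nat.card_congr (subgroupEquivOfIff e _ _ fun x => by
    simp only [Subgroup.mem_centralizer_singleton_iff, ← map_mul, e.apply_eq_iff_eq]).toEquiv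

variable {F : Type*} [Field F] {V : Type*} [AddCommGroup V] [Module F V]
  {ε κ : F} {τ : F →+ F} {B : V →ₗ[F] V →ₗ[F] F} {Q : V → F}

/-- The involution is of alternating type. -/
def AltT (B : V →ₗ[F] V →ₗ[F] F) (g : V ≃ₗ[F] V) : Prop := ∀ v, B v (g v) = 0

/-- A formed space whose bilinear form is alternating and symmetric. -/
structure Two (ε κ : F) (τ : F →+ F) (B : V →ₗ[F] V →ₗ[F] F) (Q : V → F) : Prop where
  form : IsForm (σ := RingHom.id F) ε κ τ B Q
  sep : B.SeparatingLeft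
  eps : ε = 1
  alt : ∀ x, B x x = 0
  lin : ∀ c, τ c = c * τ 1

theorem two_alt [CharP F 2] {B : LinearMap.BilinForm F V} (hA : B.IsAlt) (hB : B.SeparatingLeft) :
    Two (-1) 0 0 B fun _ => 0 :=
  ⟨isForm_alt hA, hB, CharTwo.neg_eq 1, hA, by simp⟩

theorem two_quad [CharP F 2] (h : IsQuad B Q) (hB : B.SeparatingLeft) :
    Two 1 2 (AddMonoidHom.id F) B Q :=
  ⟨h, hB, rfl, fun x => by rw [h.diag', CharTwo.two_eq_zero, zero_mul], by simp⟩

theorem finrank_movS_eq_zero [FiniteDimensional F V] {g : V ≃ₗ[F] V} :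
    finrank F (movS g) = 0 ↔ g = 1 := by
  rw [← fixS_eq_top]
  have := finrank_movS_add g
  exact ⟨fun h => Submodule.eq_top_of_finrank_eq (by omega), fun h => by
    rw [h, finrank_top] at this; omega⟩

theorem exists_le_finrank_eq [FiniteDimensional F V] (W : Submodule F V) {k : ℕ}
    (hk : k ≤ finrank F W) : ∃ U ≤ W, finrank F U = k := by
  obtain ⟨v, hv⟩ := exists_linearIndependent_of_le_finrank hk
  refine ⟨Submodule.span F (Set.range (W.subtype ∘ v)), Submodule.span_le.mpr ?_, ?_⟩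
  · rintro _ ⟨i, rfl⟩; exact (v i).2
  · rw [finrank_span_eq_card (hv.map' _ W.ker_subtype), Fintype.card_fin]

namespace Two

variable {W : Type*} [AddCommGroup W] [Module F W] {ι : W →ₗ[F] V} {π : V →ₗ[F] W}
  {χ : W →ₗ[F] W →ₗ[F] F}

theorem comm (T : Two ε κ τ B Q) (x y : V) : B x y = B y x := by
  rw [T.form.symm, T.eps]; simp

theorem wall_symm (T : Two ε κ τ B Q) {g : Isom (σ := RingHom.id F) B Q} (hg : g * g = 1)
    (H : WallD B g.1 ι π χ) (a b : W) : χ a b = χ b a := by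
  obtain ⟨x, rfl⟩ := H.surj a
  obtain ⟨y, rfl⟩ := H.surj b
  have : g.1 (g.1 y) = y := LinearEquiv.congr_fun (congrArg Subtype.val hg) y
  rw [H.form, H.form, H.eq, H.eq, map_sub, map_sub, ← g.2.1 x (g.1 y), this, T.comm y, T.comm y]

theorem wall_diag (T : Two ε κ τ B Q) {g : V ≃ₗ[F] V} (H : WallD B g ι π χ) (v : V) :
    χ (π v) (π v) = B v (g v) := by rw [H.form, H.eq, map_sub, T.alt, sub_zero]

theorem wall_alt (T : Two ε κ τ B Q) {g : V ≃ₗ[F] V} (H : WallD B g ι π χ) {w : W}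
    (hw : ChV χ w) : w = 0 ↔ AltT B g := by
  rw [← hw.isAlt_iff]
  exact ⟨fun h v => (T.wall_diag H v).symm.trans (h _), fun h a => by
    obtain ⟨x, rfl⟩ := H.surj a
    exact (T.wall_diag H x).trans (h x)⟩

variable [CharP F 2]

theorem wall_gram (T : Two ε κ τ B Q) {g : Isom (σ := RingHom.id F) B Q} (H : WallD B g.1 ι π χ)
    (hs : ∀ a b, χ a b = χ b a) (a b : W) : B (ι a) (ι b) = 0 := by
  rw [H.gram T.form g.2, T.eps, hs b a]
  simp [CharTwo.sub_eq_add]

theorem movS_isotropic (T : Two ε κ τ B Q) {g : Isom (σ := RingHom.id F) B Q} (hg : g * g = 1) :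
    ∀ x ∈ movS g.1, ∀ y ∈ movS g.1, B x y = 0 := fun x hx y hy => by
  obtain ⟨x, rfl⟩ := mem_movS.mp hx
  obtain ⟨y, rfl⟩ := mem_movS.mp hy
  have : g.1 (g.1 y) = y := LinearEquiv.congr_fun (congrArg Subtype.val hg) y
  simp only [map_sub, LinearMap.sub_apply, g.2.1]
  rw [← g.2.1 x (g.1 y), this]
  linear_combination (B x y - B (g.1 x) y) * CharTwo.two_eq_zero (R := F)

theorem Q_movS (T : Two ε κ τ B Q) (g : Isom (σ := RingHom.id F) B Q) (v : V) :
    Q (g.1 v - v) = τ (B v (g.1 v)) := by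
  rw [Q_sub_isom T.form g.2, T.alt, T.comm]; simp [CharTwo.neg_eq]

variable [FiniteDimensional F V]

theorem movS_le_fixS (T : Two ε κ τ B Q) {g : Isom (σ := RingHom.id F) B Q} (hg : g * g = 1) :
    movS g.1 ≤ fixS g.1 := fun x hx =>
  T.form.perp_movS T.sep g.2 ▸ mem_perp.mpr fun y hy => T.movS_isotropic hg y hy x hx

theorem two_mul_rank_le (T : Two ε κ τ B Q) {g : Isom (σ := RingHom.id F) B Q} (hg : g * g = 1) :
    2 * finrank F (movS g.1) ≤ finrank F V := by
  have h1 := Submodule.finrank_mono (T.movS_le_fixS hg)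
  have h2 := finrank_movS_add g.1
  omega

theorem mul_self_of_wall (T : Two ε κ τ B Q) {g : Isom (σ := RingHom.id F) B Q}
    (H : WallD B g.1 ι π χ) (hs : ∀ a b, χ a b = χ b a) : g * g = 1 :=
  Subtype.ext (LinearEquiv.ext fun v => by
    have h1 : π (ι (π v)) = 0 := H.sep T.form T.sep g.2 _ fun b => by
      rw [H.form, T.wall_gram H hs]
    have h2 := H.eq (ι (π v))
    rw [h1, map_zero, H.eq, map_sub] at h2
    show g.1 (g.1 v) = v
    have h3 : (2 : F) • (g.1 v - v) = 0 := by rw [CharTwo.two_eq_zero, zero_smul]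
    linear_combination (norm := module) h3 - h2)

/-- Construction of involutions. -/
theorem exists_invol [FiniteDimensional F W] (T : Two ε κ τ B Q) {w : W} (hw : ChV χ w)
    (hι : Function.Injective ι) (h1 : ∀ a b, B (ι a) (ι b) = 0) (h2 : ∀ a, Q (ι a) = τ (χ a a)) :
    ∃ g : Isom (σ := RingHom.id F) B Q, g * g = 1 ∧ movS g.1 = LinearMap.range ι ∧
      finrank F (movS g.1) = finrank F W ∧ (AltT B g.1 ↔ w = 0) := by
  obtain ⟨g, π, H⟩ := exists_isom_wallD T.form T.sep hι hw.sep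
    (fun a b => by rw [h1, T.eps, hw.symm b a]; simp [CharTwo.sub_eq_add]) (fun a => by rw [h2, CharTwo.neg_eq])
  exact ⟨g, T.mul_self_of_wall H hw.symm, H.range_eq.symm, H.finrank_eq.symm,
    (T.wall_alt H hw).symm⟩

theorem exists_invol_alt (T : Two ε κ τ B Q) {U : Submodule F V} (hU : TotSing B Q U) {k : ℕ}
    (hk : finrank F U = 2 * k) : ∃ g : Isom (σ := RingHom.id F) B Q, g * g = 1 ∧ movS g.1 = U ∧
      AltT B g.1 := by
  let e : U ≃ₗ[F] (Fin k ⊕ Fin k → F) := LinearEquiv.ofFinrankEq _ _ (by simp [hk, two_mul])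
  have hA : (spBilin (Fin k) F).IsAlt := spBilin_isAlt
  obtain ⟨g, h1, h2, -, h3⟩ := T.exists_invol (χ := spBilin (Fin k) F) (w := 0)
    (ι := U.subtype.comp e.symm.toLinearMap) ⟨spBilin_nondegenerate.1,
      fun a b => by rw [← hA.neg_eq, CharTwo.neg_eq], fun x => by simp [hA.self_eq_zero]⟩
    (Subtype.val_injective.comp e.symm.injective) (fun a b => hU.2 _ (e.symm a).2 _ (e.symm b).2)
    fun a => by rw [hA.self_eq_zero, map_zero]; exact hU.1 _ (e.symm a).2
  exact ⟨g, h1, by rw [h2, LinearMap.range_comp_of_range_eq_top _ (by simp), U.range_subtype],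
    h3.mpr rfl⟩

theorem exists_invol_nonalt (T : Two ε κ τ B Q) {U : Submodule F V} (hU : TotSing B Q U) {u : V}
    (hu : u ∉ U) (hu' : ∀ x ∈ U, B x u = 0) (hQ : Q u = τ 1) :
    ∃ g : Isom (σ := RingHom.id F) B Q, g * g = 1 ∧ finrank F (movS g.1) = finrank F U + 1 ∧
      ¬ AltT B g.1 := by
  generalize hk : finrank F U = k
  let e : U ≃ₗ[F] (Fin k → F) := LinearEquiv.ofFinrankEq _ _ (by simp [hk])
  let l : (Fin (k + 1) → F) →ₗ[F] F := ∑ i, LinearMap.proj i
  let j : (Fin (k + 1) → F) →ₗ[F] U := e.symm.toLinearMap.comp (LinearMap.funLeft F F Fin.succ)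
  let χ : LinearMap.BilinForm F (Fin (k + 1) → F) := Matrix.toBilin' 1
  have hχ : ∀ a b, χ a b = ∑ i, a i * b i := fun a b => by
    simp [χ, Matrix.toBilin'_apply', dotProduct]
  have hl : ∀ a, l a = ∑ i, a i := fun a => by simp [l]
  have hι : ∀ a, (U.subtype.comp j + l.smulRight u) a = j a + l a • u := fun _ => rfl
  obtain ⟨g, h1, -, h2, h3⟩ := T.exists_invol (χ := χ) (w := 1)
    (ι := U.subtype.comp j + l.smulRight u)
    ⟨fun a ha => funext fun i => by simpa [hχ, Pi.single_apply] using ha (Pi.single i 1),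
      fun a b => by simp [hχ, mul_comm], fun x => by simp [hχ, CharTwo.sum_mul_self]⟩
    ((injective_iff_map_eq_zero _).mpr fun a ha => by
      rw [hι] at ha
      have h1 : l a = 0 := by
        by_contra h0
        refine hu ((U.smul_mem_iff h0).mp ?_)
        rw [eq_neg_of_add_eq_zero_right ha]
        exact neg_mem (j a).2
      rw [h1, zero_smul, add_zero] at ha
      have h2 : ∀ i : Fin k, a i.succ = 0 :=
        congrFun (e.symm.map_eq_zero_iff.mp (Subtype.ext ha : j a = 0))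
      rw [hl, Fin.sum_univ_succ] at h1
      exact funext (Fin.cases (by simpa [h2] using h1) h2))
    (fun a b => by
      simp [hι, hU.2 _ (j a).2 _ (j b).2, hu' _ (j a).2, T.comm u, hu' _ (j b).2, T.alt])
    fun a => by
      rw [hι, T.form.add, T.form.smul, hU.1 _ (j a).2, hQ, map_smul, hu' _ (j a).2, hχ,
        ← CharTwo.sum_mul_self, T.lin (_ * _), hl]
      simp
  exact ⟨g, h1, by simpa using h2, h3.not.mpr one_ne_zero⟩

variable [Finite F]

theorem exists_wall (T : Two ε κ τ B Q) {g : Isom (σ := RingHom.id F) B Q} (hg : g * g = 1) :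
    ∃ π χ w, WallD B g.1 (movS g.1).subtype π χ ∧ ChV χ w := by
  obtain ⟨π, χ, H⟩ := exists_wallD T.form T.sep g.2
  obtain ⟨w, hw⟩ := exists_chV (H.sep T.form T.sep g.2) (T.wall_symm hg H)
  exact ⟨π, χ, w, H, hw⟩

theorem even_of_altT (T : Two ε κ τ B Q) {g : Isom (σ := RingHom.id F) B Q} (hg : g * g = 1)
    (h : AltT B g.1) : Even (finrank F (movS g.1)) := by
  obtain ⟨π, χ, w, H, hw⟩ := T.exists_wall hg
  exact hw.even_iff.mpr (by simp [(T.wall_alt H hw).mpr h])

/-- Classification of involutions. -/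
theorem isConj_iff (T : Two ε κ τ B Q) {g g' : Isom (σ := RingHom.id F) B Q} (hg : g * g = 1)
    (hg' : g' * g' = 1) : IsConj g g' ↔ finrank F (movS g.1) = finrank F (movS g'.1) ∧
      (AltT B g.1 ↔ AltT B g'.1) := by
  obtain ⟨π, χ, w, H, hw⟩ := T.exists_wall hg
  obtain ⟨π', χ', w', H', hw'⟩ := T.exists_wall hg'
  rw [← T.wall_alt H hw, ← T.wall_alt H' hw']
  constructor
  · intro h
    obtain ⟨k, hk⟩ := _root_.isConj_iff.mp h
    obtain ⟨e, -, he⟩ := H.exists_equiv H' k.2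
      (LinearEquiv.congr_fun (congrArg Subtype.val (mul_inv_eq_iff_eq_mul.mp hk)))
    exact ⟨e.finrank_eq, by rw [← hw.map_eq hw' e he, e.map_eq_zero_iff]⟩
  · rintro ⟨h1, h2⟩
    obtain ⟨e, he⟩ := hw.exists_equiv hw' h1 h2
    obtain ⟨k, hk, -, h⟩ := H.exists_conj H' T.form T.sep g.2 g'.2 e he
    exact isConj_isom_of (k := ⟨k, hk⟩) h

theorem card_alt_set (T : Two ε κ τ B Q) {g : Isom (σ := RingHom.id F) B Q} (hg : g * g = 1)
    (h : ¬ AltT B g.1) :
    Nat.card {v // B v (g.1 v) = 0} * Nat.card F = Nat.card F ^ finrank F V := by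
  obtain ⟨π, χ, w, H, hw⟩ := T.exists_wall hg
  have h1 : ∀ v, B v (g.1 v) = 0 ↔ v ∈ LinearMap.ker ((χ w).comp π) := fun v => by
    rw [← T.wall_diag H, hw.sq, mul_self_eq_zero]; rfl
  rw [Nat.card_congr (Equiv.subtypeEquivRight h1), ← Module.Dual.finrank_ker_add_one_of_ne_zero
    (f := (χ w).comp π) fun h0 => h fun v => (h1 v).mpr (by simp [h0]), pow_succ,
    ← Module.natCard_eq_pow_finrank]

theorem card_cent_odd (T : Two ε κ τ B Q) {g : Isom (σ := RingHom.id F) B Q} (hg : g * g = 1)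
    {k : ℕ} (hk : finrank F (movS g.1) = 2 * k + 1) :
    Nat.card (Subgroup.centralizer ({g} : Set (Isom (σ := RingHom.id F) B Q))) =
      spO (Nat.card F) k * Nat.card (fixSub B Q (movS g.1)) := by
  obtain ⟨π, χ, w, H, hw⟩ := T.exists_wall hg
  rw [H.card_centralizer T.form T.sep, hw.card_isom_odd hk]

theorem card_cent_alt (T : Two ε κ τ B Q) {g : Isom (σ := RingHom.id F) B Q} (hg : g * g = 1)
    {k : ℕ} (hk : finrank F (movS g.1) = 2 * k) (h : AltT B g.1) :
    Nat.card (Subgroup.centralizer ({g} : Set (Isom (σ := RingHom.id F) B Q))) =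
      spO (Nat.card F) k * Nat.card (fixSub B Q (movS g.1)) := by
  obtain ⟨π, χ, w, H, hw⟩ := T.exists_wall hg
  rw [H.card_centralizer T.form T.sep,
    card_isom_spO hw.sep (hw.isAlt_iff.mpr ((T.wall_alt H hw).mpr h)) hk]

theorem card_cent_even (T : Two ε κ τ B Q) {g : Isom (σ := RingHom.id F) B Q} (hg : g * g = 1)
    {k : ℕ} (hk : finrank F (movS g.1) = 2 * (k + 1)) (h : ¬ AltT B g.1) :
    Nat.card (Subgroup.centralizer ({g} : Set (Isom (σ := RingHom.id F) B Q))) =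
      Nat.card F ^ (2 * k + 1) * spO (Nat.card F) k * Nat.card (fixSub B Q (movS g.1)) := by
  obtain ⟨π, χ, w, H, hw⟩ := T.exists_wall hg
  rw [H.card_centralizer T.form T.sep, hw.card_isom_even ((T.wall_alt H hw).not.mpr h) hk]

/-- The number of classes of involutions, given the possible ranks. -/
theorem card_classes (T : Two ε κ τ B Q) {m ν : ℕ} (hn : finrank F V = 2 * m)
    (hν : WittIdx B Q ν) (h1 : ∀ g : Isom (σ := RingHom.id F) B Q, g * g = 1 → AltT B g.1 →
      TotSing B Q (movS g.1))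
    (h2 : ∀ k < m, ∃ (U : Submodule F V) (u : V), TotSing B Q U ∧ finrank F U = k ∧ u ∉ U ∧
      (∀ x ∈ U, B x u = 0) ∧ Q u = τ 1) :
    Nat.card {C : ConjClasses (Isom (σ := RingHom.id F) B Q) //
      ∃ g, ConjClasses.mk g = C ∧ orderOf g = 2} = m + ν / 2 := by
  have ho : ∀ g : Isom (σ := RingHom.id F) B Q, orderOf g = 2 ↔
      g * g = 1 ∧ finrank F (movS g.1) ≠ 0 := fun g => by
    rw [orderOf_eq_prime_iff, pow_two, Ne, Ne, finrank_movS_eq_zero, OneMemClass.coe_eq_one]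
  simp only [ho]
  rw [card_classes_eq _ (Sum.elim
      (fun (i : Fin m) g => finrank F (movS g.1) = i + 1 ∧ ¬ AltT B g.1)
      fun (j : Fin (ν / 2)) g => finrank F (movS g.1) = 2 * (j + 1) ∧ AltT B g.1)]
  · simp
  · rintro g ⟨hg, h0⟩
    by_cases h : AltT B g.1
    · obtain ⟨k, hk⟩ := T.even_of_altT hg h
      have := T.form.finrank_le_wittIdx T.sep hν (h1 g hg h)
      exact ⟨.inr ⟨k - 1, by omega⟩, by simp; omega, h⟩
    · have := T.two_mul_rank_le hg
      exact ⟨.inl ⟨finrank F (movS g.1) - 1, by omega⟩, by simp; omega, h⟩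
  · rintro (i | j)
    · obtain ⟨U, u, a1, a2, a3, a4, a5⟩ := h2 i i.2
      obtain ⟨g, b1, b2, b3⟩ := T.exists_invol_nonalt a1 a3 a4 a5
      exact ⟨g, ⟨b1, by omega⟩, by omega, b3⟩
    · obtain ⟨W, hW, rfl⟩ := hν
      obtain ⟨U, a1, a2⟩ := exists_le_finrank_eq W (k := 2 * (j + 1)) (by omega)
      obtain ⟨g, b1, rfl, b3⟩ := T.exists_invol_alt (hW.1.mono a1) a2
      exact ⟨g, ⟨b1, by omega⟩, a2, b3⟩
  · rintro (i | i) (j | j) a b ha hb ⟨h3, h4⟩ ⟨h5, h6⟩ <;>
      rw [T.isConj_iff ha.1 hb.1] <;> simp [h3, h4, h5, h6, Fin.ext_iff]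

end Two

end Cfsg.Agent.H10
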