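import Mathlib
import Cfsg.Agent.H10.Real2
import Cfsg.Agent.H10.Wall2

/-! Regular unipotent elements of classical groups. -/

namespace Cfsg.Agent.H10

open Module Polynomial H11 L0

theorem card_classes_congr' {G H : Type*} [Group G] [Group H] (e : G ≃* H) {P : G → Prop}
    {P' : H → Prop} (h : ∀ g, P g ↔ P' (e g)) :
    Nat.card {C : ConjClasses G // ∃ g, ConjClasses.mk g = C ∧ P g} =
      Nat.card {C : ConjClasses H // ∃ g, ConjClasses.mk g = C ∧ P' g} := by
  refine card_classes_eq _ (fun C g => ConjClasses.mk (e g) = C.1)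
    (fun g hg => ⟨⟨_, e g, rfl, (h g).mp hg⟩, rfl⟩)
    (fun ⟨_, g, rfl, hg⟩ => ⟨e.symm g, (h _).mpr (by simpa), by simp⟩)
    fun i j a b _ _ hi hj => ?_
  rw [Subtype.ext_iff, ← hi, ← hj, ConjClasses.mk_eq_mk_iff_isConj]
  exact ⟨e.toMonoidHom.map_isConj, fun h => by simpa using e.symm.toMonoidHom.map_isConj h⟩

section ker
variable {G A : Type*} [Group G] [CommGroup A] (d : G →* A)

theorem isConj_ker_iff {x : G} {a b : d.ker} {g k : G} (ha : g * x * g⁻¹ = a)
    (hb : k * x * k⁻¹ = b) :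
    IsConj a b ↔ (d g)⁻¹ * d k ∈ (Subgroup.centralizer {x}).map d := by
  rw [isConj_iff]
  constructor
  · rintro ⟨s, hs⟩
    refine ⟨g⁻¹ * s.1⁻¹ * k, Subgroup.mem_centralizer_singleton_iff.mpr ?_, by
      simp [show d s = 1 from s.2]⟩
    have : s.1 * (g * x * g⁻¹) * s.1⁻¹ = k * x * k⁻¹ := by
      rw [ha, hb]; exact congrArg Subtype.val hs
    calc _ = g⁻¹ * s.1⁻¹ * (k * x * k⁻¹) * k := by group
      _ = _ := by rw [← this]; group
  · rintro ⟨c, hc, hc2⟩
    have hc := Subgroup.mem_centralizer_singleton_iff.mp hc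
    refine ⟨⟨k * c⁻¹ * g⁻¹, by simp [hc2]⟩, Subtype.ext ?_⟩
    show k * c⁻¹ * g⁻¹ * a * (k * c⁻¹ * g⁻¹)⁻¹ = b
    rw [← ha, ← hb]
    calc _ = k * c⁻¹ * (x * c) * k⁻¹ := by group
      _ = _ := by rw [← hc]; group

theorem isConj_ker_of {a b : d.ker} (h : IsConj a.1 b.1)
    (H : ∀ g, ∃ k, Commute a.1 k ∧ d k = d g) : IsConj a b := by
  obtain ⟨k, hk⟩ := isConj_iff.mp h
  obtain ⟨c, h1, h2⟩ := H k
  exact (isConj_ker_iff d (g := 1) (by simp) hk).mpr
    ⟨c, Subgroup.mem_centralizer_singleton_iff.mpr h1.symm.eq, by simp [h2]⟩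

theorem card_classes_ker (x : d.ker) :
    Nat.card {C : ConjClasses d.ker // ∃ u, ConjClasses.mk u = C ∧ IsConj x.1 u.1} =
      ((Subgroup.centralizer {x.1}).map d).relIndex d.range := by
  refine card_classes_eq _ (fun (i : d.range ⧸ Subgroup.subgroupOf _ d.range) u =>
    ∃ g : G, g * x * g⁻¹ = u ∧ QuotientGroup.mk (d.rangeRestrict g) = i) (fun u hu => ?_) ?_ ?_
  · obtain ⟨g, hg⟩ := isConj_iff.mp hu
    exact ⟨_, g, hg, rfl⟩
  · rintro ⟨_, g, rfl⟩
    exact ⟨⟨g * x * g⁻¹, d.normal_ker.conj_mem _ x.2 g⟩, isConj_iff.mpr ⟨g, rfl⟩, g, rfl, rfl⟩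
  · rintro _ _ a b - - ⟨g, hg, rfl⟩ ⟨k, hk, rfl⟩
    rw [isConj_ker_iff d hg hk, QuotientGroup.eq]
    rfl

end ker

section ring
variable {R F : Type*} [CommRing R] [Field F]

/-- A local ring of odd residue characteristic with an involution of the first kind. -/
structure LocInv (θ : R →+* R) (ev : R →+* F) : Prop where
  invol : ∀ a, θ (θ a) = a
  ev_θ : ∀ a, ev (θ a) = ev a
  unit : ∀ a, ev a ≠ 0 → IsUnit a
  two : (2 : F) ≠ 0

variable {θ : R →+* R} {ev : R →+* F}

theorem LocInv.map_inv (h : LocInv θ ev) {a : R} (ha : ev a ≠ 0) :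
    θ (Ring.inverse a) = Ring.inverse (θ a) := by
  obtain ⟨u, rfl⟩ := h.unit a ha
  rw [Ring.inverse_unit, show θ u = ↑(Units.map θ.toMonoidHom u) from rfl, Ring.inverse_unit]; rfl

theorem LocInv.ev_skew (h : LocInv θ ev) {a : R} (ha : θ a = -a) : ev a = 0 :=
  (mul_eq_zero.mp (by linear_combination (exp := 1) congrArg ev ha - h.ev_θ a + map_neg ev a :
    2 * ev a = 0)).resolve_left h.two

theorem LocInv.card_unitary (h : LocInv θ ev) :
    Nat.card {c // θ c * c = 1} = 2 * Nat.card {a // θ a = -a} := by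
  rw [show 2 = Nat.card ℤˣ by simp, ← Nat.card_prod]
  have h1 : ∀ a, θ a = -a → (1 - a) * Ring.inverse (1 - a) = 1 := fun a ha =>
    Ring.mul_inverse_cancel _ (h.unit _ (by simp [h.ev_skew ha]))
  have h2 : ∀ a, θ a = -a → ev (Ring.inverse (1 - a)) = 1 := fun a ha => by
    simpa [h.ev_skew ha] using congrArg ev (h1 a ha)
  have h3 : ∀ c, θ c * c = 1 → ev c = 1 → ∃ a, θ a = -a ∧ (1 + a) * Ring.inverse (1 - a) = c :=
    fun c hc h0 => by
      obtain ⟨w, hw⟩ := (h.unit (c + 1) (by simpa [h0, one_add_one_eq_two] using h.two)).exists_right_inv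
      have h4 : (θ c + 1) * θ w = 1 := by simpa using congrArg θ hw
      have h5 : θ ((c - 1) * w) = -((c - 1) * w) := by
        simp only [map_mul, map_sub, map_one]
        linear_combination (-(θ c - 1) * θ w) * hw - (c - 1) * w * h4 + 2 * w * θ w * hc
      exact ⟨_, h5, by linear_combination c * h1 _ h5 + Ring.inverse (1 - (c - 1) * w) * (c - 1) * hw⟩
  have h7 : ∀ p : ℤˣ × {a // θ a = -a}, θ ((p.1 : ℤ) * ((1 + p.2.1) * Ring.inverse (1 - p.2.1))) *
      ((p.1 : ℤ) * ((1 + p.2.1) * Ring.inverse (1 - p.2.1))) = 1 := fun p => by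
    have h4 := h1 _ p.2.2
    have h5 := congrArg θ h4
    have h6 : (((p.1 : ℤ) * (p.1 : ℤ) : ℤ) : R) = 1 := by rw [Int.units_coe_mul_self, Int.cast_one]
    simp only [map_mul, map_sub, map_add, map_one, p.2.2, map_intCast, Int.cast_mul] at h5 h6 ⊢
    linear_combination h6 + ((p.1 : ℤ) : R) * ((p.1 : ℤ) : R) *
      (h5 + (1 + p.2.1) * θ (Ring.inverse (1 - p.2.1)) * h4)
  refine (Nat.card_eq_of_bijective (fun p : ℤˣ × {a // θ a = -a} =>
    ⟨(p.1 : ℤ) * ((1 + p.2.1) * Ring.inverse (1 - p.2.1)), h7 p⟩) ⟨fun p p' e => ?_, fun c => ?_⟩).symm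
  · have e1 := congrArg Subtype.val e
    have e2 := congrArg ev e1
    simp only [map_mul, h2 _ p.2.2, h2 _ p'.2.2, map_add, h.ev_skew p.2.2, h.ev_skew p'.2.2,
      map_one, map_intCast, add_zero, mul_one] at e2
    have e3 : p.1 = p'.1 := by
      rcases Int.units_eq_one_or p.1 with h4 | h4 <;> rcases Int.units_eq_one_or p'.1 with h5 | h5 <;>
        simp only [h4, h5] at e2 ⊢ <;> exact absurd (by simp at e2; grind) h.two
    refine Prod.ext e3 (Subtype.ext ((h.unit 2 (by rw [map_ofNat]; exact h.two)).mul_left_cancel ?_))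
    have h6 : (((p.1 : ℤ) * (p.1 : ℤ) : ℤ) : R) = 1 := by rw [Int.units_coe_mul_self, Int.cast_one]
    simp only [← e3, Int.cast_mul] at e1 h6
    have e4 : (1 + p.2.1) * Ring.inverse (1 - p.2.1) = (1 + p'.2.1) * Ring.inverse (1 - p'.2.1) := by
      linear_combination ((p.1 : ℤ) : R) * e1 - ((1 + p.2.1) * Ring.inverse (1 - p.2.1) -
        (1 + p'.2.1) * Ring.inverse (1 - p'.2.1)) * h6
    linear_combination (1 - p.2.1) * (1 - p'.2.1) * e4 - (1 + p.2.1) * (1 - p'.2.1) * h1 _ p.2.2 +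
      (1 + p'.2.1) * (1 - p.2.1) * h1 _ p'.2.2
  · have h4 := congrArg ev c.2
    rw [map_mul, h.ev_θ, map_one, mul_self_eq_one_iff] at h4
    rcases h4 with h4 | h4
    · obtain ⟨a, h5, h6⟩ := h3 c c.2 h4
      exact ⟨(1, ⟨a, h5⟩), Subtype.ext (by simpa using h6)⟩
    · obtain ⟨a, h5, h6⟩ := h3 (-c) (by simpa using c.2) (by simp [h4])
      exact ⟨(-1, ⟨a, h5⟩), Subtype.ext (by simp [h6])⟩

theorem LocInv.exists_norm [Finite R] (h : LocInv θ ev) {w s : R} (hw : θ w = w) (hs : θ s = s)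
    (h0 : ev s ≠ 0) (h1 : ev w = ev s * ev s) : ∃ d, θ d * d = w := by
  obtain ⟨t, ht⟩ := (h.unit s h0).exists_right_inv
  have h2 : θ t = t := by
    have := congrArg θ ht
    rw [map_mul, hs, map_one] at this
    linear_combination t * this - θ t * ht
  have h3 := congrArg ev ht
  rw [map_mul, map_one] at h3
  obtain ⟨x, hx⟩ := (Finite.injective_iff_surjective
    (f := fun x : {x // θ x = x ∧ ev x = 1} => (⟨x.1 * x.1, by simp [x.2.1, x.2.2]⟩ :
      {x // θ x = x ∧ ev x = 1}))).mp (fun x y e => Subtype.ext ((h.unit (x + y) (by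
        simpa [x.2.2, y.2.2, one_add_one_eq_two] using h.two)).mul_left_cancel (by
          have : x.1 * x.1 = y.1 * y.1 := congrArg Subtype.val e
          linear_combination this)))
    ⟨w * t * t, by simp [hw, h2], by simp only [map_mul, h1]; linear_combination (ev s * ev t + 1) * h3⟩
  have h4 : x.1 * x.1 = w * t * t := congrArg Subtype.val hx
  exact ⟨s * x, by rw [map_mul, hs, x.2.1]; linear_combination s * s * h4 + w * (s * t + 1) * ht⟩

theorem LocInv.card_skew_sq (h : LocInv θ ev) {t : R} (ht : θ t = -t)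
    (h1 : ∀ a, ev a = 0 → t ∣ a) (h2 : ∀ b, t * b = 0 → θ b = -b) :
    Nat.card {a // θ a = -a} ^ 2 = Nat.card R := by
  obtain ⟨w, hw⟩ := (h.unit 2 (by rw [map_ofNat]; exact h.two)).exists_right_inv
  have h3 : θ w = w := by
    have := congrArg θ hw
    rw [map_mul, map_ofNat, map_one] at this
    linear_combination w * this - θ w * hw
  have h4 : Nat.card {a // θ a = a} = Nat.card {a // θ a = -a} :=
    Nat.card_eq_of_bijective (fun a => ⟨t * a, by simp [ht, a.2]⟩) ⟨fun a b e => Subtype.ext (by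
      have e : t * a = t * b := congrArg Subtype.val e
      have := h2 (a - b) (by linear_combination e)
      rw [map_sub, a.2, b.2] at this
      linear_combination w * this - (a.1 - b.1) * hw), fun ⟨a, ha⟩ => by
      obtain ⟨b, rfl⟩ := h1 a (h.ev_skew ha)
      rw [map_mul, ht] at ha
      exact ⟨⟨w * (b + θ b), by simp [h3, h.invol, add_comm]⟩, Subtype.ext (by
        show t * (w * (b + θ b)) = t * b
        linear_combination t * b * hw - w * ha)⟩⟩
  rw [pow_two]
  nth_rewrite 1 [← h4]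
  rw [← Nat.card_prod]
  refine Nat.card_eq_of_bijective (fun p => p.1.1 + p.2.1) ⟨fun p p' e => ?_, fun a =>
    ⟨(⟨w * (a + θ a), by simp [h3, h.invol, add_comm]⟩, ⟨w * (a - θ a), by
      simp [h3, h.invol]; ring⟩), by linear_combination a * hw⟩⟩
  have e1 : p.1.1 + p.2.1 = p'.1.1 + p'.2.1 := e
  have e2 := congrArg θ e1
  rw [map_add, map_add, p.1.2, p.2.2, p'.1.2, p'.2.2] at e2
  exact Prod.ext (Subtype.ext (by linear_combination w * (e1 + e2) - (p.1.1 - p'.1.1) * hw))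
    (Subtype.ext (by linear_combination w * (e1 - e2) - (p.2.1 - p'.2.1) * hw))

end ring

section geom
universe u
variable {F : Type u} [Field F] {σ : F →+* F} {V : Type*} [AddCommGroup V] [Module F V]

theorem algHom_mk {A : Type*} [Ring A] [Algebra F A] {u : F[X]} (φ : AdjoinRoot u →ₐ[F] A)
    (f : F[X]) : φ (AdjoinRoot.mk u f) = aeval (φ (AdjoinRoot.root u)) f := by
  rw [aeval_algHom_apply, AdjoinRoot.aeval_eq]

theorem phi_adj {B : V →ₛₗ[σ] V →ₗ[F] F} {u : F[X]} (φ : AdjoinRoot u →ₐ[F] End F V)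
    {θ : AdjoinRoot u →+* AdjoinRoot u} (h1 : ∀ a, θ (AdjoinRoot.of u a) = AdjoinRoot.of u (σ a))
    (h2 : θ (AdjoinRoot.root u) * AdjoinRoot.root u = 1)
    (hg : ∀ x y, B (φ (AdjoinRoot.root u) x) (φ (AdjoinRoot.root u) y) = B x y) (c x y) :
    B (φ c x) y = B x (φ (θ c) y) := by
  obtain ⟨f, rfl⟩ := AdjoinRoot.mk_surjective c
  have h3 : θ (AdjoinRoot.mk u f) = aeval (θ (AdjoinRoot.root u)) (f.map σ) :=
    DFunLike.congr_fun (Polynomial.ringHom_ext (f := θ.comp (AdjoinRoot.mk u))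
      (g := (aeval (θ (AdjoinRoot.root u))).toRingHom.comp (mapRingHom σ))
      (fun a => by simpa using h1 a) (by simp)) f
  rw [algHom_mk, h3, ← aeval_algHom_apply]
  refine aeval_adj (fun x y => ?_) f x y
  rw [← hg x, ← End.mul_apply, ← map_mul, mul_comm, h2, map_one, End.one_apply]

variable [FiniteDimensional F V]

theorem exists_cyc {T : End F V} {u : F[X]} (h : tyE T = {u}) :
    ∃ φ : AdjoinRoot u →ₐ[F] End F V, Function.Injective φ ∧ φ (AdjoinRoot.root u) = T ∧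
      ∀ y, Commute T y → ∃ c, φ c = y := by
  have hu := (prim_of_mem_tyE (T := T) (h ▸ Multiset.mem_singleton_self _)).ne_zero
  obtain ⟨φ, h1, h2, -, e, he⟩ := (isMdl_of_tyE (g := fun _ : Unit => u) h).exists_algHom
    fun _ => hu
  let ψ := φ.comp (Pi.constAlgHom F Unit _)
  have h3 : ψ (AdjoinRoot.root u) = T := h2
  refine ⟨ψ, h1.comp fun a b hab => congrFun hab (), h3, fun y hy =>
    ⟨e (y (e.symm 1)) (), LinearMap.ext fun v => ?_⟩⟩
  have h4 : ∀ c, Commute (ψ c) y := fun c => by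
    obtain ⟨f, rfl⟩ := AdjoinRoot.mk_surjective c
    rw [algHom_mk, h3]
    induction f using Polynomial.induction_on' with
    | add f g hf hg => rw [map_add]; exact hf.add_left hg
    | monomial k a =>
      rw [aeval_monomial]; exact (Algebra.commute_algebraMap_left a y).mul_left (hy.pow_left k)
  have h5 : ψ (e v ()) (e.symm 1) = v := e.injective ((he _ _).trans (by simp; rfl))
  rw [← h5, ← End.mul_apply y, ← (h4 _).eq]
  exact e.injective ((he _ _).trans (((he _ _).trans (by rw [h5]; exact mul_comm _ _)).symm))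

theorem invariant_reg {g : End F V} {n : ℕ} (h : tyE g = {(X - 1) ^ n}) {W : Submodule F V}
    (hW : ∀ v ∈ W, g v ∈ W) : W = LinearMap.ker ((g - 1) ^ finrank F W) := by
  have h1 := kdE_eq_sum g ((X - 1) ^ finrank F W)
  have h2 := finrank_eq_sum_tyE g
  have h3 := (aeval_eq_zero_iff_tyE g ((X - 1) ^ n)).mpr (by simp [h])
  rw [kdE, show aeval g ((X - 1 : F[X]) ^ finrank F W) = (g - 1) ^ finrank F W by simp] at h1
  simp only [h, Multiset.map_singleton, Multiset.sum_singleton, natDegree_X_sub_one_pow,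
    gd_pow_pow irr_X_sub_one.ne_zero, natDegree_X_sub_one] at h1 h2
  refine Submodule.eq_of_le_of_finrank_le (fun v hv => ?_) (by omega)
  have hN : ∀ v ∈ W, (g - 1) v ∈ W := fun v hv => W.sub_mem (hW v hv) hv
  have h5 : IsNilpotent ((g - 1).restrict hN) := ⟨n, by
    rw [End.pow_restrict]; ext w; simp [show (g - 1) ^ n = 0 by simpa using h3]⟩
  have h6 := LinearMap.aeval_self_charpoly ((g - 1).restrict hN)
  rw [h5.charpoly_eq_X_pow_finrank, map_pow, aeval_X, End.pow_restrict] at h6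
  exact congrArg Subtype.val (LinearMap.congr_fun h6 ⟨v, hv⟩)

theorem det_comm_reg {g y : End F V} {n : ℕ} (h : tyE g = {(X - 1) ^ n}) (hy : Commute g y) :
    ∃ a : F, LinearMap.det y = a ^ finrank F V ∧ (∀ v, g v = v → y v = a • v) ∧
      ∀ v, ∃ z, y v = a • v + (g z - z) := by
  obtain ⟨φ, -, h1, h2⟩ := exists_cyc h
  obtain ⟨c, rfl⟩ := h2 y hy
  obtain ⟨f, rfl⟩ := AdjoinRoot.mk_surjective c
  obtain ⟨w, hw⟩ := X_sub_C_dvd_sub_C_eval (p := f) (a := (1 : F))
  have h3 : aeval g f = algebraMap F _ (f.eval 1) + aeval g w * (g - 1) := by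
    rw [eq_add_of_sub_eq' hw, mul_comm]; simp
  have h5 : Commute (aeval g w) (g - 1) := by
    have := (Commute.all w (X - 1)).map (aeval g); rwa [map_sub, aeval_X, map_one] at this
  have h4 : IsNilpotent (aeval g w * (g - 1)) := h5.isNilpotent_mul_left
    ⟨n, by
      have := (aeval_eq_zero_iff_tyE g ((X - 1) ^ n)).mpr (by simp [h])
      rwa [map_pow, map_sub, aeval_X, map_one] at this⟩
  rw [algHom_mk, h1, h3]
  refine ⟨f.eval 1, ?_, fun v hv => by simp [hv], fun v => ⟨aeval g w v, by simp [h5.eq]⟩⟩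
  classical
  rw [← LinearMap.det_toMatrix (finBasis F V)]
  show (LinearMap.toMatrixAlgEquiv (finBasis F V) _).det = _
  rw [map_add, AlgEquiv.commutes]
  exact (det_scalar_add_nilpotent (h4.map (LinearMap.toMatrixAlgEquiv (finBasis F V))) _).trans
    (by simp)

theorem exists_regData (h2 : (2 : F) ≠ 0) {B : V →ₗ[F] V →ₗ[F] F} {g : End F V}
    (hg : ∀ x y, B (g x) (g y) = B x y) {m : ℕ} (h : tyE g = {(X - 1) ^ (2 * (m + 1))}) :
    ∃ (R : Type u) (_ : CommRing R) (_ : Algebra F R) (φ : R →ₐ[F] End F V) (θ : R →+* R)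
      (ev : R →+* F), LocInv θ ev ∧ Function.Injective φ ∧ (∀ y, Commute g y ↔ ∃ c, φ c = y) ∧
      (∀ c x y, B (φ c x) y = B x (φ (θ c) y)) ∧ (∀ a, θ (algebraMap F R a) = algebraMap F R a) ∧
      (∀ a, ev (algebraMap F R a) = a) ∧ Nat.card {a // θ a = -a} = Nat.card F ^ (m + 1) := by
  rw [← C_1, show 2 * (m + 1) = 2 * m + 1 + 1 from rfl] at h
  let u : F[X] := (X - C 1) ^ (2 * m + 1 + 1)
  let r := AdjoinRoot.root u
  obtain ⟨φ, a1, a2, a3⟩ := exists_cyc (u := u) h
  obtain ⟨θ, b1, b2, b3⟩ : ∃ θ : AdjoinRoot u →+* AdjoinRoot u,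
    (∀ a, θ (AdjoinRoot.of u a) = AdjoinRoot.of u a) ∧ θ r * r = 1 ∧
      θ (AdjoinRoot.mk u ((X - C 1) ^ (2 * m + 1))) = ((-1) ^ (2 * m + 1) : F) •
        AdjoinRoot.mk u ((X - C 1) ^ (2 * m + 1)) := exists_theta (RingHom.id F) (2 * m + 1)
  let ev : AdjoinRoot u →+* F := AdjoinRoot.lift (RingHom.id F) 1 (by simp [u])
  have c1 : ∀ f, ev (AdjoinRoot.mk u f) = f.eval 1 := fun f => AdjoinRoot.lift_mk _ _
  have c0 : ev r = 1 := AdjoinRoot.lift_root _
  have c2 : ∀ a, ev a = 0 → r - 1 ∣ a := fun a ha => by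
    obtain ⟨f, rfl⟩ := AdjoinRoot.mk_surjective a
    simpa using map_dvd (AdjoinRoot.mk u) (dvd_iff_isRoot.mpr ((c1 f).symm.trans ha))
  have c3 : ∀ a, ev (AdjoinRoot.of u a) = a := fun a => AdjoinRoot.lift_of _
  have L : LocInv θ ev := ⟨fun a => DFunLike.congr_fun (AdjoinRoot.ringHom_ext
    (f := θ.comp θ) (g := RingHom.id _) (RingHom.ext fun c => by simp [b1])
    (left_inv_eq_right_inv (by simpa using congrArg θ b2) b2)) a,
    fun a => DFunLike.congr_fun (AdjoinRoot.ringHom_ext (f := ev.comp θ) (g := ev)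
      (RingHom.ext fun c => by simp [b1]) (Eq.trans (by simpa [c0] using congrArg ev b2) c0.symm)) a, fun a ha => by
    obtain ⟨f, rfl⟩ := AdjoinRoot.mk_surjective a
    exact (isUnit_mk_pow_iff (irreducible_X_sub_C 1) (Nat.succ_pos _) f).mpr fun h =>
      ha ((c1 f).trans (dvd_iff_isRoot.mp h)), h2⟩
  refine ⟨AdjoinRoot u, _, inferInstance, φ, θ, ev, L, a1, fun y => ⟨a3 y, ?_⟩,
    phi_adj φ b1 b2 (by rwa [a2]), b1, c3, ?_⟩
  · rintro ⟨c, rfl⟩; exact a2 ▸ (Commute.all _ c).map φ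
  have d1 : r - θ r = θ r * (r + 1) * (r - 1) := by linear_combination -r * b2
  have d2 : IsUnit (θ r * (r + 1)) := L.unit _ (by simpa [L.ev_θ, c0, one_add_one_eq_two])
  have d3 := L.card_skew_sq (t := r - θ r) (by simp [L.invol])
    (fun a ha => d1 ▸ d2.mul_left_dvd.mpr (c2 a ha)) fun b hb => by
      obtain ⟨f, rfl⟩ := AdjoinRoot.mk_surjective b
      rw [d1, mul_assoc, d2.mul_right_eq_zero, show r - 1 = AdjoinRoot.mk u (X - C 1) by simp [r],
        ← map_mul, AdjoinRoot.mk_eq_zero] at hb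
      obtain ⟨w, rfl⟩ := (mul_dvd_mul_iff_left (X_sub_C_ne_zero 1)).mp ((pow_succ' _ _).symm.dvd.trans hb)
      obtain ⟨z, hz⟩ := c2 (θ (AdjoinRoot.mk u w) - AdjoinRoot.mk u w) (by simp [L.ev_θ])
      have : AdjoinRoot.mk u ((X - C 1) ^ (2 * m + 1)) * (r - 1) = 0 := by
        simpa [u, pow_succ] using AdjoinRoot.mk_self (f := u)
      rw [map_mul, map_mul, b3, (odd_two_mul_add_one m).neg_one_pow, neg_one_smul]
      linear_combination -AdjoinRoot.mk u ((X - C 1) ^ (2 * m + 1)) * hz - z * this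
  rcases finite_or_infinite F with _ | _
  · rw [card_adjoinRoot (pow_ne_zero _ (X_sub_C_ne_zero 1)), natDegree_pow, natDegree_X_sub_C] at d3
    exact Nat.pow_left_injective two_ne_zero (d3.trans (by simp only [← pow_mul]; ring_nf))
  · have : Infinite (AdjoinRoot u) := Infinite.of_surjective ev fun a => ⟨_, c3 a⟩
    simpa using d3

variable {B : LinearMap.BilinForm F V}

theorem card_cent_reg (h2 : (2 : F) ≠ 0) (hA : B.IsAlt) (hB : B.SeparatingLeft)
    (g : Isom (σ := RingHom.id F) B fun _ => 0) {m : ℕ}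
    (h : tyE g.1.toLinearMap = {(X - 1) ^ (2 * (m + 1))}) :
    Nat.card (Subgroup.centralizer {g}) = 2 * Nat.card F ^ (m + 1) := by
  obtain ⟨R, _, _, φ, θ, ev, L, a1, a2, a3, -, -, a4⟩ := exists_regData h2 g.2.1 h
  rw [← a4, ← L.card_unitary]
  choose k hk hk' using fun c : {c // θ c * c = 1} => IsForm.exists_isom_of_linear
    (Q := fun _ => 0) hB (φ c) (fun x y => by
      rw [a3, ← End.mul_apply, ← map_mul, c.2, map_one, End.one_apply]) fun _ => rfl
  refine (Nat.card_eq_of_bijective (fun c => (⟨⟨k c, hk c⟩,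
    Subgroup.mem_centralizer_singleton_iff.mpr (Subtype.ext (LinearEquiv.ext fun v => by
      simpa [hk'] using LinearMap.congr_fun ((a2 _).mpr ⟨c, rfl⟩).symm.eq v))⟩ :
        Subgroup.centralizer {g}))
    ⟨fun c c' e => Subtype.ext (a1 (LinearMap.ext fun v => by
      rw [← hk', ← hk', show k c = k c' from congrArg Subtype.val (congrArg Subtype.val e)])), fun y => ?_⟩).symm
  obtain ⟨c, hc⟩ := (a2 y.1.1.toLinearMap).mp (LinearMap.ext fun v => congrArg (·.1 v)
    (Subgroup.mem_centralizer_singleton_iff.mp y.2).symm)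
  exact ⟨⟨c, a1 (end_ext_right (isForm_alt hA) hB fun x z => by
    rw [map_mul, End.mul_apply, ← a3, hc, map_one]; exact y.1.2.1 x z)⟩,
    Subtype.ext (Subtype.ext (LinearEquiv.ext fun v => by simp [hk', hc]))⟩

theorem card_classes_reg [Finite F] (h2 : (2 : F) ≠ 0) (hA : B.IsAlt) (hB : B.SeparatingLeft)
    {m : ℕ} (hn : finrank F V = 2 * (m + 1)) :
    Nat.card {C : ConjClasses (Isom (σ := RingHom.id F) B fun _ => 0) // ∃ g, ConjClasses.mk g = C ∧
      tyE g.1.toLinearMap = {(X - 1) ^ (2 * (m + 1))}} = 2 := by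
  obtain ⟨g, hg⟩ := (real_alt_even m).alt hA hB (by simp [hn, natDegree_X_sub_one])
  obtain ⟨R, _, _, φ, θ, ev, L, a1, a2, a3, a4, a5, -⟩ := exists_regData h2 g.2.1 hg
  have : Finite V := Module.finite_of_finite F
  have : Finite (End F V) := Finite.of_injective _ (DFunLike.coe_injective (F := End F V))
  have : Finite R := Finite.of_injective _ a1
  have hF := isForm_alt hA
  have ext : ∀ c c', (∀ x y, B x (φ c y) = B x (φ c' y)) → c = c' := fun c c' h =>
    a1 (end_ext_right hF hB h)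
  refine (card_classes_eq _ (fun (i : Prop) u => ∃ (P : V ≃ₗ[F] V) (c : R),
    (∀ v, P (g.1 v) = u.1 (P v)) ∧ (∀ x y, B (P x) (P y) = B x (φ c y)) ∧ ev c ≠ 0 ∧
      (IsSquare (ev c) ↔ i)) (fun u hu => ?_) (fun i => ?_) ?_).trans (by simp)
  · obtain ⟨P, hP⟩ := (tyE_eq_iff _ _).mp (hg.trans hu.symm)
    have hP : ∀ v, P (g.1 v) = u.1 (P v) := hP
    obtain ⟨s, hs⟩ := exists_rep_end hF hB (pull B P.toLinearMap)
    have hs : ∀ x y, B (P x) (P y) = B x (s y) := hs
    obtain ⟨c, rfl⟩ := (a2 s).mp (end_ext_right hF hB fun x y => by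
      obtain ⟨x, rfl⟩ := g.1.surjective x
      simp [g.2.1, ← hs, hP, u.2.1])
    refine ⟨_, P, c, hP, hs, fun h0 => ?_, Iff.rfl⟩
    obtain ⟨d, hd⟩ := Finite.injective_iff_surjective.mp ((injective_iff_map_eq_zero
      (AddMonoidHom.mulLeft c)).mpr fun z hz => a1 (LinearMap.ext fun v => P.injective (by
        rw [map_zero, LinearMap.zero_apply, map_zero]
        refine hF.separatingRight hB fun x => ?_
        obtain ⟨x, rfl⟩ := P.surjective x
        rw [hs, ← End.mul_apply, ← map_mul, show c * z = 0 from hz]; simp))) 1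
    simpa [h0] using congrArg ev (show c * d = 1 from hd)
  · obtain ⟨a, h0, ha⟩ : ∃ a : F, a ≠ 0 ∧ (IsSquare a ↔ i) := by
      by_cases hi : i
      · exact ⟨1, one_ne_zero, by simp [hi]⟩
      · obtain ⟨a, ha⟩ := FiniteField.exists_nonsquare (ringChar_ne_two_of h2)
        exact ⟨a, by rintro rfl; simp at ha, by simp [hi, ha]⟩
    have hA' : (a • B).IsAlt := hA.smul a
    obtain ⟨P, hP⟩ := alt_isometric (hA'.isRefl.nondegenerate_iff_separatingLeft.mpr
      (IsQuad.sep_smul hB h0)) hA' (hA.isRefl.nondegenerate_iff_separatingLeft.mpr hB) hA rfl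
    refine ⟨⟨P.symm.trans (g.1.trans P), fun x y => by
      obtain ⟨x, rfl⟩ := P.surjective x
      obtain ⟨y, rfl⟩ := P.surjective y
      simp [hP, g.2.1], fun _ => rfl⟩,
      (tyE_congr P fun v => by simp).symm.trans hg, P, algebraMap F R a, by simp, fun x y => by
        simp [hP], by rwa [a5], by rwa [a5]⟩
  rintro i j u u' - - ⟨P, c, b1, b2, b3, b4⟩ ⟨P', c', b1', b2', b3', b4'⟩
  have sym : ∀ {P : V ≃ₗ[F] V} {c : R}, (∀ x y, B (P x) (P y) = B x (φ c y)) → θ c = c :=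
    fun {P c} h => ext _ _ fun x y => by rw [← a3, ← h, ← hA.neg_eq, ← h, hA.neg_eq]
  rw [← propext b4, ← propext b4', eq_iff_iff]
  constructor
  · intro h
    obtain ⟨k, hk⟩ := isConj_iff.mp h
    have hk : ∀ v, k.1 (u.1 v) = u'.1 (k.1 v) := fun v =>
      congrArg (·.1 v) (mul_inv_eq_iff_eq_mul.mp hk)
    obtain ⟨d, hd⟩ := (a2 (P.trans (k.1.trans P'.symm)).toLinearMap).mp (LinearMap.ext fun v =>
      P'.injective (by simp [b1, b1', hk]))
    have : θ d * c' * d = c := ext _ _ fun x y => by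
      rw [map_mul, map_mul, End.mul_apply, End.mul_apply, ← a3, ← b2', hd, ← b2]; simp [k.2.1]
    rw [← this, map_mul, map_mul, L.ev_θ] at b3 ⊢
    rw [mul_right_comm] at b3 ⊢
    exact isSquare_mul_iff_of_isSquare (left_ne_zero_of_mul b3) ⟨_, rfl⟩
  · intro h
    obtain ⟨s, hs⟩ : IsSquare (ev c * ev c') := by
      by_cases h0 : IsSquare (ev c)
      · exact h0.mul (h.mp h0)
      · exact isSquare_mul_of_not_isSquare h0 (h.not.mp h0)
    obtain ⟨w, hw⟩ := (L.unit c' b3').exists_right_inv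
    obtain ⟨d, hd⟩ := L.exists_norm (w := c * c') (by rw [map_mul, sym b2, sym b2']) (a4 s)
      (by rw [a5]; rintro rfl; simp [b3, b3'] at hs) (by rw [map_mul, hs, a5])
    have h3 : θ (d * w) * c' * (d * w) = c := by
      have := congrArg θ hw
      rw [map_mul, sym b2', map_one] at this
      rw [map_mul]
      linear_combination θ w * c' * w * hd + c * c' * w * this + c * hw
    obtain ⟨k, hk, hk'⟩ := IsForm.exists_isom_of_linear (Q := fun _ => 0) hB
      (P'.toLinearMap ∘ₗ φ (d * w) ∘ₗ P.symm.toLinearMap) (fun x y => by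
        obtain ⟨x, rfl⟩ := P.surjective x
        obtain ⟨y, rfl⟩ := P.surjective y
        simp only [LinearMap.comp_apply, LinearEquiv.coe_coe, LinearEquiv.symm_apply_apply]
        rw [b2', a3, b2, ← h3, map_mul φ _ (d * w), map_mul φ _ c']; rfl) fun _ => rfl
    refine isConj_isom_of (k := ⟨k, hk⟩) fun v => ?_
    obtain ⟨v, rfl⟩ := P.surjective v
    have := LinearMap.congr_fun ((a2 _).mpr ⟨d * w, rfl⟩).eq v
    simp only [End.mul_apply, LinearEquiv.coe_coe] at this
    simp only [hk', ← b1, LinearMap.comp_apply, LinearEquiv.coe_coe, LinearEquiv.symm_apply_apply,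
      ← b1', this]

end geom

section mat
variable {F : Type*} [Field F] {σ : F →+* F} {ι : Type} [Fintype ι] [DecidableEq ι]

theorem tyE_spIso (A : Matrix.symplecticGroup ι F) : tyE (spIso ι F A).1.toLinearMap = ty A.1 :=
  congrArg tyE (LinearMap.ext fun v => spIso_apply A v)

theorem tyE_oEquiv {B : (ι → F) →ₗ[F] (ι → F) →ₗ[F] F} {Q : (ι → F) → F} (h : IsQuad B Q)
    (A : isometryGroup F Q) : tyE (oEquiv h A).1.toLinearMap = ty A.1.1 :=
  congrArg tyE (LinearMap.ext fun v => oEquiv_apply h A v)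

theorem tyE_guEquiv {q n : ℕ} (hq : QConj σ q) (A : GU n F q) :
    tyE (guEquiv hq n A).1.toLinearMap = ty A.1.1 :=
  congrArg tyE (LinearMap.ext fun v => guEquiv_apply hq A v)

theorem tyE_suEquiv {q n : ℕ} (hq : QConj σ q) (A : SU n F q) :
    tyE (suEquiv hq n A).1.1.toLinearMap = ty A.1.1 :=
  congrArg tyE (LinearMap.ext fun v => suEquiv_apply hq A v)

theorem reg_iff_ty {A : Matrix ι ι F} {n : ℕ} (hn : Fintype.card ι = n) (h0 : 0 < n) :
    (A - 1) ^ n = 0 ∧ (A - 1).rank = n - 1 ↔ ty A = {(X - 1) ^ n} := by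
  subst hn
  have := Fintype.card_pos_iff.mp h0
  exact ⟨fun h => ty_reg_unip ⟨_, h.1⟩ h.2, reg_unip_of_ty⟩

end mat

end Cfsg.Agent.H10
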