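import Mathlib
import Cfsg.Agent.H10.Reg

/-! Semisimple types in classical groups. -/

namespace Cfsg.Agent.H10

open Module Polynomial H11 L0

universe u

variable {F : Type u} [Field F] {σ : F →+* F} {ε κ : F} {τ : F →+ F} {r : ℕ}

/-- Monic irreducible divisors of `X ^ r - 1`. -/
def IrrD (r : ℕ) (u : F[X]) : Prop := Irreducible u ∧ u.Monic ∧ u ∣ X ^ r - 1

theorem IrrD.prim {u : F[X]} (h : IrrD r u) : Prim u := .of_irreducible h.1 h.2.1

theorem IrrD.eq_of_dvd {u v : F[X]} (hu : IrrD r u) (hv : IrrD r v) (h : u ∣ v) : u = v :=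
  eq_of_monic_of_associated hu.2.1 hv.2.1 (hu.1.associated_of_dvd hv.1 h)

theorem irrD_X_sub_one : IrrD r (X - 1 : F[X]) :=
  ⟨irr_X_sub_one, monic_X_sub_one, by simpa using sub_dvd_pow_sub_pow (X : F[X]) 1 r⟩

/-- The substitution `X ↦ X⁻¹` modulo `X ^ r - 1`, twisted by `σ`. -/
noncomputable def Th (σ : F →+* F) (r : ℕ) : F[X] →+* F[X] :=
  eval₂RingHom (C.comp σ) (X ^ (r - 1))

theorem aeval_Th {A : Type*} [Ring A] [Algebra F A] (a : A) (f : F[X]) :
    aeval a (Th σ r f) = aeval (a ^ (r - 1)) (f.map σ) := by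
  induction f using Polynomial.induction_on' with
  | add f g hf hg => simp only [map_add, Polynomial.map_add, hf, hg]
  | monomial k c => simp [Th, aeval_monomial]

theorem Th_Th (hσ : ∀ a, σ (σ a) = a) (hr : 0 < r) (f : F[X]) :
    X ^ r - 1 ∣ Th σ r (Th σ r f) - f := by
  obtain ⟨r, rfl⟩ := Nat.exists_eq_add_of_le' hr
  rw [← AdjoinRoot.mk_eq_mk]
  have h : AdjoinRoot.root (X ^ (r + 1) - 1 : F[X]) ^ (r + 1) = 1 :=
    (root_pow_eq_one_iff _ _).mpr dvd_rfl
  refine DFunLike.congr_fun (Polynomial.ringHom_ext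
    (f := (AdjoinRoot.mk _).comp ((Th σ _).comp (Th σ _))) (g := AdjoinRoot.mk _)
    (fun a => by simp [Th, hσ]) ?_) f
  simp only [Th, RingHom.comp_apply, coe_eval₂RingHom, eval₂_X, eval₂_pow, map_pow,
    AdjoinRoot.mk_X, Nat.add_sub_cancel]
  generalize AdjoinRoot.root (X ^ (r + 1) - 1 : F[X]) = x at h
  have h1 : x ^ r * x = 1 := by rw [← pow_succ, h]
  exact left_inv_eq_right_inv (a := x ^ r) (by rw [← pow_succ, ← pow_mul, mul_comm, pow_mul, h,
    one_pow]) h1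

theorem exists_du (hr : 0 < r) {u : F[X]} (hu : IrrD r u) :
    ∃ v, IrrD r v ∧ ∀ f, u ∣ Th σ r f ↔ v ∣ f := by
  have := (Ideal.span_singleton_prime hu.1.ne_zero).mpr hu.1.prime
  obtain ⟨g, hg⟩ := (IsPrincipalIdealRing.principal ((Ideal.span {u}).comap (Th σ r))).principal
  have h1 : ∀ f, u ∣ Th σ r f ↔ g ∣ f := fun f => by
    rw [← Ideal.mem_span_singleton, ← Ideal.mem_comap, hg]; exact Ideal.mem_span_singleton
  have h2 : g ∣ X ^ r - 1 := (h1 _).mp (hu.2.2.trans (by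
    simpa [Th, ← pow_mul, mul_comm] using sub_dvd_pow_sub_pow (X ^ r : F[X]) 1 (r - 1)))
  have h3 : g ≠ 0 := ne_zero_of_dvd_ne_zero (X_pow_sub_C_ne_zero hr 1) h2
  have h4 : Prime g := (Ideal.span_singleton_prime h3).mp
    (by rw [← Ideal.submodule_span_eq, ← hg]; exact Ideal.IsPrime.comap _)
  classical
  exact ⟨normalize g, ⟨(associated_normalize g).irreducible h4.irreducible, monic_normalize h3,
    normalize_dvd_iff.mpr h2⟩, fun f => (h1 f).trans normalize_dvd_iff.symm⟩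

/-- The dual of an irreducible factor of `X ^ r - 1`. -/
noncomputable def du (σ : F →+* F) (r : ℕ) (u : F[X]) : F[X] :=
  Classical.epsilon fun v => IrrD r v ∧ ∀ f, u ∣ Th σ r f ↔ v ∣ f

theorem IrrD.du (hr : 0 < r) {u : F[X]} (hu : IrrD r u) : IrrD r (du σ r u) :=
  (Classical.epsilon_spec (exists_du hr hu)).1

theorem IrrD.dvd_Th (hr : 0 < r) {u : F[X]} (hu : IrrD r u) {f : F[X]} :
    u ∣ Th σ r f ↔ H10.du σ r u ∣ f := (Classical.epsilon_spec (exists_du hr hu)).2 f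

theorem IrrD.du_du (hσ : ∀ a, σ (σ a) = a) (hr : 0 < r) {u : F[X]} (hu : IrrD r u) :
    H10.du σ r (H10.du σ r u) = u :=
  ((hu.du hr).du hr).eq_of_dvd hu (((hu.du hr).dvd_Th hr).mp ((hu.dvd_Th hr).mp
    ((dvd_iff_dvd_of_dvd_sub (hu.2.2.trans (Th_Th hσ hr u))).mpr dvd_rfl)))

theorem du_X_sub_one (hr : 0 < r) : du σ r (X - 1) = X - 1 :=
  (irrD_X_sub_one.du hr).eq_of_dvd irrD_X_sub_one ((irrD_X_sub_one.dvd_Th hr).mp (by
    simpa [Th] using sub_dvd_pow_sub_pow (X : F[X]) 1 (r - 1)))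

section lin
variable {V : Type*} [AddCommGroup V] [Module F V] [FiniteDimensional F V]

theorem pow_eq_one_iff_tyE (T : End F V) (k : ℕ) : T ^ k = 1 ↔ ∀ u ∈ tyE T, u ∣ X ^ k - 1 := by
  rw [← aeval_eq_zero_iff_tyE, map_sub, map_pow, aeval_X, map_one, sub_eq_zero]

theorem irrD_of_mem (hr : (r : F) ≠ 0) {T : End F V} (h : T ^ r = 1) {u : F[X]} (hu : u ∈ tyE T) :
    IrrD r u :=
  have h1 := (pow_eq_one_iff_tyE T r).mp h u hu
  ⟨(prim_of_mem_tyE hu).irreducible_of_squarefree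
    (X_pow_sub_one_separable_iff.mpr hr).squarefree h1, (prim_of_mem_tyE hu).monic, h1⟩

open Classical in
theorem kdE_eq_count {T : End F V} (h : ∀ u ∈ tyE T, IrrD r u) {f w : F[X]}
    (hf : ∀ v, IrrD r v → (v ∣ f ↔ v = w)) : kdE T f = (tyE T).count w * w.natDegree := by
  rw [kdE_eq_sum]
  generalize tyE T = s at h
  induction s using Multiset.induction_on with
  | empty => simp
  | cons a s ih =>
    have h1 := h a (by simp)
    rw [Multiset.map_cons, Multiset.sum_cons, ih fun u hu => h u (by simp [hu])]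
    by_cases e : a = w
    · rw [gd_of_dvd_left h1.1.ne_zero ((hf a h1).mpr e), e, Multiset.count_cons_self]; ring
    · rw [gd_of_isCoprime h1.1.ne_zero (h1.1.coprime_iff_not_dvd.mpr ((hf a h1).not.mpr e)).symm,
        Multiset.count_cons_of_ne (Ne.symm e), zero_add]

variable {B : V →ₛₗ[σ] V →ₗ[F] F} {a b : End F V}

omit [FiniteDimensional F V] in
theorem pair_pow (h : ∀ x y, B (a x) (b y) = B x y) (k : ℕ) (x y : V) :
    B ((a ^ k) x) ((b ^ k) y) = B x y := by
  induction k with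
  | zero => simp
  | succ k ih => simp [pow_succ', h, ih]

open Classical in
theorem count_du (hσ : ∀ a, σ (σ a) = a) (hr : (r : F) ≠ 0) (hB : B.SeparatingLeft)
    (hB' : B.SeparatingRight) (h : ∀ x y, B (a x) (b y) = B x y) (ha : a ^ r = 1) {w : F[X]}
    (hw : IrrD r w) : (tyE a).count (du σ r w) * (du σ r w).natDegree =
      (tyE b).count w * w.natDegree := by
  have h0 : 0 < r := Nat.pos_of_ne_zero (by rintro rfl; simp at hr)
  have hb : b ^ r = 1 := LinearMap.ext fun y => sub_eq_zero.mp (hB' _ fun x => by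
    simpa [ha, sub_eq_zero] using pair_pow h r x y)
  rw [← kdE_eq_count (fun u => irrD_of_mem hr ha) (f := du σ r w)
    fun v hv => ⟨hv.eq_of_dvd (hw.du h0), fun e => e.dvd⟩,
    ← kdE_eq_count (fun u => irrD_of_mem hr hb) (f := Th σ r (du σ r w)) fun v hv =>
      (hv.dvd_Th h0).trans ⟨fun e => by
        rw [← hv.du_du hσ h0, (hv.du h0).eq_of_dvd (hw.du h0) e, hw.du_du hσ h0], fun e => by rw [e]⟩,
    kdE_adj hσ hB hB' (b := b ^ (r - 1)) fun x y => by
      rw [← h x, ← End.mul_apply, ← pow_succ', Nat.sub_add_cancel h0, hb, End.one_apply],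
    kdE, kdE, aeval_Th]

theorem tyE_dual_aux (hσ : ∀ a, σ (σ a) = a) (hr : (r : F) ≠ 0) (hB : B.SeparatingLeft)
    (hB' : B.SeparatingRight) (h : ∀ x y, B (a x) (b y) = B x y) {u : F[X]} (hu : IrrD r u)
    (ha : tyE a = {u}) : ∃ k, tyE b = Multiset.replicate k (du σ r u) ∧
      k * (du σ r u).natDegree = u.natDegree := by
  classical
  have h0 : 0 < r := Nat.pos_of_ne_zero (by rintro rfl; simp at hr)
  have h1 : a ^ r = 1 := (pow_eq_one_iff_tyE a r).mpr (by simpa [ha] using hu.2.2)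
  have hb : b ^ r = 1 := LinearMap.ext fun y => sub_eq_zero.mp (hB' _ fun x => by
    simpa [h1, sub_eq_zero] using pair_pow h r x y)
  have h2 : tyE b = Multiset.replicate _ (du σ r u) := Multiset.eq_replicate_card.mpr fun w hw => by
    have h3 := irrD_of_mem hr hb hw
    have h4 := (count_du hσ hr hB hB' h h1 h3).trans_ne
      (mul_ne_zero (Multiset.count_ne_zero.mpr hw) h3.prim.natDegree_pos.ne')
    have h5 : du σ r w = u :=
      Multiset.mem_singleton.mp (ha ▸ Multiset.count_ne_zero.mp (left_ne_zero_of_mul h4))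
    rw [← h5, h3.du_du hσ h0]
  refine ⟨_, h2, ?_⟩
  have h3 := (finrank_eq_sum_tyE b).symm.trans (finrank_eq_sum_tyE a)
  rw [h2, ha] at h3
  simpa using h3

end lin

theorem IrrD.exists_gl (hr : 0 < r) {u : F[X]} (hu : IrrD r u) :
    ∃ A : GL (Fin u.natDegree) F, ty A.1 = {u} :=
  exists_gl_ty_eq (by simpa using hu.prim)
    (by simpa using not_X_dvd_of_dvd_X_pow_sub_one hr.ne' hu.2.2) (by simp)

theorem IrrD.natDegree_du (hσ : ∀ a, σ (σ a) = a) (hr : (r : F) ≠ 0) {u : F[X]} (hu : IrrD r u) :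
    (H10.du σ r u).natDegree = u.natDegree := by
  have h0 : 0 < r := Nat.pos_of_ne_zero (by rintro rfl; simp at hr)
  have : ∀ u, IrrD r u → (H10.du σ r u).natDegree ≤ u.natDegree := fun u hu => by
    obtain ⟨A, hA⟩ := hu.exists_gl h0
    obtain ⟨b, hb, -⟩ := exists_dual_end σ A
    obtain ⟨k, -, h⟩ := tyE_dual_aux hσ hr (hermB_sep _) (hermB_sepR _) (b := b.toLinearMap) hb hu hA
    exact Nat.le_of_dvd hu.prim.natDegree_pos (Dvd.intro_left _ h)
  exact le_antisymm (this u hu) (by simpa [hu.du_du hσ h0] using this _ (hu.du (σ := σ) h0))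

theorem Par.realD_pair [Finite F] (P : Par σ ε κ τ) (hr : (r : F) ≠ 0) {u : F[X]} (hu : IrrD r u)
    {c : F} (hc : c ≠ 0) : RealD σ ε κ τ ({u} + {du σ r u}) (c * (σ c)⁻¹) := by
  have h0 : 0 < r := Nat.pos_of_ne_zero (by rintro rfl; simp at hr)
  obtain ⟨A, hA⟩ := hu.exists_gl h0
  obtain ⟨b, hb, -⟩ := exists_dual_end σ A
  obtain ⟨k, h1, h2⟩ := tyE_dual_aux P.invol hr (hermB_sep _) (hermB_sepR _) (b := b.toLinearMap)
    hb hu hA
  rw [hu.natDegree_du P.invol hr, mul_eq_right₀ hu.prim.natDegree_pos.ne'] at h2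
  obtain ⟨A', h3, rfl⟩ := exists_commute_det_of_irreducible (hA ▸ Multiset.mem_singleton_self u)
    hu.1 c
  obtain ⟨A', rfl⟩ := (Matrix.isUnit_iff_isUnit_det A').mpr hc.isUnit
  obtain ⟨b', hb', h4⟩ := exists_dual_end σ A'
  have h5 : Commute (Matrix.toLin' A.1) (Matrix.toLin' A'.1) := h3.map Matrix.toLinAlgEquiv'
  have := P.realD_hyp (hermB_sep _) (hermB_sepR _) (b := b.toLinearMap) (b' := b'.toLinearMap)
    hb hb' h5 (LinearMap.ext fun y => sub_eq_zero.mp (hermB_sepR (σ := σ) _ _ fun x => by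
      obtain ⟨x, rfl⟩ := (glEquiv _ F A).surjective x
      obtain ⟨x, rfl⟩ := (glEquiv _ F A').surjective x
      have e := LinearMap.congr_fun h5 x
      rw [map_sub, sub_eq_zero]
      exact ((hb _ _).trans (hb' _ _)).trans (((congrArg (hermB _ σ · (b' (b y))) e).trans
        ((hb' _ _).trans (hb _ _))).symm)))
  rwa [h1, h2, h4, LinearMap.det_toLin', show tyE (Matrix.toLin' A.1) = _ from hA] at this

theorem Par.realD_self [Finite F] (P : Par σ ε κ τ) (hr : 0 < r) {u : F[X]} (hu : IrrD r u)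
    (hd : du σ r u = u) (H : (∃ a, a + ε * σ a ≠ 0) ∨ σ = RingHom.id F ∧ ¬ u ∣ X ^ 2 - 1)
    {c : F} (hc : c ≠ 0) : RealD σ ε κ τ {u} (c * (σ c)⁻¹) := by
  have := Fact.mk hu.1
  have := finite_adjoinRoot hu.1.ne_zero
  have := finite_adjoinRoot' hu.1.ne_zero
  let x := AdjoinRoot.root u
  let θ : AdjoinRoot u →+* AdjoinRoot u := AdjoinRoot.lift ((AdjoinRoot.of u).comp σ) (x ^ (r - 1))
    (by rw [← eval₂_map, ← AdjoinRoot.algebraMap_eq, ← aeval_def, ← aeval_Th, AdjoinRoot.aeval_eq,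
      AdjoinRoot.mk_eq_zero, hu.dvd_Th hr, hd])
  have h1 : ∀ a, θ (AdjoinRoot.of u a) = AdjoinRoot.of u (σ a) := fun a => AdjoinRoot.lift_of _
  have h2 : θ x * x = 1 := by
    rw [show θ x = _ from AdjoinRoot.lift_root _, ← pow_succ, Nat.sub_add_cancel hr]
    exact (root_pow_eq_one_iff _ _).mpr hu.2.2
  have h5 : ∀ a, θ (θ a) = a := fun a => DFunLike.congr_fun (AdjoinRoot.ringHom_ext
    (f := θ.comp θ) (g := RingHom.id _) (RingHom.ext fun c => by simp [h1, P.invol])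
    (left_inv_eq_right_inv (by simpa using congrArg θ h2) h2)) a
  obtain ⟨l, z, h3, h4⟩ : ∃ (l : AdjoinRoot u →ₗ[F] F) (z : AdjoinRoot u), z ≠ 0 ∧
      l z + ε * σ (l (θ z)) ≠ 0 := by
    by_cases H' : ∃ a, a + ε * σ a ≠ 0
    · obtain ⟨a, ha⟩ := H'
      obtain ⟨l, hl⟩ := exists_dual_eq (one_ne_zero (α := AdjoinRoot u)) a
      exact ⟨l, 1, one_ne_zero, by simpa [hl]⟩
    · obtain ⟨rfl, h3⟩ := H.resolve_left H'
      obtain rfl : ε = -1 := by push Not at H'; simpa [add_eq_zero_iff_neg_eq, eq_comm (b := ε)] using H' 1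
      obtain ⟨l, hl⟩ := exists_dual_eq (z := x - θ x) (fun e => h3 ((root_pow_eq_one_iff _ _).mp
        (by linear_combination h2 + x * e))) (1 : F)
      exact ⟨l, x, right_ne_zero_of_mul_eq_one h2, by simp [← sub_eq_add_neg, ← map_sub, hl]⟩
  obtain ⟨y, rfl⟩ := FiniteField.norm_surjective F (AdjoinRoot u) c
  have hy : y ≠ 0 := by rintro rfl; simp at hc
  have h6 : Algebra.norm F (θ y) = σ (Algebra.norm F y) := by
    have := Algebra.norm_eq_of_equiv_equiv (RingEquiv.ofRingHom σ σ (RingHom.ext P.invol)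
      (RingHom.ext P.invol)) (RingEquiv.ofRingHom θ θ (RingHom.ext h5) (RingHom.ext h5))
      (RingHom.ext fun a => (h1 a).symm) y
    rw [this]; exact (P.invol _).symm
  have := P.realD_cyc hu.prim θ h1 h2 l (z := z) (fun a ha => ⟨a⁻¹ * z, by field_simp⟩) h4
    (w := y * (θ y)⁻¹) (by
      have : θ y ≠ 0 := by simpa
      rw [map_mul, map_inv₀, h5]; field_simp)
  rwa [map_mul, Algebra.norm_inv, h6] at this

open Classical in
/-- Multisets of factors of `X ^ r - 1` invariant under duality. -/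
def Inv (σ : F →+* F) (r : ℕ) (s : Multiset F[X]) : Prop :=
  (∀ u ∈ s, IrrD r u) ∧ ∀ u, IrrD r u → s.count (du σ r u) = s.count u

open Classical in
/-- The orbit of `u` under duality. -/
noncomputable def orb (σ : F →+* F) (r : ℕ) (u : F[X]) : Multiset F[X] :=
  if du σ r u = u then {u} else {u} + {du σ r u}

theorem inv_tyE {V : Type*} [AddCommGroup V] [Module F V] [FiniteDimensional F V]
    {B : V →ₛₗ[σ] V →ₗ[F] F} {Q : V → F} (h : IsForm ε κ τ B Q) (hB : B.SeparatingLeft)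
    (hr : (r : F) ≠ 0) (g : Isom B Q) (hg : g.1.toLinearMap ^ r = 1) :
    Inv σ r (tyE g.1.toLinearMap) :=
  ⟨fun _ => irrD_of_mem hr hg, fun u hu => Nat.eq_of_mul_eq_mul_right hu.prim.natDegree_pos (by
    rw [← count_du h.invol hr hB (fun _ => h.separatingRight hB) g.2.1 hg hu,
      hu.natDegree_du h.invol hr])⟩

theorem mem_orb {u v : F[X]} : v ∈ orb σ r u ↔ v = u ∨ v = du σ r u := by
  unfold orb; split_ifs with h <;> simp [h]

theorem IrrD.orb_du (hσ : ∀ a, σ (σ a) = a) (hr : 0 < r) {u : F[X]} (hu : IrrD r u) :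
    orb σ r (H10.du σ r u) = orb σ r u := by
  unfold orb
  rw [hu.du_du hσ hr]
  split_ifs with h1 h2 h2
  · rw [h2]
  · exact absurd h1.symm h2
  · exact absurd h2.symm h1
  · exact add_comm _ _

open Classical in
theorem IrrD.inv_orb (hσ : ∀ a, σ (σ a) = a) (hr : 0 < r) {u : F[X]} (hu : IrrD r u) :
    Inv σ r (orb σ r u) := by
  refine ⟨fun v hv => by rcases mem_orb.mp hv with rfl | rfl; exacts [hu, hu.du hr], fun v hv => ?_⟩
  have h1 : H10.du σ r v = u ↔ v = H10.du σ r u :=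
    ⟨fun e => by rw [← e, hv.du_du hσ hr], fun e => by rw [e, hu.du_du hσ hr]⟩
  have h2 : H10.du σ r v = H10.du σ r u ↔ v = u :=
    ⟨fun e => by rw [← hv.du_du hσ hr, e, hu.du_du hσ hr], fun e => by rw [e]⟩
  unfold orb
  split_ifs with h
  · rw [h] at h1
    simp only [Multiset.count_singleton, if_congr h1 rfl rfl]
  · simp only [Multiset.count_add, Multiset.count_singleton, if_congr h1 rfl rfl,
      if_congr h2 rfl rfl, add_comm]

theorem Inv.add {s t : Multiset F[X]} (h : Inv σ r s) (h' : Inv σ r t) : Inv σ r (s + t) :=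
  ⟨fun u hu => (Multiset.mem_add.mp hu).elim (h.1 u) (h'.1 u), fun u hu => by
    simp only [Multiset.count_add, h.2 u hu, h'.2 u hu]⟩

theorem Inv.step (hσ : ∀ a, σ (σ a) = a) (hr : 0 < r) {s : Multiset F[X]} (h : Inv σ r s) {u : F[X]}
    (hu : u ∈ s) : ∃ t, s = orb σ r u + t ∧ Inv σ r t := by
  classical
  obtain ⟨t, rfl⟩ : ∃ t, s = orb σ r u + t := Multiset.le_iff_exists_add.mp (by
    unfold orb
    split_ifs with h1
    · exact Multiset.singleton_le.mpr hu
    · exact (Multiset.cons_le_of_notMem (by simpa using Ne.symm h1)).mpr ⟨hu,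
        Multiset.singleton_le.mpr (Multiset.count_ne_zero.mp
          ((h.2 u (h.1 u hu)).trans_ne (Multiset.count_ne_zero.mpr hu)))⟩)
  refine ⟨t, rfl, fun v hv => h.1 v (by simp [hv]), fun v hv => ?_⟩
  have h1 := h.2 v hv
  have h2 := ((h.1 u hu).inv_orb hσ hr).2 v hv
  simp only [Multiset.count_add] at h1
  convert Nat.add_left_cancel (h2 ▸ h1 :)

theorem Inv.induction (hσ : ∀ a, σ (σ a) = a) (hr : 0 < r) {p : Multiset F[X] → Prop} (h0 : p 0)
    {s : Multiset F[X]} (h : Inv σ r s)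
    (h1 : ∀ u ∈ s, ∀ t, p t → p (orb σ r u + t)) : p s := by
  induction s using Multiset.strongInductionOn with
  | ih s ih =>
    rcases s.empty_or_exists_mem with rfl | ⟨u, hu⟩
    · exact h0
    · obtain ⟨t, rfl, ht⟩ := h.step hσ hr hu
      exact h1 u hu t (ih t (lt_add_of_pos_left t (pos_iff_ne_zero.mpr fun e =>
        Multiset.notMem_zero u (e ▸ mem_orb.mpr (.inl rfl))))
        ht fun v hv => h1 v (by simp [hv]))

/-- The condition for the existence of self-dual blocks. -/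
def Good (σ : F →+* F) (ε : F) (s : Multiset F[X]) : Prop :=
  (∃ a, a + ε * σ a ≠ 0) ∨ σ = RingHom.id F ∧ ∀ u ∈ s, ¬ u ∣ X ^ 2 - 1

theorem Par.realD_orb [Finite F] (P : Par σ ε κ τ) (hr : (r : F) ≠ 0) {s : Multiset F[X]}
    (H : Good σ ε s) {u : F[X]} (hu : IrrD r u) (hs : u ∈ s) {c : F} (hc : c ≠ 0) :
    RealD σ ε κ τ (orb σ r u) (c * (σ c)⁻¹) := by
  unfold orb
  split_ifs with h
  · exact P.realD_self (Nat.pos_of_ne_zero (by rintro rfl; simp at hr)) hu h
      (H.imp_right fun H => ⟨H.1, H.2 u hs⟩) hc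
  · exact P.realD_pair hr hu hc

theorem Par.real_inv [Finite F] (P : Par σ ε κ τ) (hr : (r : F) ≠ 0) {s : Multiset F[X]}
    (h : Inv σ r s) (H : Good σ ε s) : Real σ ε κ τ s :=
  h.induction P.invol (Nat.pos_of_ne_zero (by rintro rfl; simp at hr)) P.real_zero
    fun u hu _ ht => (P.realD_orb hr H (h.1 u hu) hu one_ne_zero).real.add ht

theorem realD_herm_inv [Finite F] (hσ : σ ≠ RingHom.id F) (hσ2 : ∀ a, σ (σ a) = a)
    (hr : (r : F) ≠ 0) {s : Multiset F[X]} (h : Inv σ r s) (h0 : s ≠ 0) {c : F}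
    (hc : σ c * c = 1) : RealD σ 1 1 (trHom σ) s c := by
  have H : ∀ s, Good σ 1 s := fun s => by
    obtain ⟨t, ht⟩ := exists_trace_eq hσ hσ2 (map_one σ)
    exact .inl ⟨t, by simp [ht]⟩
  obtain ⟨u, hu⟩ := Multiset.exists_mem_of_ne_zero h0
  obtain ⟨t, rfl, ht⟩ := h.step hσ2 (Nat.pos_of_ne_zero (by rintro rfl; simp at hr)) hu
  obtain ⟨a, h1, h2⟩ := exists_div_conj hσ hσ2 hc
  have := ((par_herm hσ2).realD_orb hr (H _) (h.1 u hu) hu h1).add
    ((par_herm hσ2).real_inv hr ht (H _)).realD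
  rwa [mul_one, show a * (σ a)⁻¹ = c from (mul_inv_eq_iff_eq_mul₀ (by simpa)).mpr h2.symm] at this

end Cfsg.Agent.H10
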