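import Mathlib
import Cfsg.Agent.H10.Wall2
import Cfsg.Agent.H11.Bridge2

/-! Involutions of symplectic and orthogonal groups in characteristic two: counts. -/

namespace Cfsg.Agent.H10

open Module H11

universe u

variable {F : Type*} [Field F]

theorem finrank_movS_of_mulVec {ι : Type*} [Fintype ι] [DecidableEq ι] {g : (ι → F) ≃ₗ[F] (ι → F)}
    {A : Matrix ι ι F} (h : ∀ v, g v = A.mulVec v) : finrank F (movS g) = (A - 1).rank := by
  have : movS g = LinearMap.range (A - 1).mulVecLin := by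
    ext v; simp [mem_movS, h, Matrix.sub_mulVec]
  rw [this, Matrix.rank]

theorem card_level_plus [Finite F] {c : F} (hc : c ≠ 0) (ν : ℕ) : ∀ {V : Type u} [AddCommGroup V]
    [Module F V] [FiniteDimensional F V] {B : V →ₗ[F] V →ₗ[F] F} {Q : V → F}, IsQuad B Q →
    B.SeparatingLeft → WittIdx B Q ν → finrank F V = 2 * ν →
    (Nat.card F : ℤ) * Nat.card {v : V // Q v = c} =
      (Nat.card F : ℤ) ^ (2 * ν) - (Nat.card F : ℤ) ^ ν := by
  induction ν with
  | zero =>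
    intro V _ _ _ B Q h hB hν hn
    have : IsEmpty {v : V // Q v = c} := ⟨fun v => hc (by
      rw [← v.2, finrank_zero_iff_forall_zero.mp hn v.1, h.map_zero])⟩
    simp
  | succ ν ih =>
    intro V _ _ _ B Q h hB hν hn
    obtain ⟨e, f, he, hf, hef⟩ := h.exists_pair_of_wittIdx hB hν
    have h1 := h.finrank_hperp hB he hf hef
    have := ih (h.restrict _) (h.separatingLeft_hperp hB he hf hef) (h.wittIdx_hperp hB he hf hef hν)
      (by omega)
    rw [(h.step_counts hB he hf hef (n := 2 * ν) (by omega)).1, this]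
    ring

variable {V : Type u} [AddCommGroup V] [Module F V] {B : V →ₗ[F] V →ₗ[F] F} {Q : V → F}

theorem map_movS {g g' k : V ≃ₗ[F] V} (hkg : ∀ v, k (g v) = g' (k v)) :
    (movS g).map k.toLinearMap = movS g' := by
  refine le_antisymm ?_ fun w hw => ?_
  · rintro _ ⟨w, hw, rfl⟩
    obtain ⟨x, rfl⟩ := mem_movS.mp hw
    exact mem_movS.mpr ⟨k x, by simp [hkg]⟩
  · obtain ⟨x, rfl⟩ := mem_movS.mp hw
    exact ⟨_, mem_movS.mpr ⟨k.symm x, rfl⟩, by simp [hkg]⟩

theorem map_movS_conj {σ : F →+* F} {B : V →ₛₗ[σ] V →ₗ[F] F} {g g' k : Isom B Q}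
    (h : k * g * k⁻¹ = g') : (movS g.1).map k.1.toLinearMap = movS g'.1 :=
  map_movS (LinearEquiv.congr_fun (congrArg Subtype.val (mul_inv_eq_iff_eq_mul.mp h)))

variable [FiniteDimensional F V]

theorem wittIdx_alt {B : LinearMap.BilinForm F V} (hA : B.IsAlt) (hB : B.SeparatingLeft) {m : ℕ}
    (hn : finrank F V = 2 * m) : WittIdx (σ := RingHom.id F) B (fun _ => 0) m := by
  have h := isForm_alt hA
  obtain ⟨W, hW, -⟩ := h.exists_maxTotSing_ge h.totSing_bot
  have h1 : perp B W ≤ W := fun x hx => hW.2 x rfl hx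
  have h2 := h.finrank_perp hB W
  have h3 := Submodule.finrank_mono h1
  have h4 := h.two_mul_finrank_le hB hW.1
  exact ⟨W, hW, by omega⟩

theorem card_fixSub_sup {σ : F →+* F} {ε κ : F} {τ : F →+ F} {B : V →ₛₗ[σ] V →ₗ[F] F}
    (h : IsForm ε κ τ B Q) (hB : B.SeparatingLeft) {H : Submodule F V} {u : V} (hu : u ∉ H) :
    Nat.card (fixSub B Q H) = Nat.card {v : V // v ∉ H ∧ Q v = Q u ∧ ∀ x ∈ H, B x v = B x u} *
      Nat.card (fixSub B Q (H ⊔ Submodule.span F {u})) := by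
  rw [card_eq_mul_of_fibers ((fixSub B Q (H ⊔ Submodule.span F {u})).subgroupOf (fixSub B Q H))
    (X := {v : V // v ∉ H ∧ Q v = Q u ∧ ∀ x ∈ H, B x v = B x u})
    (fun g => ⟨g.1.1 u, fun hm => hu (by rwa [← g.1.1.injective (g.2 _ hm)]), g.1.2.2 u,
      fun x hx => by rw [← g.1.2.1 x u, g.2 x hx]⟩) (fun a b => ?_) (fun v => ?_),
    Nat.card_congr (Subgroup.subgroupOfEquivOfLe (by rw [fixSub_sup]; exact inf_le_left)).toEquiv]
  · rw [Subgroup.mem_subgroupOf, fixSub_sup, Subgroup.mem_inf, mem_fixSub_span, Subtype.ext_iff]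
    simp only [SetLike.coe_mem, true_and, Set.mem_singleton_iff, forall_eq]
    exact eq_comm.trans a.1.1.symm_apply_eq.symm
  · obtain ⟨e, he, h1, h2⟩ := h.witt_step hB H hu v.2.1 v.2.2.1 v.2.2.2
    exact ⟨⟨⟨e, he⟩, h1⟩, Subtype.ext h2⟩

variable [Finite F]

theorem exists_perp_eq (h : IsQuad B Q) (hB : B.SeparatingLeft) {U : Submodule F V}
    (hU : TotSing B Q U) (hk : 2 * finrank F U + 2 ≤ finrank F V) (c : F) :
    ∃ u, (∀ x ∈ U, B x u = 0) ∧ Q u = c := by
  generalize hk' : finrank F U = k at hk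
  obtain ⟨e, f, hs, rfl⟩ := h.exists_hypSys_of_totSing hB hU hk'
  have h1 := hs.finrank_perp h hB
  obtain ⟨u, hu, hc⟩ := h.exists_eq_on (h.nondegOn_perp hB (hs.nondegOn h))
    (by rw [Fintype.card_fin] at h1; omega) c
  exact ⟨u, mem_perp_span.mpr (by rintro _ ⟨i, rfl⟩; exact (HypSys.mem_perp_iff.mp hu).1 i), hc⟩

theorem card_fixSub_plus (h : IsQuad B Q) (hB : B.SeparatingLeft) {m k : ℕ} (hν : WittIdx B Q m)
    (hn : finrank F V = 2 * m) {U : Submodule F V} (hU : TotSing B Q U) (hk : finrank F U = k) :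
    (Nat.card (fixSub B Q U) : ℤ) = Nat.card F ^ (k * (2 * m - 2 * k) + k * (k - 1) / 2) *
      if k = m then 1 else 2 * (Nat.card F : ℤ) ^ ((m - k) * (m - k - 1)) *
        ((Nat.card F : ℤ) ^ (m - k) - 1) *
        ∏ i ∈ Finset.range (m - k - 1), ((Nat.card F : ℤ) ^ (2 * (i + 1)) - 1) := by
  have hle := hk ▸ h.finrank_le_wittIdx hB hν hU
  obtain ⟨e, f, hs, rfl⟩ := h.exists_hypSys_of_totSing hB hU hk
  have h1 := hs.finrank_perp h hB
  rw [Fintype.card_fin] at h1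
  rw [h.card_fixSub_hypSys hB hs, IsQuad.card_ker_id, hn]
  split_ifs with hm
  · rw [card_isom_of_finrank_zero _ _ (by omega)]; simp
  · obtain ⟨j, rfl⟩ : ∃ j, m = j + 1 + k := ⟨m - k - 1, by omega⟩
    have := IsQuad.card_isom_plus j (h.restrict _)
      (nondegOn_iff.mp (h.nondegOn_perp hB (hs.nondegOn h)))
      (h.wittIdx_perp_hypSys hB hs (by simpa using hν)) (by omega)
    push_cast
    rw [this]; simp

theorem card_fixSub_nonsing (h : IsQuad B Q) (hB : B.SeparatingLeft) {j k : ℕ}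
    (hν : WittIdx B Q (j + 1 + k)) (hn : finrank F V = 2 * (j + 1 + k)) {U : Submodule F V}
    (hU : TotSing B Q U) (hk : finrank F U = k) {u : V} (hu : ∀ x ∈ U, B x u = 0) (hQ : Q u ≠ 0) :
    Nat.card (fixSub B Q (U ⊔ Submodule.span F {u})) =
      2 * Nat.card F ^ (k * (2 * j + 1) + k * (k - 1) / 2) * spO (Nat.card F) j := by
  have : Finite V := Module.finite_of_finite F
  have h0 := card_fixSub_plus h hB hν hn hU hk
  rw [card_fixSub_sup h hB (u := u) fun hm => hQ (hU.1 u hm), if_neg (by omega)] at h0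
  obtain ⟨e, f, hs, rfl⟩ := h.exists_hypSys_of_totSing hB hU hk
  have h1 := hs.finrank_perp h hB
  rw [Fintype.card_fin] at h1
  have h2 := card_level_plus hQ (j + 1) (h.restrict _)
    (nondegOn_iff.mp (h.nondegOn_perp hB (hs.nondegOn h)))
    (h.wittIdx_perp_hypSys hB hs (by simpa using hν)) (by omega)
  set P := perp B (Submodule.span F (Set.range (Sum.elim e f)))
  set U := Submodule.span F (Set.range e)
  have hP : ∀ y : P, ∀ x ∈ U, B x y = 0 := fun y => mem_perp_span.mpr (by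
    rintro _ ⟨i, rfl⟩; exact (HypSys.mem_perp_iff.mp y.2).1 i)
  have h3 : Nat.card {v : V // v ∉ U ∧ Q v = Q u ∧ ∀ x ∈ U, B x v = B x u} =
      Nat.card F ^ k * Nat.card {v : P // Q v = Q u} := by
    rw [← hk, ← Module.natCard_eq_pow_finrank, ← Nat.card_prod]
    have hq : ∀ (x : U) (y : P), Q (x + y) = Q y := fun x y => by
      rw [h.add', hU.1 _ x.2, hP y _ x.2]; simp
    refine (Nat.card_eq_of_bijective (fun p : U × {v : P // Q v = Q u} => ⟨p.1 + p.2.1,
      fun hm => hQ (by rw [← p.2.2, ← hq, hU.1 _ hm]), (hq _ _).trans p.2.2, fun x hx => by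
        rw [map_add, hU.2 x hx _ p.1.2, hP _ x hx, hu x hx, add_zero]⟩)
      ⟨fun p p' e => ?_, fun v => ?_⟩).symm
    · have e1 : (p.1 : V) + p.2.1 = p'.1 + p'.2.1 := congrArg Subtype.val e
      have e2 : (p.1 : V) - p'.1 = p'.2.1 - p.2.1 := by linear_combination (norm := abel) e1
      have e3 : (p.1 : V) - p'.1 = 0 := hs.nondegOn h _
        (Submodule.span_mono (by rintro _ ⟨i, rfl⟩; exact ⟨.inl i, rfl⟩) (sub_mem p.1.2 p'.1.2))
        fun y hy => by rw [e2, h.comm]; exact (sub_mem p'.2.1.2 p.2.1.2 : _ ∈ P) y hy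
      exact Prod.ext (Subtype.ext (sub_eq_zero.mp e3))
        (Subtype.ext (Subtype.ext (sub_eq_zero.mp (e2 ▸ e3)).symm))
    · obtain ⟨a, b, w, w1, w2, w3, w4⟩ := hs.exists_decomp h v.1
      have w5 : ∀ i, b i = 0 := fun i => by
        have := Submodule.subset_span (R := F) (Set.mem_range_self (f := e) i)
        rw [w4, v.2.2.2 _ this, hu _ this]
      simp only [w5, zero_smul, Finset.sum_const_zero, add_zero] at w3
      have w6 : ∑ i, a i • e i ∈ U := sum_mem fun i _ =>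
        U.smul_mem _ (Submodule.subset_span ⟨i, rfl⟩)
      exact ⟨(⟨_, w6⟩, ⟨⟨w, HypSys.mem_perp_iff.mpr ⟨w1, w2⟩⟩,
        (hq ⟨_, w6⟩ _).symm.trans (w3 ▸ v.2.2.1)⟩), Subtype.ext w3.symm⟩
  have hq : (1 : ℤ) < Nat.card F := by exact_mod_cast Finite.one_lt_card
  rw [h3] at h0
  zify
  rw [spO, Fin.prod_univ_eq_prod_range fun i => _ ^ (2 * (i + 1)) - 1, Nat.cast_mul,
    cast_prod_pow_sub_one _ _ Nat.card_pos]
  push_cast at h0 ⊢
  rw [show j + 1 + k - k = j + 1 by omega, show 2 * (j + 1 + k) - 2 * k = 2 * j + 2 by omega,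
    Nat.add_sub_cancel] at h0
  generalize (Nat.card F : ℤ) = q at *
  have h4 : q ^ (k + j + 1) * (q ^ (j + 1) - 1) ≠ 0 := mul_ne_zero (by positivity)
    (sub_ne_zero.mpr (one_lt_pow₀ hq (by omega)).ne')
  refine mul_left_cancel₀ h4 ?_
  linear_combination q * h0 - q ^ k * (Nat.card (fixSub B Q (U ⊔ Submodule.span F {u})) : ℤ) * h2

variable [CharP F 2]

theorem card_classes_alt {B : LinearMap.BilinForm F V} (hA : B.IsAlt) (hB : B.SeparatingLeft)
    {m : ℕ} (hn : finrank F V = 2 * m) :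
    Nat.card {C : ConjClasses (Isom (σ := RingHom.id F) B fun _ => 0) //
      ∃ g, ConjClasses.mk g = C ∧ orderOf g = 2} = m + m / 2 := by
  have T := two_alt hA hB
  refine T.card_classes hn (wittIdx_alt hA hB hn)
    (fun g hg _ => ⟨fun _ _ => rfl, T.movS_isotropic hg⟩) fun k hk => ?_
  obtain ⟨W, hW, rfl⟩ := wittIdx_alt hA hB hn
  obtain ⟨U, a1, rfl⟩ := exists_le_finrank_eq W hk.le
  obtain ⟨u, h1, h2⟩ := SetLike.exists_of_lt (Submodule.lt_of_le_of_finrank_lt_finrank a1 hk)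
  exact ⟨U, u, hW.1.mono a1, rfl, h2, fun x hx => hW.1.2 x (a1 hx) u h1, rfl⟩

omit [Finite F] [FiniteDimensional F V] in
theorem totSing_movS_iff (h : IsQuad B Q) (hB : B.SeparatingLeft) (g : Isom B Q) :
    TotSing B Q (movS g.1) ↔ AltT B g.1 := by
  rw [h.totSing_iff]
  exact ⟨fun H v => ((two_quad h hB).Q_movS g v).symm.trans (H _ (mem_movS.mpr ⟨v, rfl⟩)),
    fun H x hx => by
      obtain ⟨v, rfl⟩ := mem_movS.mp hx
      exact ((two_quad h hB).Q_movS g v).trans (H v)⟩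

theorem exists_nonalt_data (h : IsQuad B Q) (hB : B.SeparatingLeft) {m ν : ℕ}
    (hn : finrank F V = 2 * m) (hν : WittIdx B Q ν) : ∀ k < m, ∃ (U : Submodule F V) (u : V),
      TotSing B Q U ∧ finrank F U = k ∧ u ∉ U ∧ (∀ x ∈ U, B x u = 0) ∧ Q u = 1 := fun k hk => by
  have := h.finrank_le_wittIdx' hB hν
  obtain ⟨W, hW, rfl⟩ := hν
  obtain ⟨U, a1, rfl⟩ := exists_le_finrank_eq W (k := k) (by omega)
  obtain ⟨u, h1, h2⟩ := exists_perp_eq h hB (hW.1.mono a1) (by omega) 1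
  exact ⟨U, u, hW.1.mono a1, rfl, fun hm => one_ne_zero (h2.symm.trans (hW.1.1 u (a1 hm))), h1, h2⟩

theorem card_classes_quad (h : IsQuad B Q) (hB : B.SeparatingLeft) {m ν : ℕ}
    (hn : finrank F V = 2 * m) (hν : WittIdx B Q ν) :
    Nat.card {C : ConjClasses (Isom B Q) // ∃ g, ConjClasses.mk g = C ∧ orderOf g = 2} =
      m + ν / 2 :=
  (two_quad h hB).card_classes hn hν (fun g _ => (totSing_movS_iff h hB g).mpr)
    (exists_nonalt_data h hB hn hν)

theorem exists_comm_dick (h : IsQuad B Q) (hB : B.SeparatingLeft) {m : ℕ}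
    (hn : finrank F V = 2 * m) {g : Isom B Q} (hg : g * g = 1)
    (H : ¬ (finrank F (movS g.1) = m ∧ AltT B g.1)) :
    ∃ c : Isom B Q, c * g = g * c ∧ dick c.1 = 1 := by
  have T := two_quad h hB
  obtain ⟨v, h1, h2⟩ : ∃ v ∈ fixS g.1, Q v ≠ 0 := by
    by_cases ha : AltT B g.1
    · have := T.two_mul_rank_le hg
      obtain ⟨u, h1, h2⟩ := exists_perp_eq h hB ((totSing_movS_iff h hB g).mpr ha)
        (by simp [ha] at H; omega) 1
      exact ⟨u, h.perp_movS hB g.2 ▸ h1, by simp [h2]⟩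
    · rw [← totSing_movS_iff h hB, h.totSing_iff] at ha
      push Not at ha
      obtain ⟨v, h1, h2⟩ := ha
      exact ⟨v, T.movS_le_fixS hg h1, h2⟩
  refine ⟨h.reflO v, ?_, h.dick_reflO hB h2⟩
  rw [eq_comm, ← mul_inv_eq_iff_eq_mul, h.conj_reflO, mem_fixS.mp h1]

theorem exists_conj_omega (h : IsQuad B Q) (hB : B.SeparatingLeft) (hex : NonExc B Q) {m : ℕ}
    (hn : finrank F V = 2 * m) {g g' : Isom B Q} (hg : g * g = 1)
    (H : ¬ (finrank F (movS g.1) = m ∧ AltT B g.1)) (hc : IsConj g g') :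
    ∃ k ∈ commutator (Isom B Q), k * g * k⁻¹ = g' := by
  obtain ⟨c, h1, h2⟩ := exists_comm_dick h hB hn hg H
  obtain ⟨k, rfl⟩ := isConj_iff.mp hc
  simp only [h.mem_commutator_iff_of_char_two hB hex CharTwo.two_eq_zero]
  rcases (by decide : ∀ z : ZMod 2, z = 0 ∨ z = 1) (dick k.1) with h3 | h3
  · exact ⟨k, h3, rfl⟩
  · exact ⟨k * c, by rw [h.dick_mul hB, h2, h3]; rfl, by simp [mul_assoc, ← h1]; simp [← mul_assoc, h1]⟩

open Classical in
theorem card_cent_omega (h : IsQuad B Q) (hB : B.SeparatingLeft) (hex : NonExc B Q) {m : ℕ}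
    (hn : finrank F V = 2 * m) {g : Isom B Q} (hg : g * g = 1) :
    Nat.card (Subgroup.centralizer ({g} : Set (Isom B Q))) =
      (if finrank F (movS g.1) = m ∧ AltT B g.1 then 1 else 2) *
        Nat.card {x : commutator (Isom B Q) // x.1 * g = g * x.1} := by
  have e : Nat.card {x : commutator (Isom B Q) // x.1 * g = g * x.1} =
      Nat.card ((h.dickHom hB).comp (Subgroup.centralizer ({g} : Set (Isom B Q))).subtype).ker :=
    Nat.card_congr ⟨fun x => ⟨⟨x.1.1, Subgroup.mem_centralizer_singleton_iff.mpr x.2⟩,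
      h.dick_eq_zero_of_mem_commutator hB x.1.2⟩, fun x => ⟨⟨x.1.1,
        (h.mem_commutator_iff_of_char_two hB hex CharTwo.two_eq_zero _).mpr x.2⟩,
        Subgroup.mem_centralizer_singleton_iff.mp x.1.2⟩, fun _ => rfl, fun _ => rfl⟩
  rw [e, ← Subgroup.index_mul_card ((h.dickHom hB).comp (Subgroup.subtype _)).ker]
  congr 1
  split_ifs with H
  · rw [Subgroup.index_eq_one, eq_top_iff]
    intro k _
    have := h.dick_eq_finrank_inf hB hex hn ((totSing_movS_iff h hB g).mpr H.2) H.1 k.1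
    rw [map_movS_conj (mul_inv_eq_iff_eq_mul.mpr (Subgroup.mem_centralizer_singleton_iff.mp k.2)),
      inf_idem, H.1, CharTwo.add_self_eq_zero] at this
    exact this
  · obtain ⟨c, h1, h2⟩ := exists_comm_dick h hB hn hg H
    rw [Subgroup.index_ker, MonoidHom.range_eq_top.mpr fun z => ?_]
    · simp
    · rcases (by decide : ∀ z : Multiplicative (ZMod 2), z = 1 ∨ z = .ofAdd 1) z with rfl | rfl
      · exact ⟨1, map_one _⟩
      · exact ⟨⟨c, Subgroup.mem_centralizer_singleton_iff.mpr h1⟩, congrArg Multiplicative.ofAdd h2⟩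

theorem card_fixSub_movS_nonalt (h : IsQuad B Q) (hB : B.SeparatingLeft) {j k : ℕ}
    (hν : WittIdx B Q (j + 1 + k)) (hn : finrank F V = 2 * (j + 1 + k)) {g : Isom B Q}
    (hg : g * g = 1) (hk : finrank F (movS g.1) = k + 1) (ha : ¬ AltT B g.1) :
    Nat.card (fixSub B Q (movS g.1)) =
      2 * Nat.card F ^ (k * (2 * j + 1) + k * (k - 1) / 2) * spO (Nat.card F) j := by
  have T := two_quad h hB
  obtain ⟨π, χ, w, H, hw⟩ := T.exists_wall hg
  have hQ : ∀ a : movS g.1, Q a = χ w a * χ w a := fun a => by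
    rw [← hw.sq]; exact (H.quad h g.2 a).trans (CharTwo.neg_eq _)
  obtain ⟨u, hu⟩ : ∃ u, χ w u ≠ 0 := by
    by_contra hc
    push Not at hc
    exact ha ((T.wall_alt H hw).mp (hw.sep w hc))
  have h1 := ChV.finrank_ker ⟨u, hu⟩
  have h2 : finrank F ((LinearMap.ker (χ w)).map (movS g.1).subtype) = k := by
    rw [Submodule.finrank_map_subtype_eq]; omega
  have h3 : TotSing B Q ((LinearMap.ker (χ w)).map (movS g.1).subtype) := h.totSing_iff.mpr (by
    rintro _ ⟨a, ha, rfl⟩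
    exact (hQ a).trans (by rw [show χ w a = 0 from ha, mul_zero]))
  have h4 : Q u ≠ 0 := by rw [hQ]; exact mul_ne_zero hu hu
  rw [← card_fixSub_nonsing h hB hν hn h3 h2 (u := u) (by
    rintro _ ⟨a, -, rfl⟩; exact T.movS_isotropic hg _ a.2 _ u.2) h4]
  refine congrArg (fun U => Nat.card (fixSub B Q U)) ?_
  refine (Submodule.eq_of_le_of_finrank_eq (sup_le (Submodule.map_subtype_le _ _)
    ((Submodule.span_singleton_le_iff_mem _ _).mpr u.2)) ?_).symm
  rw [Submodule.finrank_sup_span_singleton fun hm => h4 (h3.1 _ hm), h2, hk]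

theorem dick_conj (h : IsQuad B Q) (hB : B.SeparatingLeft) (hex : NonExc B Q) {m : ℕ}
    (hn : finrank F V = 2 * m) {U : Submodule F V} (hU : TotSing B Q U) (hUm : finrank F U = m)
    {g g' k : Isom B Q} (h1 : finrank F (movS g.1) = m) (h2 : AltT B g.1) (hk : k * g * k⁻¹ = g') :
    dick k.1 = finrank F ↥(U ⊓ movS g.1) + finrank F ↥(U ⊓ movS g'.1) := by
  obtain ⟨a, ha, e⟩ := h.exists_map_eq_totSing hB hU ((totSing_movS_iff h hB g).mpr h2)
    (hUm.trans h1.symm)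
  have e1 := h.dick_eq_finrank_inf hB hex hn hU hUm ⟨a, ha⟩
  have e2 := h.dick_eq_finrank_inf hB hex hn hU hUm (k * ⟨a, ha⟩)
  rw [h.dick_mul hB, map_mul_isom, e1] at e2
  rw [show U.map ((⟨a, ha⟩ : Isom B Q).1 : V →ₗ[F] V) = movS g.1 from e,
    map_movS_conj hk] at e2
  linear_combination e2 - (finrank F ↥(U ⊓ movS g.1) : ZMod 2) * CharTwo.two_eq_zero (R := ZMod 2)

theorem card_classes_omega (h : IsQuad B Q) (hB : B.SeparatingLeft) (hex : NonExc B Q) {m ν : ℕ}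
    (hm : 1 ≤ m) (hn : finrank F V = 2 * m) (hν : WittIdx B Q ν) :
    Nat.card {C : ConjClasses (commutator (Isom B Q)) // ∃ g, ConjClasses.mk g = C ∧ orderOf g = 2} =
      m / 2 + ((m - 1) / 2 + if ν = m ∧ Even m then 2 else 0) := by
  have T := two_quad h hB
  have hΩ := h.mem_commutator_iff_of_char_two hB hex CharTwo.two_eq_zero
  have ho : ∀ g : commutator (Isom B Q), orderOf g = 2 ↔
      g.1 * g.1 = 1 ∧ finrank F (movS g.1.1) ≠ 0 := fun g => by
    rw [← Subgroup.orderOf_coe, orderOf_eq_prime_iff, pow_two, Ne, Ne, finrank_movS_eq_zero,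
      OneMemClass.coe_eq_one (x := g.1)]
  have hc : ∀ a b : commutator (Isom B Q), IsConj a b ↔
      ∃ k ∈ commutator (Isom B Q), k * a.1 * k⁻¹ = b.1 := fun a b => by
    simp [isConj_iff, Subtype.ext_iff (a2 := b)]
  have hc1 : ∀ a b : commutator (Isom B Q), a.1 * a.1 = 1 → b.1 * b.1 = 1 →
      (¬ (finrank F (movS a.1.1) = m ∧ AltT B a.1.1) ∨ ¬ (finrank F (movS b.1.1) = m ∧ AltT B b.1.1)) →
      (IsConj a b ↔ finrank F (movS a.1.1) = finrank F (movS b.1.1) ∧
        (AltT B a.1.1 ↔ AltT B b.1.1)) := fun a b ha hb H => by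
    rw [← T.isConj_iff ha hb]
    refine ⟨(Subgroup.subtype _).map_isConj, fun h1 => ?_⟩
    rcases H with H | H
    · exact (hc a b).mpr (exists_conj_omega h hB hex hn ha H h1)
    · exact ((hc b a).mpr (exists_conj_omega h hB hex hn hb H h1.symm)).symm
  have hl := h.finrank_le_wittIdx' hB hν
  have hl' := h.two_mul_wittIdx_le hB hν
  obtain ⟨U, hU, hUν⟩ := id hν
  simp only [ho]
  rw [card_classes_eq _ (Sum.elim
      (fun (i : Fin (m / 2)) g => finrank F (movS g.1.1) = 2 * (i + 1) ∧ ¬ AltT B g.1.1)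
      (Sum.elim
        (fun (j : Fin ((m - 1) / 2)) g => finrank F (movS g.1.1) = 2 * (j + 1) ∧ AltT B g.1.1)
        fun (z : {_z : ZMod 2 // ν = m ∧ Even m}) g => finrank F (movS g.1.1) = m ∧ AltT B g.1.1 ∧
          (finrank F ↥(U ⊓ movS g.1.1) : ZMod 2) = z.1))]
  · split_ifs with H <;> simp [H]
  · rintro g ⟨hg, h0⟩
    obtain ⟨k, hk⟩ := dick_eq_zero_iff.mp ((hΩ _).mp g.2)
    have := T.two_mul_rank_le hg
    by_cases ha : AltT B g.1.1
    · have := h.finrank_le_wittIdx hB hν ((totSing_movS_iff h hB _).mpr ha)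
      by_cases h1 : finrank F (movS g.1.1) = m
      · exact ⟨.inr (.inr ⟨_, by omega, k, by omega⟩), h1, ha, rfl⟩
      · exact ⟨.inr (.inl ⟨k - 1, by omega⟩), by simp; omega, ha⟩
    · exact ⟨.inl ⟨k - 1, by omega⟩, by simp; omega, ha⟩
  · rintro (i | j | ⟨z, rfl, k, hk⟩)
    · obtain ⟨U, u, a1, a2, a3, a4, a5⟩ := exists_nonalt_data h hB hn hν (2 * i + 1) (by omega)
      obtain ⟨g, b1, b2, b3⟩ := T.exists_invol_nonalt a1 a3 a4 a5
      exact ⟨⟨g, (hΩ g).mpr (dick_eq_zero_iff.mpr ⟨i + 1, by omega⟩)⟩, ⟨b1, by simp only; omega⟩,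
        by simp only; omega, b3⟩
    · obtain ⟨U, a1, a2⟩ := exists_le_finrank_eq U (k := 2 * (j + 1)) (by omega)
      obtain ⟨g, b1, rfl, b3⟩ := T.exists_invol_alt (hU.1.mono a1) a2
      exact ⟨⟨g, (hΩ g).mpr (dick_eq_zero_iff.mpr ⟨j + 1, by omega⟩)⟩, ⟨b1, by simp only; omega⟩, a2, b3⟩
    · obtain ⟨W, w1, w2, w3⟩ : ∃ W, TotSing B Q W ∧ finrank F W = ν ∧
          (finrank F ↥(U ⊓ W) : ZMod 2) = z := by
        have h0 : (ν : ZMod 2) = 0 := ZMod.natCast_eq_zero_iff_even.mpr ⟨k, hk⟩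
        rcases (by decide : ∀ z : ZMod 2, z = 0 ∨ z = 1) z with rfl | rfl
        · exact ⟨U, hU.1, hUν, by rw [inf_idem, hUν, h0]⟩
        · obtain ⟨a, ha⟩ := h.exists_eq hB (by omega) 1
          have := congrArg (Nat.cast : ℕ → ZMod 2)
            (h.finrank_inf_map_reflO hB hU.1 (by omega) (a := a) (by simp [ha]))
          refine ⟨_, hU.1.map_isom (h.reflO a).2, by rw [LinearEquiv.finrank_map_eq, hUν], ?_⟩
          rw [hUν, h0, Nat.cast_succ] at this
          linear_combination this - CharTwo.two_eq_zero (R := ZMod 2)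
      obtain ⟨g, b1, rfl, b3⟩ := T.exists_invol_alt w1 (k := k) (by omega)
      exact ⟨⟨g, (hΩ g).mpr (dick_eq_zero_iff.mpr ⟨k, by omega⟩)⟩, ⟨b1, by simp only; omega⟩, w2, b3, w3⟩
  · rintro (i | i | i) (j | j | j) a b ha hb ⟨h3, h4⟩ ⟨h5, h6⟩
    all_goals try (rw [hc1 a b ha.1 hb.1 (by simp [*] <;> omega)]; simp [*, Fin.ext_iff] <;> omega)
    have hz : ∀ k : Isom B Q, k * a.1 * k⁻¹ = b.1 → (k ∈ commutator (Isom B Q) ↔ i.1 = j.1) :=
      fun k hk => by
        rw [hΩ, dick_conj h hB hex hn hU.1 (hUν.trans i.2.1) h3 h4.1 hk, h4.2, h6.2,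
          CharTwo.add_eq_zero]
    simp only [hc, Sum.inr.injEq, Subtype.ext_iff (a1 := i)]
    refine ⟨fun ⟨k, h1, h2⟩ => (hz k h2).mp h1, fun h1 => ?_⟩
    obtain ⟨k, hk⟩ := isConj_iff.mp ((T.isConj_iff ha.1 hb.1).mpr ⟨h3.trans h5.symm, by simp [*]⟩)
    exact ⟨k, (hz k hk).mpr h1, hk⟩

end Cfsg.Agent.H10
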