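import Mathlib
import Cfsg.Agent.H10.Real3
import Cfsg.Agent.H10.Wall3
import Cfsg.Agent.H11.OLang

/-! Counting the classes of elements of prime order in classical groups. -/

namespace Cfsg.Agent.H10

open Module Polynomial H11 L0

section count
variable {β : Type*} [Finite β]

instance finite_multiset_eq (k : ℕ) : Finite {m : Multiset β // m.card = k} := by
  classical
  have := Fintype.ofFinite β
  exact inferInstanceAs (Finite (Sym β k))

theorem card_multiset_eq (k : ℕ) :
    Nat.card {m : Multiset β // m.card = k} = (Nat.card β + k - 1).choose k := by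
  classical
  have := Fintype.ofFinite β
  rw [Nat.card_eq_fintype_card (α := β), ← Sym.card_sym_eq_choose, ← Nat.card_eq_fintype_card]; rfl

theorem card_or {α : Type*} {p q s : α → Prop} [Finite {a // p a}] [Finite {a // q a}]
    (h : ∀ a, s a ↔ p a ∨ q a) (hd : ∀ a, p a → ¬ q a) : Finite {a // s a} ∧
    Nat.card {a // s a} = Nat.card {a // p a} + Nat.card {a // q a} := by
  classical
  let e := (Equiv.subtypeEquivRight h).trans (subtypeOrEquiv p q
    (Pi.disjoint_iff.mpr fun a => Prop.disjoint_iff.mpr fun h => hd a h.1 h.2))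
  exact ⟨Finite.of_equiv _ e.symm, by rw [Nat.card_congr e, Nat.card_sum]⟩

theorem card_multiset_le (k : ℕ) : Finite {m : Multiset β // m.card ≤ k} ∧
    Nat.card {m : Multiset β // m.card ≤ k} = (k + Nat.card β).choose (Nat.card β) := by
  induction k with
  | zero => simp only [Nat.le_zero]; exact ⟨inferInstance, by simp [card_multiset_eq]⟩
  | succ k ih =>
    have := ih.1
    obtain ⟨h1, h2⟩ := card_or (s := fun m : Multiset β => m.card ≤ k + 1) (p := (·.card ≤ k))
      (q := (·.card = k + 1)) (fun _ => by omega) fun _ => by omega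
    refine ⟨h1, ?_⟩
    rw [h2, ih.2, card_multiset_eq, Nat.choose_symm_add.symm, Nat.choose_symm_add.symm,
      show k + 1 + Nat.card β = k + Nat.card β + 1 by omega, Nat.choose_succ_succ',
      show Nat.card β + (k + 1) - 1 = k + Nat.card β by omega]

theorem card_mul_le {D : ℕ} (hD : 0 < D) (n : ℕ) :
    Nat.card {m : Multiset β // D * m.card ≤ n} = (n / D + Nat.card β).choose (Nat.card β) := by
  simp only [← (card_multiset_le _).2, Nat.le_div_iff_mul_le hD, mul_comm]

theorem card_mul_lt {D : ℕ} (hD : 0 < D) (hβ : 0 < Nat.card β) (n : ℕ) :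
    Nat.card {m : Multiset β // D * m.card < n} + (if D ∣ n then (n / D + Nat.card β - 1).choose
      (Nat.card β - 1) else 0) = (n / D + Nat.card β).choose (Nat.card β) := by
  rw [← card_mul_le hD]
  split_ifs with h
  · obtain ⟨k, rfl⟩ := h
    have := (card_multiset_le (β := β) k).1
    have : Finite {m : Multiset β // D * m.card < D * k} := Finite.of_injective
      (Subtype.map id fun m hm => (Nat.lt_of_mul_lt_mul_left hm).le :
        _ → {m : Multiset β // m.card ≤ k}) (Subtype.map_injective _ Function.injective_id)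
    rw [(card_or (p := fun m : Multiset β => D * m.card < D * k) (q := (·.card = k))
      (s := fun m => D * m.card ≤ D * k) (fun m => by rw [le_iff_lt_or_eq, mul_right_inj' hD.ne']) fun m h e => by simp [e] at h).2,
      card_multiset_eq, Nat.mul_div_cancel_left _ hD, add_comm (Nat.card β),
      Nat.choose_symm_of_eq_add (b := k) (by omega)]
  · exact Nat.card_congr (Equiv.subtypeEquivRight fun m =>
      ⟨le_of_lt, fun e => lt_of_le_of_ne e fun e' => h ⟨_, e'.symm⟩⟩)

end count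

universe u
variable {F : Type u} [Field F] {σ : F →+* F} {ε κ : F} {τ : F →+ F} {r : ℕ}
  {V : Type*} [AddCommGroup V] [Module F V] [FiniteDimensional F V]

open Classical in
theorem eq_filter_add (s : Multiset F[X]) :
    s = s.filter (· ≠ X - 1) + Multiset.replicate (s.count (X - 1)) (X - 1) := by
  rw [← Multiset.filter_eq', add_comm, Multiset.filter_add_not]

open Classical in
theorem card_classes_core {G : Type*} [Group G] [Finite G] (ρ : G →* End F V)
    (hρ : Function.Injective ρ) (hr : r.Prime)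
    (hc : ∀ g g', g ^ r = 1 → tyE (ρ g) = tyE (ρ g') → IsConj g g') {I : Type*}
    (f : I → Multiset F[X]) (hf : Function.Injective f)
    (h0 : ∀ i, ∀ u ∈ f i, u ∣ X ^ r - 1 ∧ u ≠ X - 1)
    (h1 : ∀ g, g ^ r = 1 → ∃ i, (tyE (ρ g)).filter (· ≠ X - 1) = f i)
    (h2 : ∀ i, ∃ g k, tyE (ρ g) = f i + Multiset.replicate k (X - 1)) :
    Nat.card {C : ConjClasses G // ∃ g, ConjClasses.mk g = C ∧ orderOf g = r} + 1 = Nat.card I := by
  have := Fact.mk hr
  rw [← card_classes_eq (fun g => g ^ r = 1) (fun i g => (tyE (ρ g)).filter (· ≠ X - 1) = f i) h1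
    (fun i => ?_) fun i j a b ha hb e1 e2 => ⟨fun h => hf ?_, fun h => hc a b ha ?_⟩,
    (card_or (p := fun C : ConjClasses G => ∃ g, ConjClasses.mk g = C ∧ orderOf g = r)
      (s := fun C => ∃ g, ConjClasses.mk g = C ∧ g ^ r = 1)
      (q := (· = 1)) (fun C => ⟨?_, ?_⟩) ?_).2, Nat.card_unique (α := {C // C = 1})]
  · rintro _ ⟨g, rfl, hg⟩ e
    rw [isConj_one_left.mp (ConjClasses.mk_eq_mk_iff_isConj.mp e), orderOf_one] at hg
    exact hr.one_lt.ne hg
  · rintro ⟨g, rfl, hg⟩
    by_cases e : g = 1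
    · exact .inr (e ▸ rfl)
    · exact .inl ⟨g, rfl, orderOf_eq_prime hg e⟩
  · rintro (⟨g, rfl, hg⟩ | rfl)
    · exact ⟨g, rfl, hg ▸ pow_orderOf_eq_one g⟩
    · exact ⟨1, rfl, one_pow _⟩
  · obtain ⟨g, k, h⟩ := h2 i
    refine ⟨g, hρ ?_, ?_⟩
    · rw [map_pow, map_one, pow_eq_one_iff_tyE, h]
      intro u hu
      rcases Multiset.mem_add.mp hu with hu | hu
      · exact (h0 i u hu).1
      · exact Multiset.eq_of_mem_replicate hu ▸ irrD_X_sub_one.2.2
    · rw [h, Multiset.filter_add, Multiset.filter_eq_self.mpr fun u hu => (h0 i u hu).2,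
        Multiset.filter_eq_nil.mpr fun u hu => by simp [Multiset.eq_of_mem_replicate hu], add_zero]
  · obtain ⟨k, rfl⟩ := isConj_iff.mp h
    rw [← e1, ← e2, tyE_congr (g := ρ (k * a * k⁻¹)) (LinearEquiv.ofLinearMap (ρ k) (ρ k⁻¹)
      (by rw [← End.mul_eq_comp, ← map_mul, mul_inv_cancel, map_one]; rfl)
      (by rw [← End.mul_eq_comp, ← map_mul, inv_mul_cancel, map_one]; rfl)) fun v => by
        simp [← End.mul_apply, ← map_mul]]
  · have h3 := (finrank_eq_sum_tyE (ρ a)).symm.trans (finrank_eq_sum_tyE (ρ b))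
    rw [eq_filter_add (tyE (ρ a)), eq_filter_add (tyE (ρ b)), e1, e2, h] at h3 ⊢
    simp only [Multiset.map_add, Multiset.sum_add, Multiset.map_replicate, Multiset.sum_replicate,
      natDegree_X_sub_one, smul_eq_mul, mul_one, add_right_inj] at h3
    rw [h3]

/-- Non-trivial irreducible factors of `X ^ r - 1`. -/
def PF (F : Type u) [Field F] (r : ℕ) : Type u := {u : F[X] // IrrD r u ∧ u ≠ X - 1}

theorem card_PF [Finite F] (hr : r.Prime) (h0 : (r : F) ≠ 0) : Finite (PF F r) ∧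
    Nat.card (PF F r) * orderOf ((Nat.card F : ℕ) : ZMod r) = r - 1 := by
  classical
  obtain ⟨s, h1, h2⟩ := exists_multiset_prod_eq (monic_X_pow_sub_C (1 : F) hr.ne_zero)
  rw [C_1] at h2
  have h3 : s.Nodup := Multiset.nodup_iff_le.mpr fun a ha =>
    (h1 a (Multiset.mem_of_le ha (by simp))).1.not_isUnit
      ((X_pow_sub_one_separable_iff.mpr h0).squarefree a
        (by simpa [h2] using Multiset.prod_dvd_prod_of_le ha))
  have h4 : ∀ u, IrrD r u ↔ u ∈ s := fun u => ⟨fun hu => by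
    obtain ⟨v, hv, h⟩ := hu.1.prime.exists_mem_multiset_dvd (h2 ▸ hu.2.2)
    rwa [eq_of_monic_of_associated hu.2.1 (h1 v hv).2 (hu.1.associated_of_dvd (h1 v hv).1 h)],
    fun hu => ⟨(h1 u hu).1, (h1 u hu).2, h2 ▸ Multiset.dvd_prod hu⟩⟩
  have e : PF F r ≃ (s.toFinset.erase (X - 1)) := Equiv.subtypeEquivRight fun u => by
    simp [h4, and_comm]
  refine ⟨Finite.of_equiv _ e.symm, ?_⟩
  have h5 := congrArg natDegree h2
  rw [natDegree_multiset_prod_of_monic _ fun u hu => (h1 u hu).2, ← C_1, natDegree_X_pow_sub_C,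
    ← h3.dedup, ← Multiset.toFinset_val, ← Finset.sum_eq_multiset_sum, ← Finset.add_sum_erase _ _
      (Multiset.mem_toFinset.mpr ((h4 _).mp irrD_X_sub_one)), natDegree_X_sub_one,
    Finset.sum_const_nat fun u hu => by
      have := e.symm ⟨u, hu⟩
      have hu := Finset.mem_erase.mp hu
      have h6 := (h4 u).mpr (Multiset.mem_toFinset.mp hu.2)
      exact natDegree_eq_orderOf_of_prime h6.1 h6.2.1 hr h6.2.2 hu.1] at h5
  rw [Nat.card_congr e, Nat.card_eq_finsetCard]
  omega

theorem IrrD.du_ne (hσ : ∀ a, σ (σ a) = a) (hr : 0 < r) {u : F[X]} (hu : IrrD r u)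
    (h : u ≠ X - 1) : H10.du σ r u ≠ X - 1 := fun e =>
  h (by rw [← hu.du_du hσ hr, e, du_X_sub_one hr])

open Classical in
/-- Representatives of the duality orbits. -/
theorem exists_blocks [Finite F] (hσ : ∀ a, σ (σ a) = a) (hr : r.Prime) (h0 : (r : F) ≠ 0) :
    ∃ (β : Type u) (_ : Finite β) (j : β → F[X]), (∀ b, IrrD r (j b) ∧ j b ≠ X - 1) ∧
      (Function.Injective fun m : Multiset β => m.bind fun b => orb σ r (j b)) ∧
      (∀ s, Inv σ r s → ∃ m : Multiset β, s.filter (· ≠ X - 1) = m.bind fun b => orb σ r (j b)) ∧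
      ((∀ u : PF F r, du σ r u.1 = u.1) → Nat.card β = Nat.card (PF F r)) ∧
      ((∀ u : PF F r, du σ r u.1 ≠ u.1) → 2 * Nat.card β = Nat.card (PF F r)) := by
  let : LinearOrder F[X] := linearOrderOfSTO WellOrderingRel
  have := (card_PF hr h0).1
  have h1 := hr.pos
  refine ⟨{u : PF F r // u.1 ≤ du σ r u.1}, inferInstance, fun b => b.1.1, fun b => b.1.2,
    fun m m' e => Multiset.ext' fun b => ?_, fun s hs => ?_, fun h => ?_, fun h => ?_⟩
  · have : ∀ m : Multiset {u : PF F r // u.1 ≤ du σ r u.1},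
        (m.bind fun b => orb σ r b.1.1).count b.1.1 = m.count b := fun m => by
      induction m using Multiset.induction_on with
      | empty => simp
      | cons a m ih =>
        rw [Multiset.cons_bind, Multiset.count_add, ih, Multiset.count_cons, add_comm]
        congr 1
        unfold orb
        split_ifs with h2 h3 h3
        · simp [h3]
        · exact Multiset.count_eq_zero.mpr fun h4 =>
            h3 (Subtype.ext (Subtype.ext (Multiset.mem_singleton.mp h4)))
        · simp [h3, Ne.symm h2]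
        · refine Multiset.count_eq_zero.mpr fun h4 => ?_
          rcases Multiset.mem_add.mp h4 with h4 | h4 <;> rw [Multiset.mem_singleton] at h4
          · exact h3 (Subtype.ext (Subtype.ext h4))
          · have := b.2
            rw [h4, a.1.2.1.du_du hσ h1] at this
            exact h2 (le_antisymm this a.2)
    rw [← this, ← this]
    exact congrArg _ e
  · refine hs.induction hσ h1 (p := fun s => ∃ m : Multiset {u : PF F r // u.1 ≤ du σ r u.1},
      s.filter (· ≠ X - 1) = m.bind fun b => orb σ r b.1.1) ⟨0, by simp⟩ ?_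
    rintro u hu t ⟨m, hm⟩
    have h2 := hs.1 u hu
    rw [Multiset.filter_add, hm]
    by_cases h3 : u = X - 1
    · exact ⟨m, by simp [h3, orb, du_X_sub_one h1]⟩
    rw [Multiset.filter_eq_self.mpr fun v hv => by
      rcases mem_orb.mp hv with rfl | rfl; exacts [h3, h2.du_ne hσ h1 h3]]
    rcases le_total u (du σ r u) with h4 | h4
    · exact ⟨⟨⟨u, h2, h3⟩, h4⟩ ::ₘ m, by simp⟩
    · exact ⟨⟨⟨_, h2.du h1, h2.du_ne hσ h1 h3⟩, by rwa [h2.du_du hσ h1]⟩ ::ₘ m, by
        simp [h2.orb_du hσ h1]⟩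
  · exact Nat.card_congr (Equiv.subtypeUnivEquiv fun u => (h u).ge)
  · rw [← Nat.card_congr (Equiv.subtypeUnivEquiv (p := fun _ : PF F r => True) fun _ => trivial),
      (card_or (p := fun u : PF F r => u.1 ≤ du σ r u.1) (q := fun u => du σ r u.1 ≤ u.1)
        (s := fun _ => True) (fun u => by simp [le_total]) fun u h2 h3 => h u (le_antisymm h3 h2)).2, two_mul]
    congr 1
    let d : PF F r → PF F r := fun u => ⟨_, u.2.1.du h1, u.2.1.du_ne hσ h1 u.2.2⟩
    have hd : Function.Involutive d := fun u => Subtype.ext (u.2.1.du_du hσ h1)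
    exact Nat.card_congr (hd.toPerm.subtypeEquiv fun u => by
      show _ ↔ du σ r (du σ r u.1) ≤ du σ r u.1
      rw [u.2.1.du_du hσ h1])

theorem du_eq_iff [Finite F] (hσ : ∀ a, σ (σ a) = a) {p k : ℕ} [Fact p.Prime] [CharP F p]
    (he : ∀ a, σ a = a ^ p ^ k) (hr : r.Prime) (u : PF F r) :
    du σ r u.1 = u.1 ↔ ∃ j, ((Nat.card F ^ j * p ^ k : ℕ) : ZMod r) = -1 := by
  obtain ⟨u, hu, h1⟩ := u
  have := Fact.mk hu.1
  have := finite_adjoinRoot hu.1.ne_zero
  have := finite_adjoinRoot' hu.1.ne_zero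
  have := Fintype.ofFinite F
  have : CharP (AdjoinRoot u) p := charP_of_injective_algebraMap (algebraMap F _).injective p
  let x := AdjoinRoot.root u
  have h2 : orderOf x = r := orderOf_root_eq_prime hu.1 hu.2.1 hr hu.2.2 h1
  have h3 : ∀ a b : ℕ, x ^ a = x ^ b ↔ (a : ZMod r) = b := fun a b => by
    rw [(orderOf_pos_iff.mp (h2 ▸ hr.pos)).pow_eq_pow_iff_modEq, h2, ZMod.natCast_eq_natCast_iff]
  have h4 : ((r - 1 : ℕ) : ZMod r) = -1 := by simp [Nat.cast_sub hr.pos]
  have h5 : du σ r u = u ↔ aeval (x ^ (r - 1)) (u.map σ) = 0 := by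
    rw [← aeval_Th, AdjoinRoot.aeval_eq, AdjoinRoot.mk_eq_zero, hu.dvd_Th hr.pos]
    exact ⟨fun e => e.dvd, (hu.du hr.pos).eq_of_dvd hu⟩
  have h6 : ∀ a, iterateFrobenius (AdjoinRoot u) p k (algebraMap F _ a) = algebraMap F _ (σ a) :=
    fun a => by simp [iterateFrobenius_def, he]
  have h7 : ∀ j y, (FiniteField.frobeniusAlgHom F (AdjoinRoot u) ^ j) y = y ^ Nat.card F ^ j :=
    fun j y => by rw [AlgHom.coe_pow, FiniteField.coe_frobeniusAlgHom, pow_iterate,
      Nat.card_eq_fintype_card]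
  rw [h5]
  constructor
  · intro h
    let θ : AdjoinRoot u →+* AdjoinRoot u := AdjoinRoot.lift ((AdjoinRoot.of u).comp σ)
      (x ^ (r - 1)) (by rwa [← eval₂_map, ← AdjoinRoot.algebraMap_eq, ← aeval_def])
    obtain ⟨j, hj⟩ := (FiniteField.bijective_frobeniusAlgHom_pow F (AdjoinRoot u)).2
      ⟨(iterateFrobenius _ p k).comp θ, fun a => by
        show iterateFrobenius _ p k (θ (AdjoinRoot.of u a)) = _
        rw [show θ (AdjoinRoot.of u a) = algebraMap F _ (σ a) from AdjoinRoot.lift_of _, h6, hσ]⟩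
    have h8 : x ^ Nat.card F ^ j.1 = iterateFrobenius _ p k (θ x) :=
      (h7 j x).symm.trans (DFunLike.congr_fun hj x)
    rw [show θ x = _ from AdjoinRoot.lift_root _, iterateFrobenius_def, ← pow_mul, h3, Nat.cast_mul,
      h4] at h8
    have := Fact.mk hr
    have h9 : ((Nat.card F ^ j.1 : ℕ) : ZMod r) ≠ 0 := fun e => h1 (eq_X_sub_one_of_dvd hu.1 hu.2.1
      (by
        have h10 := (h3 _ 0).mpr (e.trans Nat.cast_zero.symm)
        rw [← h7, pow_zero, ← map_one (FiniteField.frobeniusAlgHom F (AdjoinRoot u) ^ j.1)] at h10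
        simpa using (root_pow_eq_one_iff u 1).mp ((pow_one _).trans (RingHom.injective _ h10))))
    refine ⟨j * (r - 2), ?_⟩
    have h10 := ZMod.pow_card_sub_one_eq_one h9
    rw [show r - 1 = r - 2 + 1 by have := hr.two_le; omega, pow_succ] at h10
    rw [Nat.cast_mul, pow_mul, Nat.cast_pow]
    linear_combination ((Nat.card F ^ j.1 : ℕ) : ZMod r) ^ (r - 2) * h8 - h10
  · rintro ⟨j, hj⟩
    rw [(h3 _ _).mpr (h4.trans hj.symm), mul_comm, pow_mul, ← h7, aeval_algHom_apply,
      ← iterateFrobenius_def, ← map_aeval_eq_aeval_map (RingHom.ext fun a => (h6 a).symm),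
      AdjoinRoot.aeval_eq, AdjoinRoot.mk_self, map_zero, map_zero]

theorem pow_eq_neg_one_iff [Fact r.Prime] (h2 : r ≠ 2) (x : ZMod r) (k : ℕ) :
    x ^ k = -1 ↔ orderOf x ∣ 2 * k ∧ ¬ orderOf x ∣ k := by
  have : Fact (2 < r) := ⟨lt_of_le_of_ne (Fact.out : r.Prime).two_le h2.symm⟩
  rw [orderOf_dvd_iff_pow_eq_one, orderOf_dvd_iff_pow_eq_one, pow_mul', sq_eq_one_iff]
  exact ⟨fun h => ⟨.inr h, h ▸ ZMod.neg_one_ne_one⟩, fun h => h.1.resolve_left h.2⟩

theorem exists_pow_eq_neg_one_iff [Fact r.Prime] (h2 : r ≠ 2) {x : ZMod r} (hx : 0 < orderOf x) :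
    ((∃ j, x ^ j = -1) ↔ Even (orderOf x)) ∧ ((∃ j, x ^ (2 * j + 1) = -1) ↔ orderOf x % 4 = 2) := by
  simp only [pow_eq_neg_one_iff h2]
  generalize orderOf x = i at hx
  have h1 : ∀ j, i ∣ 2 * j → ¬ i ∣ j → Even i := fun j h h' => by_contra fun e =>
    h' ((Nat.coprime_two_right.mpr (Nat.not_even_iff_odd.mp e)).dvd_of_dvd_mul_left h)
  refine ⟨⟨fun ⟨j, h, h'⟩ => h1 j h h', fun ⟨k, hk⟩ => ⟨k, (hk.trans (two_mul k).symm).dvd,
    fun h => by have := Nat.le_of_dvd (by omega) h; omega⟩⟩, fun ⟨j, h, h'⟩ => ?_,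
    fun h => ⟨i / 4, (by omega : i = _).dvd, fun h => by have := Nat.le_of_dvd (by omega) h; omega⟩⟩
  obtain ⟨k, rfl⟩ := (h1 _ h h').two_dvd
  obtain ⟨l, hl⟩ := Odd.of_dvd_nat (odd_two_mul_add_one j) (Nat.dvd_of_mul_dvd_mul_left two_pos h)
  omega

variable [Finite F] {B : V →ₛₗ[σ] V →ₗ[F] F} {Q : V → F}

omit [Finite F] [FiniteDimensional F V] in
theorem isom_pow_coe (g : Isom B Q) (k : ℕ) : (g ^ k).1.toLinearMap = g.1.toLinearMap ^ k :=
  map_pow (LinearEquiv.automorphismGroup.toLinearMapMonoidHom.comp (Isom B Q).subtype) g k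

open Classical in
theorem card_classes_form (h : IsForm ε κ τ B Q) (P : Par σ ε κ τ) (hB : B.SeparatingLeft)
    (hr : r.Prime) (h2 : r ≠ 2) (h0 : (r : F) ≠ 0)
    (hG : (∃ a, a + ε * σ a ≠ 0) ∨ σ = RingHom.id F) (c : Prop) [Decidable c] {D t : ℕ}
    (hD : (∀ u : PF F r, du σ r u.1 = u.1) ∧ D = orderOf ((Nat.card F : ℕ) : ZMod r) ∧
        t = Nat.card (PF F r) ∨ (∀ u : PF F r, du σ r u.1 ≠ u.1) ∧
        D = 2 * orderOf ((Nat.card F : ℕ) : ZMod r) ∧ t = Nat.card (PF F r) / 2)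
    (H1 : ∀ g : Isom B Q, g.1.toLinearMap ^ r = 1 → X - 1 ∉ tyE g.1.toLinearMap → c)
    (H2 : ∀ s, Real σ ε κ τ s → (∀ u ∈ s, u ∣ X ^ r - 1 ∧ u ≠ X - 1) → D ∣ (s.map natDegree).sum →
      (s.map natDegree).sum ≤ finrank F V → ((s.map natDegree).sum = finrank F V → c) →
      ∃ k, RealIn B Q (s + Multiset.replicate k (X - 1))) :
    Nat.card {C : ConjClasses (Isom B Q) // ∃ g, ConjClasses.mk g = C ∧ orderOf g = r} + 1 +
      (if ¬ c ∧ D ∣ finrank F V then (finrank F V / D + t - 1).choose (t - 1) else 0) =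
      (finrank F V / D + t).choose t := by
  obtain ⟨β, _, j, b1, b2, b3, b4, b5⟩ := exists_blocks h.invol hr h0
  have h3 := (card_PF hr h0).2
  have h4 := hr.two_le
  have h5 : 0 < Nat.card (PF F r) := Nat.pos_of_ne_zero fun e => by rw [e] at h3; omega
  have h6 : 0 < orderOf ((Nat.card F : ℕ) : ZMod r) :=
    Nat.pos_of_ne_zero fun e => by rw [e] at h3; omega
  have h7 : ∀ u : F[X], IrrD r u → u ≠ X - 1 → u.natDegree = _ := fun u hu e =>
    natDegree_eq_orderOf_of_prime hu.1 hu.2.1 hr hu.2.2 e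
  obtain ⟨rfl, c2, c3, c4⟩ : t = Nat.card β ∧ 0 < t ∧ 0 < D ∧
      ∀ b, ((orb σ r (j b)).map natDegree).sum = D := by
    rcases hD with ⟨d1, rfl, rfl⟩ | ⟨d1, rfl, rfl⟩
    · exact ⟨(b4 d1).symm, h5, h6, fun b => by simp [orb, d1 ⟨_, b1 b⟩, h7 _ (b1 b).1 (b1 b).2]⟩
    · have := b5 d1
      exact ⟨by omega, by omega, by omega, fun b => by
        simp [orb, d1 ⟨_, b1 b⟩, h7 _ (b1 b).1 (b1 b).2, (b1 b).1.natDegree_du h.invol h0, two_mul]⟩
  have c5 : ∀ m : Multiset β, ((m.bind fun b => orb σ r (j b)).map natDegree).sum = D * m.card :=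
    fun m => by simp [Multiset.map_bind, Multiset.sum_bind, c4, mul_comm]
  have c6 : ∀ (m : Multiset β), ∀ u ∈ m.bind fun b => orb σ r (j b), IrrD r u ∧ u ≠ X - 1 :=
    fun m u hu => by
      obtain ⟨b, -, hb⟩ := Multiset.mem_bind.mp hu
      rcases mem_orb.mp hb with rfl | rfl
      exacts [b1 b, ⟨(b1 b).1.du hr.pos, (b1 b).1.du_ne h.invol hr.pos (b1 b).2⟩]
  have : Finite V := Module.finite_of_finite F
  have : Finite (V ≃ₗ[F] V) := Finite.of_injective _ (DFunLike.coe_injective (F := V ≃ₗ[F] V))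
  rw [card_classes_core (LinearEquiv.automorphismGroup.toLinearMapMonoidHom.comp (Isom B Q).subtype)
    (fun a b e => Subtype.ext (LinearEquiv.toLinearMap_injective e)) hr (fun g g' e1 e2 => ?_)
    (I := {m : Multiset β // D * m.card ≤ finrank F V ∧ (D * m.card = finrank F V → c)})
    (fun m => m.1.bind fun b => orb σ r (j b)) (b2.comp Subtype.val_injective)
    (fun m u hu => (c6 m u hu).imp_left (·.2.2)) (fun g hg => ?_) fun m => ?_]
  · by_cases hc : c
    · simp only [hc, implies_true, and_true, card_mul_le c3, not_true, false_and, if_false, add_zero]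
    · simp only [hc, imp_false, ← lt_iff_le_and_ne, not_false_iff, true_and, card_mul_lt c3 c2]
  · obtain ⟨x, hx⟩ := (tyE_eq_iff _ _).mp e2
    exact isConj_of_odd h hB g g' hx (congrArg Subtype.val e1) h0 (hr.odd_of_ne_two h2)
  · have hg : g.1.toLinearMap ^ r = 1 := by rw [← isom_pow_coe, hg]; rfl
    obtain ⟨m, hm⟩ := b3 _ (inv_tyE h hB h0 g hg)
    have h8 := finrank_eq_sum_tyE g.1.toLinearMap
    rw [eq_filter_add (tyE _), hm, Multiset.map_add, Multiset.sum_add, c5] at h8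
    simp only [Multiset.map_replicate, Multiset.sum_replicate, natDegree_X_sub_one, smul_eq_mul,
      mul_one] at h8
    exact ⟨⟨m, by omega, fun e => H1 g hg (Multiset.count_eq_zero.mp (by omega))⟩, hm⟩
  · have h8 : ∀ b, ¬ j b ∣ X ^ 2 - 1 := fun b h9 => by
      rw [← orderOf_root_dvd_iff,
        orderOf_root_eq_prime (b1 b).1.1 (b1 b).1.2.1 hr (b1 b).1.2.2 (b1 b).2] at h9
      exact h2 ((Nat.prime_dvd_prime_iff_eq hr Nat.prime_two).mp h9)
    obtain ⟨k, g, hg⟩ := H2 _ (P.real_sum m.1 (fun b => orb σ r (j b)) fun b _ =>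
      (P.realD_orb h0 (s := {j b}) (hG.imp_right fun e => ⟨e, by simpa using h8 b⟩) (b1 b).1
        (by simp) one_ne_zero).real) (fun u hu => (c6 m u hu).imp_left (·.2.2))
      (c5 _ ▸ dvd_mul_right _ _) (c5 _ ▸ m.2.1) (c5 _ ▸ m.2.2)
    exact ⟨g, k, hg⟩

theorem dual_data_id {p : ℕ} [Fact p.Prime] [CharP F p] (hr : r.Prime) (h2 : r ≠ 2) (hp : r ≠ p)
    {i t : ℕ} (hi : i = orderOf ((Nat.card F : ℕ) : ZMod r)) (ht : t * i = r - 1) :
    (r : F) ≠ 0 ∧ 0 < i ∧ ((∀ u : PF F r, du (RingHom.id F) r u.1 = u.1) ∧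
      (if Odd i then 2 * i else i) = orderOf ((Nat.card F : ℕ) : ZMod r) ∧
      (if Odd i then t / 2 else t) = Nat.card (PF F r) ∨
      (∀ u : PF F r, du (RingHom.id F) r u.1 ≠ u.1) ∧
      (if Odd i then 2 * i else i) = 2 * orderOf ((Nat.card F : ℕ) : ZMod r) ∧
      (if Odd i then t / 2 else t) = Nat.card (PF F r) / 2) := by
  have := Fact.mk hr
  have h0 : (r : F) ≠ 0 := natCast_ne_zero_of_coprime ((Nat.coprime_primes hr Fact.out).mpr hp)
  have h1 : 0 < i := Nat.pos_of_ne_zero fun e => by have := hr.two_le; rw [e] at ht; omega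
  have h3 : t = Nat.card (PF F r) :=
    Nat.eq_of_mul_eq_mul_right h1 (ht.trans (hi ▸ (card_PF hr h0).2.symm))
  have h4 := fun u => (du_eq_iff (σ := RingHom.id F) (fun _ => rfl) (p := p) (k := 0) (by simp)
    hr u).trans (by simpa using (exists_pow_eq_neg_one_iff h2 (hi ▸ h1)).1)
  refine ⟨h0, h1, ?_⟩
  split_ifs with h
  · exact .inr ⟨fun u => (h4 u).not.mpr (by simpa [← hi] using h), by rw [hi], by rw [h3]⟩
  · exact .inl ⟨fun u => (h4 u).mpr (by simpa [← hi] using h), hi, h3⟩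

section quad
variable {B : V →ₗ[F] V →ₗ[F] F}

theorem card_level_minus {c : F} (hc : c ≠ 0) (ν : ℕ) : ∀ {V : Type*} [AddCommGroup V]
    [Module F V] [FiniteDimensional F V] {B : V →ₗ[F] V →ₗ[F] F} {Q : V → F}, IsQuad B Q →
    B.SeparatingLeft → WittIdx B Q ν → finrank F V = 2 * (ν + 1) →
    (Nat.card {v : V // Q v = c} : ℤ) = (Nat.card F : ℤ) ^ ν * ((Nat.card F : ℤ) ^ (ν + 1) + 1) := by
  induction ν with
  | zero =>
    intro V _ _ _ B Q h hB hν hn
    simp [h.card_level_aniso hB hn (h.wittIdx_zero_iff.mp hν) hc]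
  | succ ν ih =>
    intro V _ _ _ B Q h hB hν hn
    obtain ⟨e, f, he, hf, hef⟩ := h.exists_pair_of_wittIdx hB hν
    have h1 := h.finrank_hperp hB he hf hef
    have := ih (h.restrict _) (h.separatingLeft_hperp hB he hf hef) (h.wittIdx_hperp hB he hf hef hν)
      (by omega)
    rw [(h.step_counts hB he hf hef (n := 2 * (ν + 1)) (by omega)).1, this]
    ring

theorem fpf_congr (h : IsQuad B Q) (hB : B.SeparatingLeft) (hr : r.Prime) (h0 : (r : F) ≠ 0)
    (g : Isom B Q) (hg : g.1.toLinearMap ^ r = 1) (h1 : X - 1 ∉ tyE g.1.toLinearMap) {m : ℕ}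
    (hn : finrank F V = 2 * (m + 1)) :
    (WittIdx B Q (m + 1) → ((Nat.card F : ℕ) : ZMod r) ^ (m + 1) = 1) ∧
      (WittIdx B Q m → ((Nat.card F : ℕ) : ZMod r) ^ (m + 1) = -1) := by
  classical
  have := Fact.mk hr
  have : Finite V := Module.finite_of_finite F
  have := Fintype.ofFinite {v : V // Q v = 1}
  have h2 := kdE_eq_count (fun u => irrD_of_mem h0 hg) (f := X - 1)
    fun v hv => ⟨hv.eq_of_dvd irrD_X_sub_one, fun e => e.dvd⟩
  rw [Multiset.count_eq_zero.mpr h1, zero_mul, kdE, Submodule.finrank_eq_zero] at h2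
  have h3 : ((Nat.card {v : V // Q v = 1} : ℤ) : ZMod r) = 0 := by
    rw [Int.cast_natCast, ZMod.natCast_eq_zero_iff, Nat.card_eq_fintype_card]
    by_contra e
    obtain ⟨v, hv⟩ := Equiv.Perm.exists_fixed_point_of_prime (n := 1) e
      (σ := Equiv.Perm.subtypePerm g.1.toEquiv fun v => by simp [g.2.2]) (Equiv.ext fun v => Subtype.ext (by
        rw [pow_one, Equiv.Perm.subtypePerm_pow]
        simpa [End.pow_apply, Equiv.Perm.coe_pow] using LinearMap.congr_fun hg v))
    have : v.1 = 0 := h2.le (by simpa [sub_eq_zero] using congrArg Subtype.val hv)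
    exact one_ne_zero (v.2.symm.trans (this ▸ h.map_zero))
  have h4 : ((Nat.card F : ℕ) : ZMod r) ≠ 0 := fun e => by
    have := (card_PF hr h0).2
    rw [e, orderOf_zero] at this
    have := hr.two_le; omega
  refine ⟨fun hν => ?_, fun hν => ?_⟩
  · have := congrArg (Int.cast (R := ZMod r)) (card_level_plus one_ne_zero _ h hB hν hn)
    rw [Int.cast_mul, h3] at this
    exact mul_left_cancel₀ (pow_ne_zero (m + 1) h4) (by push_cast at this; linear_combination -this)
  · rw [card_level_minus one_ne_zero _ h hB hν hn] at h3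
    exact mul_left_cancel₀ (pow_ne_zero m h4) (by push_cast at h3; linear_combination h3)

omit [Finite F] in
theorem wittIdx_cancel {U U' : Type*} [AddCommGroup U] [Module F U] [FiniteDimensional F U]
    [AddCommGroup U'] [Module F U'] [FiniteDimensional F U'] {C : U →ₗ[F] U →ₗ[F] F} {R : U → F}
    {C' : U' →ₗ[F] U' →ₗ[F] F} {R' : U' → F} (h : IsQuad B Q) (hB : B.SeparatingLeft)
    (hC : C.SeparatingLeft) (h' : IsQuad C' R') (hC' : C'.SeparatingLeft) (hR : R 0 = 0)
    (e : (V × U) ≃ₗ[F] (V × U')) (e1 : ∀ x y, prodB B C' (e x) (e y) = prodB B C x y)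
    (e2 : ∀ x, Q (e x).1 + R' (e x).2 = Q x.1 + R x.2) {ν : ℕ} (hν : WittIdx C R ν) :
    WittIdx C' R' ν := by
  have hs := isOrthSum_prod B Q C' R'
  obtain ⟨g, hg, h1⟩ := (hs.isForm h h').witt_maps (hs.sep hB hC')
    (e.toLinearMap ∘ₗ LinearMap.inl F V U) (LinearMap.inl F V U')
    (e.injective.comp LinearMap.inl_injective) LinearMap.inl_injective
    (fun x y => by simp [e1]) fun x => by simp [e2, hR, h'.map_zero]
  have h2 : ∀ u, (g (e (0, u))).1 = 0 := fun u => h.separatingRight hB fun x => by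
    have := (hg.1 (e (x, 0)) (e (0, u))).trans (e1 _ _)
    rw [show g (e (x, 0)) = (x, 0) from h1 x] at this
    simpa using this
  let f := LinearMap.snd F V U' ∘ₗ g.toLinearMap ∘ₗ e.toLinearMap ∘ₗ LinearMap.inr F V U
  have h3 : ∀ x y, C' (f x) (f y) = C x y := fun x y => by
    simpa [h2, f] using (hg.1 (e (0, x)) (e (0, y))).trans (e1 _ _)
  exact hν.congr (f.linearEquivOfInjective ((injective_iff_map_eq_zero _).mpr fun x hx =>
    hC _ fun y => by rw [← h3, hx]; simp) (by simpa using e.finrank_eq)) h3 fun x => by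
      simpa [h2, f] using (hg.2 (e (0, x))).trans (e2 _)

theorem realIn_quad_even (h : IsQuad B Q) (hB : B.SeparatingLeft) {s : Multiset F[X]}
    (hs : Real (RingHom.id F) 1 2 (AddMonoidHom.id F) s) {j : ℕ} (he : Even (finrank F V))
    (hj : finrank F V = (s.map natDegree).sum + 2 * (j + 1)) :
    ∃ k, RealIn B Q (s + Multiset.replicate k (X - 1)) := by
  obtain ⟨W, _, _, _, C, R, h1, h2, h3⟩ := hs
  obtain ⟨a, b, hab⟩ := exists_aniso F
  have s1 := isOrthSum_prod C R (bPlus (j + 1) F) (quadFormPlus (j + 1) F)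
  have s2 := isOrthSum_prod C R (bMinus j F a b) (quadFormMinus j F a b)
  have q1 : IsQuad _ _ := s1.isForm h1 (isQuad_plus _ F)
  have q2 : IsQuad _ _ := s2.isForm h1 (isQuad_minus j F a b)
  have n1 := s1.sep h2 (bPlus_sep _ F)
  have n2 := s2.sep h2 (bMinus_sep j hab)
  obtain ⟨m, hm⟩ : ∃ m, finrank F V = 2 * (m + 1) := by
    obtain ⟨m, hm⟩ := he; exact ⟨m - 1, by omega⟩
  have d1 : finrank F (W × (Fin (j + 1) ⊕ Fin (j + 1) → F)) = 2 * (m + 1) := by
    rw [finrank_prod, finrank_plus, h3.finrank_eq, ← hj, hm]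
  have d2 : finrank F (W × ((Fin j ⊕ Fin j) ⊕ Fin 2 → F)) = 2 * (m + 1) := by
    rw [finrank_prod, finrank_minus, h3.finrank_eq, ← hj, hm]
  have k1 : ∀ ν, WittIdx _ _ ν → WittIdx _ _ ν → False := fun ν w1 w2 => by
    obtain ⟨e, e1, e2⟩ := q1.exists_equiv_of_wittIdx n1 q2 n2 (d1 ▸ even_two_mul _)
      (d1.trans d2.symm) w1 w2
    have := (isQuad_minus j F a b).wittIdx_unique (bMinus_sep j hab) (wittIdx_minus j hab)
      (wittIdx_cancel h1 h2 (bPlus_sep _ F) (isQuad_minus j F a b) (bMinus_sep j hab)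
        (isQuad_plus _ F).map_zero e e1 e2 (wittIdx_plus _ F))
    omega
  obtain ⟨ν, hν⟩ := h.exists_wittIdx
  by_cases w : WittIdx (prodB C (bPlus (j + 1) F)) (fun x => R x.1 + quadFormPlus (j + 1) F x.2) ν
  · obtain ⟨e, e1, e2⟩ := q1.exists_equiv_of_wittIdx n1 h hB (d1 ▸ even_two_mul _)
      (d1.trans hm.symm) w hν
    exact ⟨_, (h3.prod (realIn_one _ _)).sim e (a := 1)
      (fun x y => (e1 x y).trans (one_mul _).symm) fun x => (e2 x).trans (one_mul _).symm⟩
  · obtain ⟨e, e1, e2⟩ := q2.exists_equiv_of_wittIdx n2 h hB (d2 ▸ even_two_mul _)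
      (d2.trans hm.symm) (by
        rcases h.wittIdx_even_cases hB hm with w0 | w0 <;> obtain rfl := h.wittIdx_unique hB w0 hν
        · exact (q2.wittIdx_even_cases n2 d2).resolve_right
            (k1 _ ((q1.wittIdx_even_cases n1 d1).resolve_left w))
        · exact (q2.wittIdx_even_cases n2 d2).resolve_left
            (k1 _ ((q1.wittIdx_even_cases n1 d1).resolve_right w))) hν
    exact ⟨_, (h3.prod (realIn_one _ _)).sim e (a := 1)
      (fun x y => (e1 x y).trans (one_mul _).symm) fun x => (e2 x).trans (one_mul _).symm⟩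

open Classical in
/-- Classes of elements of odd prime order in even-dimensional orthogonal groups. -/
theorem card_classes_quad_even {p : ℕ} [Fact p.Prime] [CharP F p] (h : IsQuad B Q)
    (hB : B.SeparatingLeft) (hr : r.Prime) (h2 : r ≠ 2) (hp : r ≠ p) {i t : ℕ}
    (hi : i = orderOf ((Nat.card F : ℕ) : ZMod r)) (ht : t * i = r - 1) {m : ℕ}
    (hn : finrank F V = 2 * (m + 1)) {η : ZMod r}
    (hη : WittIdx B Q (m + 1) ∧ η = 1 ∨ WittIdx B Q m ∧ η = -1) {D t' : ℕ}
    (hD : D = if Odd i then 2 * i else i) (ht' : t' = if Odd i then t / 2 else t) :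
    Nat.card {C : ConjClasses (Isom B Q) // ∃ g, ConjClasses.mk g = C ∧ orderOf g = r} + 1 +
      (if ¬ ((Nat.card F : ℕ) : ZMod r) ^ (m + 1) = η ∧ D ∣ 2 * (m + 1) then
        (2 * (m + 1) / D + t' - 1).choose (t' - 1) else 0) = (2 * (m + 1) / D + t').choose t' := by
  obtain ⟨h0, -, h3⟩ := dual_data_id hr h2 hp hi ht
  have : Fact (2 < r) := ⟨lt_of_le_of_ne hr.two_le h2.symm⟩
  rw [← hn, hD, ht']
  refine card_classes_form h par_quad hB hr h2 h0 (.inr rfl) _ h3 (fun g g1 g2 => ?_)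
    fun s s1 s2 s3 s4 s5 => ?_
  · rcases hη with ⟨w, rfl⟩ | ⟨w, rfl⟩
    exacts [(fpf_congr h hB hr h0 g g1 g2 hn).1 w, (fpf_congr h hB hr h0 g g1 g2 hn).2 w]
  rcases s4.lt_or_eq with s4 | s4
  · obtain ⟨k, hk⟩ : 2 ∣ (s.map natDegree).sum := Dvd.dvd.trans (by
      split_ifs with e
      exacts [dvd_mul_right _ _, (Nat.not_odd_iff_even.mp e).two_dvd]) s3
    exact realIn_quad_even h hB s1 (hn ▸ even_two_mul _) (j := m - k) (by omega)
  obtain ⟨W, _, _, _, C, R, w1, w2, w3⟩ := s1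
  have w4 := w3.finrank_eq.trans s4
  obtain ⟨g, rfl⟩ := id w3
  have w5 := fpf_congr w1 w2 hr h0 g ((pow_eq_one_iff_tyE _ _).mpr fun u hu => (s2 u hu).1)
    (fun hu => (s2 _ hu).2 rfl) (w4.trans hn)
  rw [s5 s4] at w5
  obtain ⟨ν, w6, w7⟩ : ∃ ν, WittIdx C R ν ∧ WittIdx B Q ν := by
    rcases hη with ⟨w, rfl⟩ | ⟨w, rfl⟩
    · exact ⟨_, (IsQuad.wittIdx_even_cases w1 w2 (w4.trans hn)).resolve_right fun e =>
        ZMod.neg_one_ne_one (w5.2 e).symm, w⟩
    · exact ⟨_, (IsQuad.wittIdx_even_cases w1 w2 (w4.trans hn)).resolve_left fun e =>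
        ZMod.neg_one_ne_one (w5.1 e), w⟩
  obtain ⟨e, e1, e2⟩ := IsQuad.exists_equiv_of_wittIdx w1 w2 h hB
    ((w4.trans hn) ▸ even_two_mul _) w4 w6 w7
  exact ⟨0, by simpa using w3.sim e (a := 1) (by simpa) (by simpa)⟩

end quad

theorem card_classes_alt' {p : ℕ} [Fact p.Prime] [CharP F p] {B : LinearMap.BilinForm F V}
    (hA : B.IsAlt) (hB : B.SeparatingLeft) (hr : r.Prime) (h2 : r ≠ 2) (hp : r ≠ p) {i t : ℕ}
    (hi : i = orderOf ((Nat.card F : ℕ) : ZMod r)) (ht : t * i = r - 1) {D t' : ℕ}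
    (hD : D = if Odd i then 2 * i else i) (ht' : t' = if Odd i then t / 2 else t) :
    Nat.card {C : ConjClasses (Isom (σ := RingHom.id F) B fun _ => 0) //
      ∃ g, ConjClasses.mk g = C ∧ orderOf g = r} + 1 = (finrank F V / D + t').choose t' := by
  obtain ⟨h0, -, h3⟩ := dual_data_id hr h2 hp hi ht
  rw [hD, ht']
  simpa using card_classes_form (isForm_alt hA) par_alt hB hr h2 h0 (.inr rfl) True h3
    (fun _ _ _ => trivial) fun s s1 _ _ s4 _ => by
      obtain ⟨k, hk⟩ : Even (finrank F V - (s.map natDegree).sum) := by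
        obtain ⟨W, _, _, _, C, R, w1, w2, w3⟩ := s1
        have hC : C.IsAlt := fun x => by simpa using w1.diag x
        exact (Nat.even_sub s4).mpr (iff_of_true (even_finrank_of_alt
          (hA.isRefl.nondegenerate_iff_separatingLeft.mpr hB) hA) (w3.finrank_eq ▸
            even_finrank_of_alt (hC.isRefl.nondegenerate_iff_separatingLeft.mpr w2) hC))
      exact ⟨_, (s1.add ⟨_, _, _, _, _, _, isForm_alt (spBilin_isAlt (l := Fin k)),
        spBilin_nondegenerate.1, realIn_one _ _⟩).alt hA hB (by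
          rw [Multiset.map_add, Multiset.sum_add]
          generalize (s.map natDegree).sum = d at s4 hk ⊢
          simp [natDegree_X_sub_one]; omega)⟩

theorem card_classes_quad_odd {p : ℕ} [Fact p.Prime] [CharP F p] {B : V →ₗ[F] V →ₗ[F] F}
    (h : IsQuad B Q) (hB : B.SeparatingLeft) (h2' : (2 : F) ≠ 0) (ho : Odd (finrank F V))
    (hr : r.Prime) (h2 : r ≠ 2) (hp : r ≠ p) {i t : ℕ}
    (hi : i = orderOf ((Nat.card F : ℕ) : ZMod r)) (ht : t * i = r - 1) {D t' : ℕ}
    (hD : D = if Odd i then 2 * i else i) (ht' : t' = if Odd i then t / 2 else t) :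
    Nat.card {C : ConjClasses (Isom B Q) // ∃ g, ConjClasses.mk g = C ∧ orderOf g = r} + 1 =
      (finrank F V / D + t').choose t' := by
  classical
  obtain ⟨h0, -, h3⟩ := dual_data_id hr h2 hp hi ht
  rw [hD, ht']
  simpa using card_classes_form h par_quad hB hr h2 h0 (.inr rfl) True h3
    (fun _ _ _ => trivial) fun s s1 _ _ s4 _ => by
      obtain ⟨W, _, _, _, C, R, w1, w2, w3⟩ := s1.add (real_quad_unip h2'
        (s := Multiset.replicate (finrank F V - (s.map natDegree).sum) (X - 1))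
        (fun u hu => ⟨1, one_pos, by simp [Multiset.eq_of_mem_replicate hu]⟩) fun j j1 j2 => by
          rw [Multiset.count_eq_zero.mpr fun hu => by
            have := congrArg natDegree (Multiset.eq_of_mem_replicate hu)
            rw [natDegree_X_sub_one_pow, natDegree_X_sub_one] at this
            simp [this] at j1]
          exact Even.zero)
      have w4 : finrank F W = finrank F V := by
        rw [w3.finrank_eq, Multiset.map_add, Multiset.sum_add]
        generalize (s.map natDegree).sum = d at s4 ⊢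
        simp [natDegree_X_sub_one]; omega
      obtain ⟨c, e, -, e1, e2⟩ := IsQuad.exists_equiv_of_odd w1 w2 h hB (w4 ▸ ho) w4
      exact ⟨_, w3.sim e e1 e2⟩

theorem card_classes_herm {p q : ℕ} [Fact p.Prime] [CharP F p] (hq : QConj σ q) (hH : IsHerm B)
    (hB : B.SeparatingLeft) (hr : r.Prime) (h2 : r ≠ 2) (hp : r ≠ p) {i b s : ℕ}
    (hi : i = orderOf (q : ZMod r)) (hb : b = if Odd i then i else i / 2) (hs : s * b = r - 1)
    {D t : ℕ} (hD : D = if i % 4 = 2 then b else 2 * b) (ht : t = if i % 4 = 2 then s else s / 2) :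
    Nat.card {C : ConjClasses (UIsom B) // ∃ g, ConjClasses.mk g = C ∧ orderOf g = r} + 1 =
      (finrank F V / D + t).choose t := by
  have := Fact.mk hr
  have := Fintype.ofFinite F
  have h0 : (r : F) ≠ 0 := natCast_ne_zero_of_coprime ((Nat.coprime_primes hr Fact.out).mpr hp)
  have h1 : 0 < b := Nat.pos_of_ne_zero fun e => by have := hr.two_le; rw [e] at hs; omega
  have h4 : 0 < i := Nat.pos_of_ne_zero fun e => by simp [hb, e] at h1
  have h5 : b = orderOf ((Nat.card F : ℕ) : ZMod r) := by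
    rw [hq.card, Nat.cast_pow, orderOf_pow' _ two_ne_zero, ← hi, hb]
    split_ifs with h
    · rw [Nat.coprime_two_right.mpr h, Nat.div_one]
    · rw [Nat.gcd_eq_right (Nat.not_odd_iff_even.mp h).two_dvd]
  have h3 : s = Nat.card (PF F r) :=
    Nat.eq_of_mul_eq_mul_right h1 (hs.trans (h5 ▸ (card_PF hr h0).2.symm))
  obtain ⟨k, hk⟩ := exists_eq_char_pow (Nat.card_eq_fintype_card.symm.trans hq.card)
  rw [ringChar.eq F p] at hk
  have h6 := fun u => (du_eq_iff hq.invol (p := p) (k := k) (hk ▸ hq.eq) hr u).trans (by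
    simpa [-Nat.card_eq_fintype_card, hq.card, ← hk, ← pow_mul, ← pow_succ] using (exists_pow_eq_neg_one_iff h2 (hi ▸ h4)).2)
  obtain ⟨a, ha⟩ := exists_trace_eq hq.ne_id hq.invol (map_one σ)
  simpa using card_classes_form hH.form (par_herm hq.invol) hB hr h2 h0 (.inl ⟨a, by simp [ha]⟩)
    True (D := D) (t := t) (by
      rw [hD, ht]
      split_ifs with h
      · exact .inl ⟨fun u => (h6 u).mpr (hi ▸ h), h5, h3⟩
      · exact .inr ⟨fun u => (h6 u).not.mpr (hi ▸ h), by rw [h5], by rw [h3]⟩)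
    (fun _ _ _ => trivial) fun s s1 _ _ s4 _ => ⟨_, (s1.add (real_herm_unip hq.ne_id hq.invol
      (s := Multiset.replicate (finrank F V - (s.map natDegree).sum) (X - 1))
      fun u hu => ⟨1, one_pos, by simp [Multiset.eq_of_mem_replicate hu]⟩)).herm hH hB
        (by
          rw [Multiset.map_add, Multiset.sum_add]
          generalize (s.map natDegree).sum = d at s4 ⊢
          simp [natDegree_X_sub_one]; omega)⟩

end Cfsg.Agent.H10
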