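import Mathlib

/-! Small lemmas on second maximal subgroups and wreath products. -/

set_option autoImplicit false

namespace Cfsg.Agent.H10

open Subgroup

variable {G : Type*} [Group G]

theorem exists_coatom_not_coatom [Finite G] {H L L' : Subgroup G} (h1 : H ≤ L) (h2 : L ≤ L')
    {a b c : G} (ha : a ∈ L) (ha' : a ∉ H) (hb : b ∈ L') (hb' : b ∉ L) (hc : c ∉ L') :
    ∃ K : Subgroup G, IsCoatom K ∧ H ≤ K ∧ ¬ IsCoatom (H.subgroupOf K) := by
  obtain ⟨K, hK, hle⟩ := (eq_top_or_exists_le_coatom L').resolve_left fun e => hc (e ▸ mem_top c)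
  refine ⟨K, hK, h1.trans (h2.trans hle), fun h => hb' ?_⟩
  have := h.2 (L.subgroupOf K) (lt_of_le_of_ne (comap_mono h1) fun e => ha' (by
    have : (⟨a, hle (h2 ha)⟩ : K) ∈ L.subgroupOf K := ha
    rw [← e] at this
    exact this))
  have k : (⟨b, hle hb⟩ : K) ∈ L.subgroupOf K := this ▸ mem_top _
  exact k

theorem derivedSeries_ne_bot_of_section {S : Type*} [Group S] {B N : Subgroup G} (ev : B →* S)
    (h : ∀ s, ∃ b : B, b.1 ∈ N ∧ ev b = s) {d : ℕ} (hS : derivedSeries S d ≠ ⊥) :
    derivedSeries N d ≠ ⊥ := fun hN => hS (by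
  have hs : Function.Surjective (ev.comp (inclusion (inf_le_left : B ⊓ N ≤ B))) := fun s => by
    obtain ⟨b, hb, rfl⟩ := h s
    exact ⟨⟨b.1, b.2, hb⟩, rfl⟩
  have h1 := map_derivedSeries_le_derivedSeries (inclusion (inf_le_right : B ⊓ N ≤ N)) d
  rw [hN, le_bot_iff, map_eq_bot_iff_of_injective _ (inclusion_injective _)] at h1
  have h2 := derivedSeries_le_map_derivedSeries hs d
  rwa [h1, Subgroup.map_bot, le_bot_iff] at h2)

section wreath

open RegularWreathProduct

variable {D Q : Type*} [Group D] [Group Q]

/-- Evaluation of the base group at the identity. -/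
def wrEv (D Q : Type*) [Group D] [Group Q] :
    (rightHom : RegularWreathProduct D Q →* Q).ker →* D where
  toFun b := b.1.left 1
  map_one' := rfl
  map_mul' a b := by
    have : a.1.right = 1 := a.2
    simp [this]

theorem wr_derived {N : Subgroup (RegularWreathProduct D Q)} {q : Q} (hq : q ≠ 1)
    (hN : ∀ w : RegularWreathProduct D Q, w * inl q * w⁻¹ * (inl q)⁻¹ ∈ N) {d : ℕ}
    (hD : derivedSeries D d ≠ ⊥) : derivedSeries N d ≠ ⊥ := by
  classical
  refine derivedSeries_ne_bot_of_section (wrEv D Q)
    (fun s => ⟨⟨_, ?_⟩, hN ⟨Pi.mulSingle 1 s, 1⟩, ?_⟩) hD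
  · simp [MonoidHom.mem_ker]
  · simp [wrEv, hq]

theorem wr_solvable_ker [Group.IsSolvable D] :
    Group.IsSolvable (rightHom : RegularWreathProduct D Q →* Q).ker := by
  let f : (rightHom : RegularWreathProduct D Q →* Q).ker →* (Q → D) :=
    { toFun := fun b => b.1.left
      map_one' := rfl
      map_mul' := fun a b => by
        have : a.1.right = 1 := a.2
        ext; simp [this] }
  have : Group.IsSolvable (Q → D) := by
    obtain ⟨n, hn⟩ := ‹Group.IsSolvable D›
    refine ⟨⟨n, eq_bot_iff.mpr fun x hx => funext fun q => ?_⟩⟩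
    have := map_derivedSeries_le_derivedSeries (Pi.evalMonoidHom (fun _ : Q => D) q) n ⟨x, hx, rfl⟩
    rw [hn] at this
    exact this
  exact Group.isSolvable_of_isSolvable_injective (f := f) fun a b e =>
    Subtype.ext (RegularWreathProduct.ext e (a.2.trans b.2.symm))

theorem exists_solvable_derived (d : ℕ) : ∃ (S : Type) (_ : Group S) (_ : Finite S),
    Group.IsSolvable S ∧ derivedSeries S d ≠ ⊥ := by
  induction d with
  | zero => exact ⟨Multiplicative (ZMod 2), inferInstance, inferInstance, inferInstance, by simp⟩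
  | succ d ih =>
    obtain ⟨S, _, _, hS, hd⟩ := ih
    refine ⟨RegularWreathProduct S (Multiplicative (ZMod 2)), inferInstance, inferInstance, ?_, ?_⟩
    · have := wr_solvable_ker (D := S) (Q := Multiplicative (ZMod 2))
      exact Group.isSolvable_of_ker_le_range (rightHom.ker.subtype) rightHom (by simp)
    · have h1 := wr_derived (N := commutator _) (q := Multiplicative.ofAdd (1 : ZMod 2)) (by decide)
        (fun w => commutator_mem_commutator (mem_top _) (mem_top _)) hd
      have h2 : ∀ n, (derivedSeries (commutator (RegularWreathProduct S (Multiplicative (ZMod 2))))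
          n).map (Subgroup.subtype _) ≤ derivedSeries _ (n + 1) := fun n => by
        induction n with
        | zero => exact map_subtype_le _
        | succ n ih =>
          rw [derivedSeries_succ, map_commutator, derivedSeries_succ]
          exact commutator_mono ih ih
      intro e
      have h3 := h2 d
      rw [e, le_bot_iff, map_eq_bot_iff_of_injective _ (subtype_injective _)] at h3
      exact h1 h3

end wreath

end Cfsg.Agent.H10
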